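import Cfsg.Agent.H97.CSix.Frame
import Cfsg.Agent.Aschbacher.Subfield

/-!
The order of an absolutely irreducible group of symplectic type with centre of order four.
-/

set_option autoImplicit false
set_option linter.unusedSectionVars false

namespace Cfsg.Agent.H97.CSix

open Matrix

variable {F : Type*} [Field F] [Finite F] {n : Type} [Fintype n] [DecidableEq n] [Nonempty n]

/-- A lower bound from spanning. -/
theorem card_ge {R : Subgroup (GL n F)} (hRi : Cfsg.Geo.ActsAbsolutelyIrreducibly (Cfsg.Geo.matrixSet R))
    (hRZ : Nat.card (Subgroup.center R) = 4) : 4 * (Fintype.card n * Fintype.card n) ≤ Nat.card R := by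
  classical
  have hfin : Finite R := Finite.of_injective (fun g : R => ((g : GL n F) : Matrix n n F))
    fun a b h => Subtype.ext (Units.ext h)
  rw [Subgroup.card_eq_card_quotient_mul_card_subgroup (Subgroup.center R), hRZ, mul_comm]
  refine Nat.mul_le_mul_right 4 ?_
  letI := Fintype.ofFinite (R ⧸ Subgroup.center R)
  let v : R ⧸ Subgroup.center R → Matrix n n F := fun q => ((q.out : R) : GL n F)
  set S := Submodule.span F (Set.range v) with hS
  have hmem : ∀ g : R, ((g : GL n F) : Matrix n n F) ∈ S := by
    intro g
    obtain ⟨z, hz⟩ : ∃ z : Subgroup.center R, (QuotientGroup.mk g : R ⧸ Subgroup.center R).out = g * z :=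
      QuotientGroup.mk_out_eq_mul _ g
    obtain ⟨c, hc⟩ := hRi.2 ((z : R) : GL n F) (by
      rintro _ ⟨h, hh, rfl⟩
      have e := congrArg (fun a : R => ((a : GL n F) : Matrix n n F)) (Subgroup.mem_center_iff.1 z.2 ⟨h, hh⟩)
      exact e.symm)
    have hc0 : c ≠ 0 := by
      rintro rfl
      exact ((z : R) : GL n F).ne_zero (by rw [hc, zero_smul])
    have e : ((g : GL n F) : Matrix n n F) = c⁻¹ • v (QuotientGroup.mk g) := by
      show _ = c⁻¹ • ((((QuotientGroup.mk g : R ⧸ Subgroup.center R).out : R) : GL n F) : Matrix n n F)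
      rw [hz, Subgroup.coe_mul, Units.val_mul, hc, mul_smul_comm, mul_one, smul_smul, inv_mul_cancel₀ hc0, one_smul]
    rw [e]
    exact Submodule.smul_mem _ _ (Submodule.subset_span ⟨_, rfl⟩)
  have hclosed : ∀ a ∈ S, ∀ b ∈ S, a * b ∈ S := by
    intro a ha b hb
    induction ha using Submodule.span_induction with
    | mem a ha =>
      induction hb using Submodule.span_induction with
      | mem b hb =>
        obtain ⟨p, rfl⟩ := ha
        obtain ⟨q, rfl⟩ := hb
        exact hmem ((p.out : R) * (q.out : R))
      | zero => rw [mul_zero]; exact zero_mem _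
      | add b b' _ _ h h' => rw [mul_add]; exact add_mem h h'
      | smul t b _ h => rw [mul_smul_comm]; exact Submodule.smul_mem _ _ h
    | zero => rw [zero_mul]; exact zero_mem _
    | add a a' _ _ h h' => rw [add_mul]; exact add_mem h h'
    | smul t a _ h => rw [smul_mul_assoc]; exact Submodule.smul_mem _ _ h
  have htop : S = ⊤ := by
    rw [eq_top_iff]
    intro M _
    have hM : M ∈ Aschbacher.env R := by rw [Aschbacher.env_eq_top hRi]; trivial
    induction hM using Algebra.adjoin_induction with
    | mem x hx => obtain ⟨g, hg, rfl⟩ := hx; exact hmem ⟨g, hg⟩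
    | algebraMap c =>
      rw [Algebra.algebraMap_eq_smul_one]
      exact Submodule.smul_mem _ _ (by simpa using hmem 1)
    | add x y _ _ hx hy => exact Submodule.add_mem _ (hx trivial) (hy trivial)
    | mul x y _ _ hx hy => exact hclosed _ (hx trivial) _ (hy trivial)
  have h1 := finrank_range_le_card (R := F) v
  rw [Set.finrank, ← hS, htop, finrank_top, Module.finrank_matrix, Module.finrank_self, mul_one] at h1
  rwa [Nat.card_eq_fintype_card]

end Cfsg.Agent.H97.CSix
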