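import Cfsg.Agent.H97.CSix.Std
import Cfsg.Agent.H97.CSix.Card
import Cfsg.Agent.H57.SLSmall.Geometric
import Cfsg.Agent.H98.SmallLinear.Tensor
import Cfsg.Agent.H98.SmallLinear.Unitary
import Cfsg.Agent.S5886

/-!
The symplectic type clause for SL_8.
-/

set_option autoImplicit false

namespace Cfsg.Agent.H97.CSix

/-- The symplectic type clause, given the statement in dimension four. -/
theorem symp_clause {F : Type*} [Field F] [Fintype F] (hF : (2 : F) ≠ 0) (hB : ∀ r : Root F, BaseFour r)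
    {R : Subgroup (Matrix.GeneralLinearGroup (Fin 8) F)} (hR : Cfsg.Geo.IsLinearSymplecticTypeData 2 R) :
    Cfsg.Geo.IsMaximalIn (Cfsg.Geo.specialLinear (Fin 8) F)
      (Cfsg.Geo.subgroupNormalizer R ⊓ Cfsg.Geo.specialLinear (Fin 8) F) := by
  obtain ⟨p, e, -, -, h⟩ := hR.field
  rcases h with ⟨h2, -⟩ | ⟨-, -, hZ, -, -⟩ | ⟨-, -, hn, -⟩
  · exact absurd h2 (by decide)
  · have hge := card_ge hR.absIrred hZ
    exact isMaximalIn_symp hR hF (by simpa using hge) hZ hB
  · simp at hn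

end Cfsg.Agent.H97.CSix
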