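import Cfsg.Agent.H97.CSix.Eight
import Cfsg.Agent.Linear.Generation
import Cfsg.Prelude.Def_GeometricClasses

/-!
A controlled gate outside the standard group yields the special linear group, given the statement in dimension four.
-/

set_option autoImplicit false
set_option linter.unusedSectionVars false

namespace Cfsg.Agent.H97.CSix

open Matrix
open scoped commutatorElement

/-- The index set of dimension four. -/
abbrev Four : Type := ZMod 2 × ZMod 2

/-- The statement needed in dimension four. -/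
def BaseFour {F : Type*} [Field F] (r : Root F) : Prop :=
  ∀ X : Subgroup (GL Four F), r.gam Four ≤ X →
    (∃ g ∈ X, g ∈ Cfsg.Geo.specialLinear Four F ∧ g ∉ r.Y Four) → Cfsg.Geo.specialLinear Four F ≤ X

section General

variable {F : Type*} [Field F] {ι : Type} [Fintype ι] [DecidableEq ι]

/-- The elementary transvection as a unit. -/
def tv {i j : ι} (h : i ≠ j) (c : F) : GL ι F :=
  Matrix.SpecialLinearGroup.toGL (Matrix.SpecialLinearGroup.transvection h c)

theorem tv_val {i j : ι} (h : i ≠ j) (c : F) : ((tv h c : GL ι F) : Matrix ι ι F) = Matrix.transvection i j c := rfl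

theorem tv_mem {i j : ι} (h : i ≠ j) (c : F) : (tv h c : GL ι F) ∈ Cfsg.Geo.specialLinear ι F := by
  rw [Cfsg.Geo.specialLinear, MonoidHom.mem_ker]
  exact Units.ext (by simp [tv_val, Matrix.det_transvection_of_ne _ _ h])

theorem tv_comm {i j k : ι} (hik : i ≠ k) (hkj : k ≠ j) (hij : i ≠ j) (a b : F) :
    ⁅(tv hik a : GL ι F), tv hkj b⁆ = tv hij (a * b) := by
  rw [tv, tv, tv, ← map_commutatorElement, Linear.commutator_transvections hik hkj hij]

theorem specialLinear_le {H : Subgroup (GL ι F)} (h : ∀ (i j : ι) (hij : i ≠ j) (c : F), tv hij c ∈ H) :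
    Cfsg.Geo.specialLinear ι F ≤ H := by
  intro g hg
  rw [Cfsg.Geo.specialLinear, MonoidHom.mem_ker] at hg
  have hd : (g : Matrix ι ι F).det = 1 := by simpa using congrArg Units.val hg
  obtain ⟨A, hA⟩ : ∃ A : Matrix.SpecialLinearGroup ι F, Matrix.SpecialLinearGroup.toGL A = g :=
    ⟨⟨(g : Matrix ι ι F), hd⟩, Units.ext rfl⟩
  have htop := Linear.eq_top_of_transvection_mem (H := H.comap Matrix.SpecialLinearGroup.toGL) h
  have hm : A ∈ H.comap Matrix.SpecialLinearGroup.toGL := by rw [htop]; exact Subgroup.mem_top _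
  rw [← hA]
  exact hm

theorem tv_conj_perm [AddCommGroup ι] [Qubits ι] (σ : Equiv.Perm ι) {i j : ι} (h : i ≠ j) (c : F) :
    (permU σ : GL ι F) * tv h c * (permU σ)⁻¹ = tv (σ.injective.ne h) c := by
  refine Units.ext (Matrix.ext fun u v => ?_)
  obtain ⟨u, rfl⟩ := σ.surjective u
  obtain ⟨v, rfl⟩ := σ.surjective v
  rw [permU_conj, tv_val, tv_val]
  simp [Matrix.transvection, Matrix.single_apply, Matrix.one_apply, σ.injective.eq_iff]

theorem bdU_tv {β : Type} [AddCommGroup β] [Qubits β] [Fintype β] [DecidableEq β] {i j : β} (h : i ≠ j) (c : F) :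
    bdU 1 (tv h c : GL β F) = tv (i := ((1 : ZMod 2), i)) (j := ((1 : ZMod 2), j))
      (fun e => h (congrArg Prod.snd e)) c := by
  refine Units.ext (Matrix.ext fun u v => ?_)
  obtain ⟨u1, u2⟩ := u
  obtain ⟨v1, v2⟩ := v
  rw [bdU_val, tv_val, tv_val, bd_apply]
  rcases z2_cases u1 with rfl | rfl <;> rcases z2_cases v1 with rfl | rfl <;>
    simp [Matrix.transvection, Matrix.single_apply, Matrix.one_apply, z2_ne, z2_ne.symm]

theorem bdU_tv' {β : Type} [AddCommGroup β] [Qubits β] [Fintype β] [DecidableEq β] {i j : β} (h : i ≠ j) (c : F) :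
    bdU (tv h c : GL β F) 1 = tv (i := ((0 : ZMod 2), i)) (j := ((0 : ZMod 2), j))
      (fun e => h (congrArg Prod.snd e)) c := by
  refine Units.ext (Matrix.ext fun u v => ?_)
  obtain ⟨u1, u2⟩ := u
  obtain ⟨v1, v2⟩ := v
  rw [bdU_val, tv_val, tv_val, bd_apply]
  rcases z2_cases u1 with rfl | rfl <;> rcases z2_cases v1 with rfl | rfl <;>
    simp [Matrix.transvection, Matrix.single_apply, Matrix.one_apply, z2_ne, z2_ne.symm]

end General

variable {F : Type*} [Field F] [Fintype F] (r : Root F) {H : Subgroup (GL Eight F)} (hH : r.gam Eight ≤ H)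
  (hB : BaseFour r)
include hH hB

theorem projX_ge (hN : ¬ NoCtrl r H) : Cfsg.Geo.specialLinear Four F ≤ projX H := by
  simp only [NoCtrl, not_forall] at hN
  obtain ⟨x₀, hx₀, hR⟩ := hN
  set D : GL Four F := bdU 1 x₀
  set x : GL Four F := x1
  have hx : x * x = 1 := pu_sq_of_dot (Qubits.zero_dot _)
  have hw : D * x * D⁻¹ * (D * x * D⁻¹) = 1 := by
    rw [show D * x * D⁻¹ * (D * x * D⁻¹) = D * (x * x) * D⁻¹ by group, hx, mul_one, mul_inv_cancel]
  have hT : r.T x hx ∈ projX H := gam_le_projX r hH (r.T_mem_gam hx (pu_mem _ _ _ _))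
  refine hB _ (fun n hn => gam_le_projX r hH hn) ⟨D * r.T x hx * D⁻¹ * (r.T x hx)⁻¹,
    mul_mem (mul_mem (mul_mem hx₀ hT) (inv_mem hx₀)) (inv_mem hT), ?_, fun hY => hR ?_⟩
  · rw [Cfsg.Geo.specialLinear, MonoidHom.mem_ker, map_mul, map_mul, map_mul, map_inv, map_inv,
      mul_inv_cancel_comm, mul_inv_cancel]
  rw [conj_T r hx hw] at hY
  have hTY : r.T _ hw ∈ r.Y Four := by
    have := mul_mem hY (r.T_mem_Y hx (pu_mem _ _ _ _))
    rwa [inv_mul_cancel_right] at this
  set z : GL Four F := z1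
  have hDz : D⁻¹ * z * D = z := Units.ext (by
    simp only [D, Units.val_mul, bdU_inv, bdU_val, z, z1_val, bd_mul, inv_one, Units.val_one, mul_one, mul_neg,
      neg_mul, Units.inv_mul])
  have hanti : D * x * D⁻¹ * z = -(z * (D * x * D⁻¹)) := by
    have hxz : x * z = -(z * x) := Units.ext (by
      rw [Units.val_mul, Units.val_neg, Units.val_mul, pu_val, pu_val, pmat_comm]
      simp [dot_prod, Qubits.zero_dot, Qubits.dot_zero])
    have e : D * x * D⁻¹ * z = D * (x * (D⁻¹ * z * D)) * D⁻¹ := by group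
    rw [e, hDz, hxz]
    have e2 : z * (D * x * D⁻¹) = D * ((D⁻¹ * z * D) * x) * D⁻¹ := by group
    rw [e2, hDz, mul_neg, neg_mul]
  have hwR : D * x * D⁻¹ ∈ r.R Four := by
    have hzR : z ∈ r.R Four := pu_mem _ _ _ _
    have := r.conj_mem hTY hzR
    rw [r.T_anti hw hanti] at this
    have := mul_mem (mul_mem (inv_mem (neg_mem_std _ _ (iu_mem r.i r.sq))) this) (inv_mem hzR)
    rwa [inv_mul_cancel_left, mul_inv_cancel_right] at this
  have hb : bdU x₀ x₀⁻¹ ∈ r.R Four := by
    have := mul_mem (inv_mem (pu_mem r.i r.sq ((1 : ZMod 2), (0 : ZMod 2)) 0)) hwR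
    have hxi : x⁻¹ = x := inv_eq_of_mul_eq_one_right hx
    rwa [show (x⁻¹ * (D * x * D⁻¹) : GL Four F) = bdU x₀ x₀⁻¹ by
      rw [show x⁻¹ * (D * x * D⁻¹) = x⁻¹ * D * x * D⁻¹ by group, hxi]
      nth_rw 2 [← hxi]
      rw [x1_conj, bdU_inv, bdU_mul, inv_one, one_mul, mul_one]] at this
  obtain ⟨a, ha, b, -, -, e | e⟩ := r.R_decomp hb
  · rwa [(bdU_inj e).1]
  · exfalso
    have hc : x1 * (z1 : GL Four F) = z1 * x1 := by
      have e1 : (x1 : GL Four F) = bdU x₀ x₀⁻¹ * (bdU a b)⁻¹ := by rw [e, mul_inv_cancel_right]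
      rw [e1, bdU_inv, bdU_mul]
      exact Units.ext (by rw [Units.val_mul, Units.val_mul, bdU_val, z1_val, bd_mul, bd_mul, mul_one, one_mul,
        mul_neg_one, neg_one_mul])
    have hv := congrArg (fun M : GL Four F => (M : Matrix Four Four F) (1, 0) (0, 0)) hc
    simp [Units.val_mul, pu_val, pmat, mon_mul, mon_apply, dot_prod, Qubits.dot_zero, Qubits.zero_dot] at hv
    exact r.two (by linear_combination hv)

theorem kerQ_tv (hN : ¬ NoCtrl r H) {i j : Four} (hij : i ≠ j) (c : F) : tv hij c ∈ kerQ H := by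
  have hX := projX_ge r hH hB hN
  have hcomm : ∀ q ∈ kerQ H, ∀ (a b : Four) (h : a ≠ b) (t : F), ⁅q, tv h t⁆ ∈ kerQ H := by
    intro q hq a b h t
    rw [commutatorElement_def, show q * tv h t * q⁻¹ * (tv h t)⁻¹ = q * (tv h t * q⁻¹ * (tv h t)⁻¹) by group]
    exact mul_mem hq (kerQ_conj r hH (hX (tv_mem h t)) (inv_mem hq))
  -- one root subgroup in the kernel
  have hone : ∀ t : F, tv (show ((0, 0) : Four) ≠ (1, 1) by decide) t ∈ kerQ H := by
    intro t
    have n1 : ((0, 0) : Four) ≠ (0, 1) := by decide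
    have n2 : ((1, 0) : Four) ≠ (1, 1) := by decide
    have n3 : ((0, 1) : Four) ≠ (1, 1) := by decide
    set p : GL Four F := pu (1, 0) 0
    have hp : p ∈ kerQ H := R_le_kerQ r hH (pu_mem _ _ _ _)
    have hconj : p * tv n1 1 * p⁻¹ = tv n2 1 := by
      have e : p = permU (Equiv.addRight ((1, 0) : Four)) := by
        refine Units.ext ?_
        rw [pu_val, monU_val, pmat]
        congr 1
        funext x
        rw [Qubits.zero_dot, sg_zero]
      rw [e, tv_conj_perm]
      rfl
    have hq : tv n2 1 * (tv n1 1)⁻¹ ∈ kerQ H := by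
      have := hcomm p hp _ _ n1 (1 : F)
      rwa [commutatorElement_def, hconj] at this
    have h2 := hcomm _ hq _ _ n3 (-t)
    have key : ⁅tv n2 (1 : F) * (tv n1 1)⁻¹, tv n3 (-t)⁆ = tv (show ((0, 0) : Four) ≠ (1, 1) by decide) t := by
      refine Units.ext ?_
      have hinv : ∀ {a b : Four} (h : a ≠ b) (s : F), (tv h s)⁻¹ = (tv h (-s) : GL Four F) := fun h s =>
        inv_eq_of_mul_eq_one_right (Units.ext (by
          rw [Units.val_mul, tv_val, tv_val, Matrix.transvection_mul_transvection_same _ _ h, add_neg_cancel,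
            Matrix.transvection_zero, Units.val_one]))
      rw [commutatorElement_def, _root_.mul_inv_rev, inv_inv, hinv, hinv, hinv]
      simp only [Units.val_mul, tv_val, Matrix.transvection, mul_add, add_mul, one_mul, mul_one,
        Matrix.single_mul_single_same]
      have hneg : ∀ (a b : Four) (x : F), Matrix.single a b (-x) = -Matrix.single a b x := fun a b x => by
        ext u v
        simp only [Matrix.single_apply, Matrix.neg_apply]
        split_ifs <;> simp
      simp [Matrix.single_mul_single_of_ne, hneg]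
      abel
    rwa [key] at h2
  have hrow : ∀ (a b k : Four) (hab : a ≠ b) (hbk : b ≠ k) (hak : a ≠ k),
      (∀ t, tv hab t ∈ kerQ H) → ∀ t, tv hak t ∈ kerQ H := fun a b k hab hbk hak h t => by
    rw [← mul_one t, ← tv_comm hab hbk hak t 1]
    exact hcomm _ (h t) _ _ hbk 1
  have hcol : ∀ (a b k : Four) (hab : a ≠ b) (hka : k ≠ a) (hkb : k ≠ b),
      (∀ t, tv hab t ∈ kerQ H) → ∀ t, tv hkb t ∈ kerQ H := fun a b k hab hka hkb h t => by
    rw [← one_mul t, ← tv_comm hka hab hkb 1 t]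
    have hm := inv_mem (hcomm _ (h t) _ _ hka 1)
    rwa [commutatorElement_inv] at hm
  have hfirst : ∀ (k : Four) (hk : ((0, 0) : Four) ≠ k) (t : F), tv hk t ∈ kerQ H := by
    intro k hk t
    rcases eq_or_ne ((1, 1) : Four) k with rfl | h
    · exact hone t
    · exact hrow _ _ k _ h hk hone t
  by_cases hi : i = (0, 0)
  · subst hi; exact hfirst j hij c
  by_cases hj : j = (0, 0)
  · subst hj
    obtain ⟨k, hk1, hk2⟩ := Linear.exists_third (show 3 ≤ Fintype.card Four by decide) i ((0, 0) : Four)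
    exact hrow i k (0, 0) (Ne.symm hk1) hk2 hij (hcol (0, 0) k i (Ne.symm hk2) hi (Ne.symm hk1) (hfirst k (Ne.symm hk2))) c
  · exact hcol (0, 0) j i (Ne.symm hj) hi hij (hfirst j (Ne.symm hj)) c

/-- A controlled gate gives the special linear group. -/
theorem specialLinear_le_of_ctrl (hN : ¬ NoCtrl r H) : Cfsg.Geo.specialLinear Eight F ≤ H := by
  have side : ∀ (a b : Eight) (hab : a ≠ b), a.1 = b.1 → ∀ t, tv hab t ∈ H := by
    rintro ⟨a1, a2⟩ ⟨b1, b2⟩ hab h t
    obtain rfl : a1 = b1 := h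
    have h2 : a2 ≠ b2 := fun e => hab (by rw [e])
    have hm : bdU 1 (tv h2 t) ∈ H := kerQ_tv r hH hB hN h2 t
    rcases z2_cases a1 with rfl | rfl
    · have := flip_mem r hH hm
      rwa [bdU_tv'] at this
    · rwa [bdU_tv] at hm
  have hsw : ∀ (a b : Eight) (hab : a ≠ b), a.1 = b.1 → ∀ t,
      tv ((swapPerm (ZMod 2)).injective.ne hab) t ∈ H := fun a b hab h t => by
    rw [← tv_conj_perm (swapPerm (ZMod 2)) hab t]
    exact mul_mem (mul_mem (hH r.swap_mem) (side a b hab h t)) (inv_mem (hH r.swap_mem))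
  refine specialLinear_le fun a b hab t => ?_
  by_cases h : a.1 = b.1
  · exact side a b hab h t
  -- a pair crossing the two halves
  obtain ⟨p, q, hp, hq, hpq, hm⟩ : ∃ (p q : Eight) (_ : p.1 = a.1) (_ : q.1 = b.1) (hpq : p ≠ q),
      ∀ t, tv hpq t ∈ H := by
    have hne : ((0, (a.1, 0)) : Eight) ≠ (0, (b.1, 0)) := fun e => h (Prod.mk.inj (Prod.mk.inj e).2).1
    exact ⟨swapPerm (ZMod 2) (0, (a.1, 0)), swapPerm (ZMod 2) (0, (b.1, 0)), rfl, rfl,
      (swapPerm (ZMod 2)).injective.ne hne,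
      fun t => hsw ((0, (a.1, 0)) : Eight) (0, (b.1, 0)) hne rfl t⟩
  have haq : a ≠ q := fun e => h (by rw [e, hq])
  have hmid : ∀ t, tv haq t ∈ H := by
    intro t
    rcases eq_or_ne a p with rfl | hap
    · exact hm t
    · rw [← one_mul t, ← tv_comm hap hpq haq 1 t, commutatorElement_def]
      exact mul_mem (mul_mem (mul_mem (side a p hap hp.symm 1) (hm t)) (inv_mem (side a p hap hp.symm 1)))
        (inv_mem (hm t))
  rcases eq_or_ne q b with rfl | hqb
  · exact hmid t
  · rw [← mul_one t, ← tv_comm haq hqb hab t 1, commutatorElement_def]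
    exact mul_mem (mul_mem (mul_mem (hmid t) (side q b hqb hq 1)) (inv_mem (hmid t)))
      (inv_mem (side q b hqb hq 1))

end Cfsg.Agent.H97.CSix
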