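import Cfsg.Agent.H97.CSix.Basis
import Cfsg.Agent.H97.CSix.Trigger

/-!
The maximality clause in dimension eight, given the statement in dimension four.
-/

set_option autoImplicit false
set_option linter.unusedSectionVars false

namespace Cfsg.Agent.H97.CSix

open Matrix

variable {F : Type*} [Field F]

/-- A group of order 256 is carried to the standard one by an isomorphism of linear groups. -/
theorem exists_std {R : Subgroup (GL (Fin 8) F)} {r : Root F} (hd : SympData R r) (hcard : 256 ≤ Nat.card R) :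
    ∃ Φ : GL (Fin 8) F ≃* GL Eight F,
      (∀ g, (Φ g : Matrix Eight Eight F).det = (g : Matrix (Fin 8) (Fin 8) F).det) ∧
        R.map Φ.toMonoidHom = r.R Eight := by
  classical
  obtain ⟨P, hP⟩ := hd.exists_pairs hcard
  obtain ⟨y, c, hc⟩ : ∃ y c, P.proj y c ≠ 0 := by
    by_contra! h
    exact P.proj_ne_zero r.two (by simp) (Matrix.ext fun y c => h y c)
  let e : Fin 8 ≃ Eight := (Fintype.equivFinOfCardEq (show Fintype.card Eight = 8 by decide)).symm
  set B := P.bas c
  set Bs : Matrix Eight Eight F := B.submatrix e.symm _root_.id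
  have hinj : Function.Injective Bs.mulVec := by
    intro a b h
    refine P.bas_injective r.two ⟨y, hc⟩ (funext fun z => ?_)
    have := congrFun h (e z)
    simpa [Bs, Matrix.mulVec, dotProduct] using this
  obtain ⟨Q, hQ⟩ := Matrix.mulVec_injective_iff_isUnit.1 hinj
  let E := (Units.mapEquiv (Matrix.reindexAlgEquiv F F e).toMulEquiv)
  let Φ : GL (Fin 8) F ≃* GL Eight F := E.trans (MulAut.conj Q⁻¹)
  have hΦ : ∀ g, Φ g = Q⁻¹ * E g * Q := fun g => by simp [Φ, MulAut.conj_apply]
  refine ⟨Φ, fun g => ?_, ?_⟩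
  · rw [hΦ, Units.val_mul, Units.val_mul, Matrix.det_units_conj']
    exact Matrix.det_reindexAlgEquiv F F e _
  have pull : ∀ (g : GL (Fin 8) F) (a b : Eight), (g : Matrix (Fin 8) (Fin 8) F) * B = B * pmat F a b → Φ g = pu a b := by
    intro g a b h
    rw [hΦ, mul_assoc, inv_mul_eq_iff_eq_mul]
    refine Units.ext ?_
    rw [Units.val_mul, Units.val_mul, pu_val, hQ]
    have e1 : (E g : Matrix Eight Eight F) = (g : Matrix (Fin 8) (Fin 8) F).submatrix e.symm e.symm := rfl
    rw [e1]
    simp only [Bs]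
    rw [Matrix.submatrix_mul_equiv, h]
    exact Matrix.submatrix_mul B (pmat F a b) e.symm _root_.id _root_.id Function.bijective_id
  set R' := R.map Φ.toMonoidHom
  have hmem : ∀ g ∈ R, Φ g ∈ R' := fun g hg => ⟨g, hg, rfl⟩
  have hiu : (iu r.i r.sq : GL Eight F) ∈ R' := by
    refine ⟨iS (Fin 8) r, hd.imem _ (iS_val r), ?_⟩
    show Φ (iS (Fin 8) r) = _
    rw [hΦ]
    have e1 : E (iS (Fin 8) r) = iu r.i r.sq := Units.ext (by
      show (Matrix.reindexAlgEquiv F F e) (iS (Fin 8) r : Matrix (Fin 8) (Fin 8) F) = _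
      rw [iS_val, map_smul, map_one, iu_val])
    rw [e1, mul_assoc, (show IsScal (iu r.i r.sq : GL Eight F) from ⟨r.i, iu_val _ _⟩).comm, inv_mul_cancel_left]
  have hneg : ∀ s, (sU s : GL Eight F) ∈ R' := by
    intro s
    rcases z2_cases s with rfl | rfl
    · rw [sU_zero]; exact one_mem _
    · have : (sU 1 : GL Eight F) = iu r.i r.sq * iu r.i r.sq :=
        Units.ext (by simp [sU_val, iu_val, smul_smul, r.sq])
      rw [this]; exact mul_mem hiu hiu
  have hadd : ∀ v w : Eight × Eight, (cl v : GL Eight F) ∈ R' → cl w ∈ R' → cl (v + w) ∈ R' := by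
    intro v w hv hw
    have : (cl (v + w) : GL Eight F) = (sU (dot v.2 w.1))⁻¹ * (cl v * cl w) := by
      rw [cl_mul, inv_mul_cancel_left]
    rw [this]
    exact mul_mem (inv_mem (hneg _)) (mul_mem hv hw)
  have hall : ∀ v : Eight × Eight, (cl v : GL Eight F) ∈ R' := by
    have h0 : (cl 0 : GL Eight F) ∈ R' := by rw [cl_zero]; exact one_mem _
    have hx : ∀ j, (cl (unit3 j, 0) : GL Eight F) ∈ R' := fun j => by
      show pu (unit3 j) 0 ∈ R'
      rw [← pull _ _ _ (P.x_bas c j)]
      exact hmem _ (hP j).2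
    have hz : ∀ j, (cl (0, unit3 j) : GL Eight F) ∈ R' := fun j => by
      show pu 0 (unit3 j) ∈ R'
      rw [← pull _ _ _ (P.z_bas c j)]
      exact hmem _ (hP j).1
    have one : ∀ (v : Eight × Eight) (s : ZMod 2), (cl v : GL Eight F) ∈ R' → cl (s • v) ∈ R' := fun v s hv => by
      rcases z2_cases s with rfl | rfl
      · rwa [zero_smul]
      · rwa [one_smul]
    rintro ⟨⟨a, b, d⟩, ⟨a', b', d'⟩⟩
    have := hadd _ _ (hadd _ _ (hadd _ _ (one _ a (hx 0)) (one _ b (hx 1))) (one _ d (hx 2)))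
      (hadd _ _ (hadd _ _ (one _ a' (hz 0)) (one _ b' (hz 1))) (one _ d' (hz 2)))
    convert this using 2 <;> simp [unit3]
  refine le_antisymm ?_ fun g hg => ?_
  · rintro _ ⟨g, hg, rfl⟩
    have hcomm : ∀ h ∈ R', Φ g * h = h * Φ g ∨ Φ g * h = -(h * Φ g) := by
      rintro _ ⟨h, hh, rfl⟩
      show Φ g * Φ h = Φ h * Φ g ∨ Φ g * Φ h = -(Φ h * Φ g)
      rcases hd.comm g hg h hh with e' | e'
      · exact Or.inl (by rw [← map_mul, e', map_mul])
      · right
        rw [← map_mul, e']
        have hm : Φ (-(h * g)) = Φ (-1) * (Φ h * Φ g) := by rw [← map_mul, ← map_mul, neg_one_mul]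
        have h1 : Φ (-1) = -1 := by
          rw [hΦ]
          have e1 : E (-1) = -1 := Units.ext (by
            show (Matrix.reindexAlgEquiv F F e) (((-1 : GL (Fin 8) F)) : Matrix (Fin 8) (Fin 8) F) = _
            rw [Units.val_neg, Units.val_one, map_neg, map_one, Units.val_neg, Units.val_one])
          rw [e1, mul_neg_one, neg_mul, inv_mul_cancel]
        rw [hm, h1, neg_one_mul]
    obtain ⟨k, a, b, hk⟩ := r.exists_eq_smul (g := Φ g) fun p hp => by
      obtain ⟨v, s, ⟨d, hd'⟩, rfl⟩ := r.exists_sim hp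
      have hs : IsScal s := ⟨d, hd'⟩
      have e1 : Φ g * (s * cl v) * (Φ g)⁻¹ = s * (Φ g * cl v * (Φ g)⁻¹) := by
        rw [← mul_assoc (Φ g), ← hs.comm (Φ g)]; group
      rcases hcomm _ (hall v) with h | h
      · exact Or.inl (by rw [e1, h, mul_inv_cancel_right])
      · exact Or.inr (by rw [e1, h, neg_mul, mul_inv_cancel_right, mul_neg])
    have hsc : IsScal (Φ g * (pu a b)⁻¹) := ⟨k, by
      have hk' : (Φ g : Matrix Eight Eight F) = k • ((pu a b : GL Eight F) : Matrix Eight Eight F) := hk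
      rw [Units.val_mul, hk', smul_mul_assoc, Units.mul_inv]⟩
    obtain ⟨g', hg', he⟩ : Φ g * (pu a b)⁻¹ ∈ R' := mul_mem (hmem g hg) (inv_mem (hall (a, b)))
    have he' : Φ g' = Φ g * (pu a b)⁻¹ := he
    have hs' : IsScal g' := by
      obtain ⟨d, hd'⟩ := hsc
      refine ⟨d, ?_⟩
      have e2 : ((Q * Φ g' * Q⁻¹ : GL Eight F) : Matrix Eight Eight F) = d • 1 := by
        rw [he', ← (show IsScal (Φ g * (pu a b)⁻¹) from ⟨d, hd'⟩).comm Q, mul_inv_cancel_right, hd']
      rw [hΦ, show Q * (Q⁻¹ * E g' * Q) * Q⁻¹ = E g' by group] at e2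
      refine (Matrix.reindexAlgEquiv F F e).injective ?_
      rw [map_smul, map_one]
      exact e2
    obtain ⟨m, hm⟩ := hd.scalar_cases hg' hs'
    have hmR : Φ g * (pu a b)⁻¹ ∈ r.R Eight := by
      rw [← he', hm, map_pow]
      refine pow_mem ?_ _
      have e1 : Φ (iS (Fin 8) r) = iu r.i r.sq := by
        rw [hΦ]
        have e1 : E (iS (Fin 8) r) = iu r.i r.sq := Units.ext (by
          show (Matrix.reindexAlgEquiv F F e) (iS (Fin 8) r : Matrix (Fin 8) (Fin 8) F) = _
          rw [iS_val, map_smul, map_one, iu_val])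
        rw [e1, mul_assoc, (show IsScal (iu r.i r.sq : GL Eight F) from ⟨r.i, iu_val _ _⟩).comm, inv_mul_cancel_left]
      rw [e1]
      exact iu_mem _ _
    have := mul_mem hmR (pu_mem r.i r.sq a b)
    rwa [inv_mul_cancel_right] at this
  · obtain ⟨k, a, b, hk⟩ := hg
    have e1 : g = iu r.i r.sq ^ k * pu a b := Units.ext (by
      rw [hk, Units.val_mul, Units.val_pow_eq_pow_val, iu_val, smul_pow, one_pow, smul_mul_assoc, one_mul, pu_val])
    rw [e1]
    exact mul_mem (pow_mem hiu k) (hall (a, b))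

variable [Fintype F] (r : Root F)

theorem det_pu (a b : Eight) : ((pu a b : GL Eight F) : Matrix Eight Eight F).det = 1 := by
  have e : ((pu a b : GL Eight F) : Matrix Eight Eight F) =
      (Equiv.addRight a).toPEquiv.toMatrix * Matrix.diagonal fun x => sg F (dot b x) := by
    rw [pu_val, pmat]
    ext y x
    rw [Matrix.mul_diagonal, mon_apply, PEquiv.toMatrix_apply]
    simp only [Equiv.toPEquiv_apply, Option.mem_def, Option.some.injEq, Equiv.coe_addRight]
    have : (y + a = x) ↔ y = x + a := by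
      constructor
      · rintro rfl; rw [add_assoc, Qubits.two, add_zero]
      · rintro rfl; rw [add_assoc, Qubits.two, add_zero]
    by_cases h : y = x + a <;> simp [this, h, add_assoc, Qubits.two]
  rw [e, Matrix.det_mul, Matrix.det_permutation, Matrix.det_diagonal]
  have h1 : ∀ a : Eight, Equiv.Perm.sign (Equiv.addRight a) = 1 := by decide
  have h2 : ∀ b : Eight, ∑ x, dot b x = 0 := by decide
  have h3 : ∀ s : Finset Eight, ∏ x ∈ s, sg F (dot b x) = sg F (∑ x ∈ s, dot b x) := fun s => by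
    induction s using Finset.induction_on with
    | empty => simp
    | insert x s hx ih => rw [Finset.prod_insert hx, Finset.sum_insert hx, ih, sg_add]
  rw [h1, h3, h2, sg_zero]
  simp

theorem R_le_SL : r.R Eight ≤ Cfsg.Geo.specialLinear Eight F := by
  intro g hg
  obtain ⟨k, a, b, hk⟩ := hg
  rw [Cfsg.Geo.specialLinear, MonoidHom.mem_ker]
  refine Units.ext ?_
  rw [Matrix.GeneralLinearGroup.val_det_apply, hk, Matrix.det_smul, ← pu_val (F := F), det_pu,
    show Fintype.card Eight = 4 * 2 by decide, ← pow_mul, mul_comm k, pow_mul, pow_mul, i_pow_four r.i r.sq]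
  simp

theorem gam_le_SL : r.gam Eight ≤ Cfsg.Geo.specialLinear Eight F := by
  refine (Subgroup.closure_le _).2 ?_
  rintro g (hg | ⟨p, hp, hpR, rfl⟩)
  · exact R_le_SL r hg
  simp only [SetLike.mem_coe, Cfsg.Geo.specialLinear, MonoidHom.mem_ker]
  refine Units.ext ?_
  rw [Matrix.GeneralLinearGroup.val_det_apply, Units.val_one]
  by_cases hs : IsScal p
  · obtain ⟨c, hc⟩ := hs
    have hcc := congrArg (fun M : Matrix Eight Eight F => M 0 0) (congrArg Units.val hp)
    rw [Units.val_mul, hc] at hcc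
    simp at hcc
    rcases mul_self_eq_one_iff.1 hcc with rfl | rfl <;> rw [halfU_val, half, hc, smul_smul, ← add_smul,
      Matrix.det_smul, Matrix.det_one, mul_one, show Fintype.card Eight = 4 * 2 by decide, pow_mul]
    · rw [show (1 + r.i) / 2 + (1 - r.i) / 2 * 1 = 1 by field_simp [r.two]; ring]; simp
    · rw [show (1 + r.i) / 2 + (1 - r.i) / 2 * -1 = r.i by field_simp [r.two]; ring, i_pow_four r.i r.sq, one_pow]
  · set z : GL Eight F := pu 0 (1, 0, 0)
    have hz : z * z = 1 := pu_sq_of_dot (Qubits.dot_zero _)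
    have hzs : ¬ IsScal z := not_scal_of_anti r.two (q := pu (1, 0, 0) 0) (Units.ext (by
      rw [Units.val_mul, Units.val_neg, Units.val_mul, pu_val, pu_val, pmat_comm]
      simp [dot_prod, Qubits.zero_dot, Qubits.dot_zero]))
    obtain ⟨m, hm, hmp⟩ := r.exists_conj (pu_mem _ _ _ _) hpR hz hp hzs hs
    have e : r.T p hp = m * r.T z hz * m⁻¹ := by
      rw [conj_T r hz (by rw [hmp]; exact hp)]
      congr 1
      exact hmp.symm
    rw [e, Units.val_mul, Units.val_mul, Matrix.det_units_conj, Root.T, halfU_val, half]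
    have hzv : ((z : GL Eight F) : Matrix Eight Eight F) = Matrix.diagonal fun x => sg F (dot ((1, 0, 0) : Eight) x) := by
      rw [pu_val, pmat_diag]
    rw [hzv, ← Matrix.diagonal_one, ← Matrix.diagonal_smul, ← Matrix.diagonal_smul, Matrix.diagonal_add,
      Matrix.det_diagonal, Fintype.prod_prod_type]
    have hu : (Finset.univ : Finset (ZMod 2)) = {0, 1} := by decide
    simp only [hu, Finset.prod_insert (show (0 : ZMod 2) ∉ ({1} : Finset (ZMod 2)) by decide), Finset.prod_singleton]
    simp [dot_prod, Qubits.zero_dot]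
    field_simp [r.two]
    linear_combination (16 : F) ^ 2 * (r.i * r.i - 1) * r.sq

theorem not_SL_le_Y : ¬ Cfsg.Geo.specialLinear Eight F ≤ r.Y Eight := by
  intro h
  set j : Eight := (1, 0, 0)
  have hj : (0 : Eight) ≠ j := by decide
  have hR := r.conj_mem (h (tv_mem hj (1 : F))) (pu_mem r.i r.sq (0 : Eight) j)
  obtain ⟨k, a, b, hk⟩ := hR
  rw [Units.val_mul, Units.val_mul, pu_val, pmat_diag] at hk
  have hinv : ((tv hj (1 : F) : GL Eight F))⁻¹ = tv hj (-1) :=
    inv_eq_of_mul_eq_one_right (Units.ext (by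
      rw [Units.val_mul, tv_val, tv_val, Matrix.transvection_mul_transvection_same _ _ hj, add_neg_cancel,
        Matrix.transvection_zero, Units.val_one]))
  rw [hinv, tv_val, tv_val] at hk
  set d : Eight → F := fun x => sg F (dot j x) with hd
  set T := Matrix.transvection (0 : Eight) j (1 : F)
  have e00 : (T * Matrix.diagonal d * Matrix.transvection (0 : Eight) j (-1 : F)) 0 0 = 1 := by
    rw [Matrix.mul_transvection_apply_of_ne _ _ _ _ hj, Matrix.mul_diagonal]
    simp [T, Matrix.transvection, Matrix.single_apply, Ne.symm hj, hd, Qubits.dot_zero]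
  have e0j : (T * Matrix.diagonal d * Matrix.transvection (0 : Eight) j (-1 : F)) 0 j = -2 := by
    rw [Matrix.mul_transvection_apply_same, Matrix.mul_diagonal, Matrix.mul_diagonal]
    have hjj : dot j j = 1 := by decide
    simp [T, Matrix.transvection, Matrix.single_apply, Ne.symm hj, hd, hj, Qubits.dot_zero, hjj]
    norm_num
  rw [hk] at e00 e0j
  simp only [Matrix.smul_apply, pmat, mon_apply, Equiv.coe_addRight, smul_eq_mul] at e00 e0j
  by_cases h0 : (0 : Eight) = 0 + a
  · have hne : ¬ (0 : Eight) = j + a := fun h => hj (add_right_cancel (h0.symm.trans h))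
    simp [hne] at e0j
    exact r.two e0j
  · rw [zero_add] at h0
    simp [h0] at e00

/-- The clause in dimension eight. -/
theorem isMaximalIn_symp {R : Subgroup (GL (Fin 8) F)} (hR : Cfsg.Geo.IsLinearSymplecticTypeData 2 R)
    (hF : (2 : F) ≠ 0) (hcard : 256 ≤ Nat.card R) (hZ : Nat.card (Subgroup.center R) = 4)
    (hB : ∀ r : Root F, BaseFour r) :
    Cfsg.Geo.IsMaximalIn (Cfsg.Geo.specialLinear (Fin 8) F)
      (Cfsg.Geo.subgroupNormalizer R ⊓ Cfsg.Geo.specialLinear (Fin 8) F) := by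
  obtain ⟨r, hd⟩ := exists_sympData hF R hR.symplecticType hR.absIrred hZ
  obtain ⟨Φ, hdet, hmap⟩ := exists_std hd hcard
  have hSL : ∀ g, Φ g ∈ Cfsg.Geo.specialLinear Eight F ↔ g ∈ Cfsg.Geo.specialLinear (Fin 8) F := fun g => by
    simp only [Cfsg.Geo.specialLinear, MonoidHom.mem_ker, ← Units.val_inj, Matrix.GeneralLinearGroup.val_det_apply,
      hdet]
  have hm : ∀ z, Φ z ∈ R.map Φ.toMonoidHom ↔ z ∈ R := fun z => Subgroup.mem_map_iff_mem Φ.injective
  have hY : ∀ g, Φ g ∈ r.Y Eight ↔ g ∈ Cfsg.Geo.subgroupNormalizer R := fun g => by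
    rw [Root.Y, ← hmap, Cfsg.Geo.subgroupNormalizer, Subgroup.mem_normalizer_iff, Subgroup.mem_normalizer_iff]
    constructor
    · intro h x
      have := h (Φ x)
      rwa [← map_inv, ← map_mul, ← map_mul, hm, hm] at this
    · intro h y
      obtain ⟨x, rfl⟩ := Φ.surjective y
      rw [← map_inv, ← map_mul, ← map_mul, hm, hm]
      exact h x
  refine ⟨lt_of_le_of_ne inf_le_right fun e => not_SL_le_Y r fun x hx => ?_, fun M hM hM' => ?_⟩
  · obtain ⟨g, rfl⟩ := Φ.surjective x
    rw [hY]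
    have hg := (hSL g).1 hx
    rw [← e] at hg
    exact hg.1
  set M' := M.map Φ.toMonoidHom
  have hgam : r.gam Eight ≤ M' := fun x hx => by
    obtain ⟨g, rfl⟩ := Φ.surjective x
    exact ⟨g, hM ⟨(hY g).1 (r.gam_le_Y hx), (hSL g).1 (gam_le_SL r hx)⟩, rfl⟩
  by_cases hN : NoCtrl r M'
  · left
    refine le_antisymm (fun g hg => ⟨(hY g).1 (le_normaliser r hgam hN ⟨g, hg, rfl⟩), hM' hg⟩) hM
  · right
    refine le_antisymm hM' fun g hg => ?_
    obtain ⟨g', hg', he⟩ := specialLinear_le_of_ctrl r hgam (hB r) hN ((hSL g).2 hg)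
    rwa [Φ.injective he] at hg'

end Cfsg.Agent.H97.CSix
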