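import Cfsg.Agent.H97.CSix.Kernel

/-!
Centralisers of nonscalar elements of the standard group in an overgroup normalise it.
-/

set_option autoImplicit false
set_option linter.unusedSectionVars false

namespace Cfsg.Agent.H97.CSix

open Matrix

section General

variable {F : Type*} [Field F] {ι : Type*} [AddCommGroup ι] [Qubits ι] [Fintype ι] [DecidableEq ι]
variable (r : Root F)

/-- Elements of the group commuting up to sign with a nonscalar element of the standard group normalise it. -/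
def Centred (H : Subgroup (GL ι F)) : Prop :=
  ∀ p ∈ r.R ι, ¬ IsScal p → ∀ g ∈ H, g * p = p * g ∨ g * p = -(p * g) → g ∈ r.Y ι

/-- It is enough to look at one involution. -/
theorem centred_of_one {H : Subgroup (GL ι F)} (hH : r.gam ι ≤ H) {z : GL ι F} (hzR : z ∈ r.R ι)
    (hzz : z * z = 1) (hzs : ¬ IsScal z) (hz : ∀ g ∈ H, g * z = z * g → g ∈ r.Y ι) : Centred r H := by
  have exact_comm : ∀ p ∈ r.R ι, ¬ IsScal p → ∀ g ∈ H, g * p = p * g → g ∈ r.Y ι := by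
    intro p hp hps g hg hc
    obtain ⟨u, hu, huu, hcase⟩ := exists_invol r.i r.sq hp
    have hi : IsScal (iu r.i r.sq : GL ι F) := ⟨r.i, iu_val _ _⟩
    have hcu : g * u = u * g ∧ ¬ IsScal u := by
      rcases hcase with rfl | rfl
      · exact ⟨hc, hps⟩
      refine ⟨by rw [← mul_assoc, ← hi.comm g, mul_assoc, hc, mul_assoc], ?_⟩
      rintro ⟨c, hcv⟩
      refine hps ⟨-r.i * c, ?_⟩
      rw [Units.val_mul, iu_val, smul_mul_assoc, one_mul] at hcv
      rw [mul_smul, ← hcv, smul_smul]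
      simp [r.sq]
    obtain ⟨n, hn, hnu⟩ := r.exists_conj hu hzR huu hzz hcu.2 hzs
    have hm := hz _ (mul_mem (mul_mem (hH hn) hg) (inv_mem (hH hn))) (by
      rw [← hnu, show n * g * n⁻¹ * (n * u * n⁻¹) = n * (g * u) * n⁻¹ by group, hcu.1]; group)
    have := mul_mem (mul_mem (inv_mem (r.gam_le_Y hn)) hm) (r.gam_le_Y hn)
    rwa [show n⁻¹ * (n * g * n⁻¹) * n = g by group] at this
  intro p hp hps g hg hc
  rcases hc with hc | hc
  · exact exact_comm p hp hps g hg hc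
  obtain ⟨u, hu, hpu⟩ := not_scal r.i r.sq r.two hp hps
  have := exact_comm p hp hps (g * u) (mul_mem hg (hH (r.R_le_gam hu))) (by
    rw [mul_assoc, show u * p = -(p * u) by rw [hpu, neg_neg], mul_neg, ← mul_assoc, hc, neg_mul, neg_neg,
      mul_assoc])
  simpa using mul_mem this (inv_mem (r.R_le_Y hu))

end General

variable {F : Type*} [Field F] [Finite F] (r : Root F)
variable {γ : Type*} [AddCommGroup γ] [Qubits γ] [Fintype γ] [DecidableEq γ] [Nontrivial γ]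
variable {H : Subgroup (GL (ZMod 2 × (ZMod 2 × γ)) F)}
variable (hH : r.gam (ZMod 2 × (ZMod 2 × γ)) ≤ H) (hN : NoCtrl r H)
include hH hN

/-- Without controlled gates, the group is centred. -/
theorem centred : Centred r H := by
  have hzz : (z1 : GL (ZMod 2 × (ZMod 2 × γ)) F) * z1 = 1 := pu_sq_of_dot (Qubits.dot_zero _)
  have hzx : (z1 : GL (ZMod 2 × (ZMod 2 × γ)) F) * x1 = -(x1 * z1) := Units.ext (by
    rw [Units.val_mul, Units.val_neg, Units.val_mul, pu_val, pu_val, pmat_comm, dot_prod, Qubits.zero_dot]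
    simp [Qubits.zero_dot])
  refine centred_of_one r hH (pu_mem _ _ _ _) hzz (not_scal_of_anti r.two hzx) fun g hg hc => ?_
  obtain ⟨g₀, g₁, rfl⟩ := exists_bdU r.two hc
  have hX := projX_le_Y r hH hN
  have h0 : g₀ ∈ r.Y (ZMod 2 × γ) := hX ⟨g₁, hg⟩
  have h1 : g₁ ∈ r.Y (ZMod 2 × γ) := hX ⟨g₀, flip_mem r hH hg⟩
  obtain ⟨c, a, b, hc'⟩ := r.exists_eq_smul (r.sign_of_invol (g := g₀⁻¹ * g₁) fun p hp hpp hps => by
    have sq : ∀ g : GL (ZMod 2 × γ) F, g * p * g⁻¹ * (g * p * g⁻¹) = 1 := fun g => by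
      rw [show g * p * g⁻¹ * (g * p * g⁻¹) = g * (p * p) * g⁻¹ by group, hpp, mul_one, mul_inv_cancel]
    have hm : bdU (r.T _ (sq g₀)) (r.T _ (sq g₁)) ∈ H := by
      have := mul_mem (mul_mem hg (hH (r.bd_gam (r.T_mem_gam hpp hp)))) (inv_mem hg)
      rwa [bdU_inv, bdU_mul, bdU_mul, conj_T r hpp (sq g₀), conj_T r hpp (sq g₁)] at this
    have hd := hH (r.bd_gam (r.T_mem_gam (sq g₀) (r.conj_mem h0 hp)))
    have hk : bdU 1 (r.T _ (sq g₁) * (r.T _ (sq g₀))⁻¹) ∈ H := by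
      have := mul_mem hm (inv_mem hd)
      rwa [bdU_inv, bdU_mul, mul_inv_cancel] at this
    have hns : ¬ IsScal (g₁ * p * g₁⁻¹) := fun hs => hps (by
      have e : g₁⁻¹ * (g₁ * p * g₁⁻¹) * g₁ = g₁ * p * g₁⁻¹ := by
        rw [mul_assoc, hs.comm g₁, inv_mul_cancel_left]
      rw [show g₁⁻¹ * (g₁ * p * g₁⁻¹) * g₁ = p by group] at e
      rwa [← e] at hs)
    rw [show g₀⁻¹ * g₁ * p * (g₀⁻¹ * g₁)⁻¹ = g₀⁻¹ * (g₁ * p * g₁⁻¹) * g₀ by group]
    rcases core r hH hN (r.conj_mem h0 hp) (r.conj_mem h1 hp) (sq g₀) (sq g₁) hns hk with e | e <;> rw [e]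
    · left; group
    · right; rw [mul_neg, neg_mul]; group)
  set w : GL (ZMod 2 × γ) F := pu a b
  set s := g₀⁻¹ * g₁ * w⁻¹ with hs_def
  have hsc : ((s : GL (ZMod 2 × γ) F) : Matrix (ZMod 2 × γ) (ZMod 2 × γ) F) = c • 1 := by
    have e : ((g₀⁻¹ * g₁ : GL (ZMod 2 × γ) F) : Matrix (ZMod 2 × γ) (ZMod 2 × γ) F) =
        c • (w : Matrix (ZMod 2 × γ) (ZMod 2 × γ) F) := hc'
    rw [hs_def, Units.val_mul, e, smul_mul_assoc, Units.mul_inv]
  have hg' : bdU g₀ (g₀ * s) ∈ H := by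
    have := mul_mem hg (inv_mem (hH (r.ctrl_mem (pu_mem r.i r.sq a b))))
    rw [bdU_inv, bdU_mul, inv_one, mul_one] at this
    rwa [hs_def, show g₀ * (g₀⁻¹ * g₁ * w⁻¹) = g₁ * w⁻¹ by group]
  -- the scalar is a root of unity of order four
  have hsp : ∃ k : ℕ, c = r.i ^ k := by
    set X := (x1 : GL (ZMod 2 × (ZMod 2 × γ)) F)
    have hX1 : X * X = 1 := pu_sq_of_dot (Qubits.zero_dot _)
    set D := bdU (1 : GL (ZMod 2 × γ) F) s
    have hD : bdU g₀ (g₀ * s) = D * bdU g₀ g₀ := by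
      rw [bdU_mul, one_mul, (show IsScal s from ⟨c, hsc⟩).comm]
    have hcomm : bdU g₀ g₀ * r.T X hX1 * (bdU g₀ g₀)⁻¹ = r.T X hX1 := by
      rw [mul_inv_eq_iff_eq_mul]
      refine (halfU_comm r.two r.sq hX1 ?_).symm
      rw [← mul_inv_eq_iff_eq_mul, x1_conj]
    have he : D * r.T X hX1 * D⁻¹ * (r.T X hX1)⁻¹ ∈ H := by
      have hT : r.T X hX1 ∈ H := hH (r.T_mem_gam hX1 (pu_mem _ _ _ _))
      have := mul_mem (mul_mem (mul_mem (hD ▸ hg') hT) (inv_mem (hD ▸ hg'))) (inv_mem hT)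
      rw [show D * bdU g₀ g₀ * r.T X hX1 * (D * bdU g₀ g₀)⁻¹ =
        D * (bdU g₀ g₀ * r.T X hX1 * (bdU g₀ g₀)⁻¹) * D⁻¹ by group, hcomm] at this
      exact this
    set S := (permU (swapPerm γ) : GL (ZMod 2 × (ZMod 2 × γ)) F)
    have hS : S ∈ H := hH r.swap_mem
    obtain ⟨s', hs'⟩ : ∃ s' : GL γ F, (s' : Matrix γ γ F) = c • 1 := by
      have h0 : c ≠ 0 := fun h => s.ne_zero (by rw [hsc, h, zero_smul])
      exact ⟨⟨c • 1, c⁻¹ • 1, by rw [smul_mul_smul_comm, mul_inv_cancel₀ h0, one_smul, one_mul],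
        by rw [smul_mul_smul_comm, inv_mul_cancel₀ h0, one_smul, one_mul]⟩, rfl⟩
    have hss : s = bdU s' s' := Units.ext (by rw [hsc, bdU_val, hs', ← bd_smul, bd_one])
    set D' := bdU (1 : GL γ F) s'
    set x := (x1 : GL (ZMod 2 × γ) F)
    have hx : x * x = 1 := pu_sq_of_dot (Qubits.zero_dot _)
    have hDx : D' * x * D'⁻¹ * (D' * x * D'⁻¹) = 1 := by
      rw [show D' * x * D'⁻¹ * (D' * x * D'⁻¹) = D' * (x * x) * D'⁻¹ by group, hx, mul_one, mul_inv_cancel]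
    have hSD : S * D * S⁻¹ = bdU D' D' := by
      simp only [D, hss]
      exact swap_bdU s' s'
    have hST : S * r.T X hX1 * S⁻¹ = bdU (r.T x hx) (r.T x hx) := by
      rw [r.bd_T hx, conj_T r hX1 (by rw [show S * X * S⁻¹ * (S * X * S⁻¹) = S * (X * X) * S⁻¹ by group, hX1,
        mul_one, mul_inv_cancel])]
      congr 1
      exact swap_x1
    have hK : r.T _ hDx * (r.T x hx)⁻¹ ∈ projX H := by
      refine ⟨r.T _ hDx * (r.T x hx)⁻¹, ?_⟩
      have := mul_mem (mul_mem hS he) (inv_mem hS)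
      rw [show S * (D * r.T X hX1 * D⁻¹ * (r.T X hX1)⁻¹) * S⁻¹ = S * D * S⁻¹ * (S * r.T X hX1 * S⁻¹) *
        (S * D * S⁻¹)⁻¹ * (S * r.T X hX1 * S⁻¹)⁻¹ by group, hSD, hST, bdU_inv D' D', bdU_inv (r.T x hx) (r.T x hx), bdU_mul, bdU_mul,
        bdU_mul, conj_T r hx hDx] at this
      exact this
    have hTY : r.T _ hDx ∈ r.Y (ZMod 2 × γ) := by
      have := mul_mem (hX hK) (r.T_mem_Y hx (pu_mem _ _ _ _))
      rwa [inv_mul_cancel_right] at this
    set z := (z1 : GL (ZMod 2 × γ) F)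
    have hz : z * z = 1 := pu_sq_of_dot (Qubits.dot_zero _)
    have hDz : D'⁻¹ * z * D' = z := Units.ext (by
      simp only [D', Units.val_mul, bdU_inv, bdU_val, z, z1_val, bd_mul, inv_one, Units.val_one, one_mul,
        mul_one, mul_neg, neg_mul, Units.inv_mul])
    have hanti : D' * x * D'⁻¹ * z = -(z * (D' * x * D'⁻¹)) := by
      have hxz : x * z = -(z * x) := Units.ext (by
        rw [Units.val_mul, Units.val_neg, Units.val_mul, pu_val, pu_val, pmat_comm]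
        simp [dot_prod, Qubits.zero_dot, Qubits.dot_zero])
      have e : D' * x * D'⁻¹ * z = D' * (x * (D'⁻¹ * z * D')) * D'⁻¹ := by group
      rw [e, hDz, hxz]
      have e2 : z * (D' * x * D'⁻¹) = D' * ((D'⁻¹ * z * D') * x) * D'⁻¹ := by group
      rw [e2, hDz, mul_neg, neg_mul]
    have hw : D' * x * D'⁻¹ ∈ r.R (ZMod 2 × γ) := by
      have hzR : z ∈ r.R (ZMod 2 × γ) := pu_mem _ _ _ _
      have := r.conj_mem hTY hzR
      rw [r.T_anti hDx hanti] at this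
      have := mul_mem (mul_mem (inv_mem (neg_mem_std _ _ (iu_mem r.i r.sq))) this) (inv_mem hzR)
      rwa [inv_mul_cancel_left, mul_inv_cancel_right] at this
    obtain ⟨k, a', b', hk⟩ := mul_mem (inv_mem (pu_mem r.i r.sq ((1 : ZMod 2), (0 : γ)) 0)) hw
    have e : x⁻¹ * (D' * x * D'⁻¹) = bdU s' s'⁻¹ := by
      have hxi : x⁻¹ = x := inv_eq_of_mul_eq_one_right hx
      rw [show x⁻¹ * (D' * x * D'⁻¹) = x⁻¹ * D' * x * D'⁻¹ by group, hxi]
      nth_rw 2 [← hxi]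
      rw [x1_conj, bdU_inv, bdU_mul, inv_one, one_mul, mul_one]
    rw [e] at hk
    have h00 := congrFun (congrFun hk ((0 : ZMod 2), (0 : γ))) ((0 : ZMod 2), (0 : γ))
    simp only [bdU_val, bd_apply, if_true, hs', pmat, Matrix.smul_apply, mon_apply, Matrix.one_apply,
      smul_eq_mul, mul_one, Qubits.dot_zero, sg_zero] at h00
    split_ifs at h00 with ha
    · refine ⟨k, h00.trans ?_⟩
      rw [show ((0, 0) : ZMod 2 × γ) = 0 from rfl, Qubits.dot_zero, sg_zero, mul_one]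
    · exact absurd (by rw [hsc, h00, mul_zero, zero_smul]) s.ne_zero
  obtain ⟨k, hk⟩ := hsp
  have hsR : s ∈ r.R (ZMod 2 × γ) := ⟨k, 0, 0, by rw [hsc, hk, pmat_zero]⟩
  have : bdU g₀ g₁ = bdU g₀ g₀ * bdU 1 (s * w) := by
    rw [bdU_mul, mul_one, hs_def, inv_mul_cancel_right, mul_inv_cancel_left]
  rw [this]
  exact mul_mem (r.bd_Y h0) (r.gam_le_Y (r.ctrl_mem (mul_mem hsR (pu_mem _ _ _ _))))

end Cfsg.Agent.H97.CSix
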