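import Cfsg.Agent.H97.CSix.Symp
import Cfsg.Agent.H97.CSix.Cent

/-!
The action of the normaliser on the labels.
-/

set_option autoImplicit false
set_option linter.unusedSectionVars false

namespace Cfsg.Agent.H97.CSix

open Matrix

variable {F : Type*} [Field F] {ι : Type*} [AddCommGroup ι] [Qubits ι] [Module (ZMod 2) ι] [Fintype ι] [DecidableEq ι]

/-- A sign as a scalar unit. -/
def sU (s : ZMod 2) : GL ι F := if s = 0 then 1 else -1

theorem sU_zero : (sU 0 : GL ι F) = 1 := if_pos rfl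

theorem sU_one : (sU 1 : GL ι F) = -1 := if_neg (by decide)

theorem sU_comm (s : ZMod 2) (g : GL ι F) : sU s * g = g * sU s := by
  rcases z2_cases s with rfl | rfl <;> simp [sU_zero, sU_one]

theorem sU_add (s t : ZMod 2) : (sU (s + t) : GL ι F) = sU s * sU t := by
  rcases z2_cases s with rfl | rfl <;> rcases z2_cases t with rfl | rfl <;>
    simp [sU_zero, sU_one, (by decide : (1 : ZMod 2) + 1 = 0)]

theorem sU_val (s : ZMod 2) : ((sU s : GL ι F) : Matrix ι ι F) = sg F s • 1 := by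
  rcases z2_cases s with rfl | rfl <;> simp [sU_zero, sU_one]

theorem sU_cases (s : ZMod 2) (g : GL ι F) : sU s * g = g ∨ sU s * g = -g := by
  rcases z2_cases s with rfl | rfl <;> simp [sU_zero, sU_one]

theorem sU_inj (h2 : (2 : F) ≠ 0) {s t : ZMod 2} (h : (sU s : GL ι F) = sU t) : s = t := by
  have h1 : ((1 : F) = -1) → False := fun e => h2 (by linear_combination e)
  have e := congrArg (fun M : Matrix ι ι F => M 0 0) (congrArg Units.val h)
  rw [sU_val, sU_val] at e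
  simp at e
  rcases z2_cases s with rfl | rfl <;> rcases z2_cases t with rfl | rfl <;> simp at e ⊢
  · exact h1 e
  · exact h1 e.symm

/-- The element with a given label. -/
abbrev cl (v : ι × ι) : GL ι F := pu v.1 v.2

theorem cl_zero : (cl 0 : GL ι F) = 1 := Units.ext (by rw [pu_val, Units.val_one]; exact pmat_zero)

theorem cl_mul (v w : ι × ι) : (cl v * cl w : GL ι F) = sU (dot v.2 w.1) * cl (v + w) :=
  Units.ext (by rw [Units.val_mul, Units.val_mul, pu_val, pu_val, pu_val, pmat_mul, sU_val, smul_mul_assoc, one_mul]; rfl)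

theorem cl_comm (v w : ι × ι) : (cl v * cl w : GL ι F) = sU (sB v w) * (cl w * cl v) :=
  Units.ext (by rw [Units.val_mul, Units.val_mul, Units.val_mul, pu_val, pu_val, pmat_comm, sU_val,
      smul_mul_assoc, one_mul]; rfl)

theorem IsScal.one : IsScal (1 : GL ι F) := ⟨1, by rw [Units.val_one, one_smul]⟩

theorem IsScal.sU (s : ZMod 2) : IsScal (sU s : GL ι F) := ⟨sg F s, sU_val s⟩

theorem IsScal.mul {g h : GL ι F} (hg : IsScal g) (hh : IsScal h) : IsScal (g * h) := by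
  obtain ⟨c, hc⟩ := hg
  obtain ⟨d, hd⟩ := hh
  exact ⟨c * d, by rw [Units.val_mul, hc, hd, smul_mul_smul_comm, one_mul]⟩

theorem IsScal.inv {g : GL ι F} (hg : IsScal g) : IsScal g⁻¹ := by
  obtain ⟨c, hc⟩ := hg
  refine ⟨c⁻¹, Units.inv_eq_of_mul_eq_one_right ?_⟩
  by_cases h0 : c = 0
  · rw [h0, zero_smul] at hc
    exact absurd hc g.ne_zero
  · rw [hc, smul_mul_smul_comm, mul_inv_cancel₀ h0, one_smul, one_mul]

theorem IsScal.conj {g : GL ι F} (hg : IsScal g) (h : GL ι F) : IsScal (h * g * h⁻¹) := by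
  rwa [← hg.comm h, mul_inv_cancel_right]

theorem IsScal.of_conj {g : GL ι F} {h : GL ι F} (hg : IsScal (h * g * h⁻¹)) : IsScal g := by
  have := hg.conj h⁻¹
  rwa [show h⁻¹ * (h * g * h⁻¹) * h⁻¹⁻¹ = g by group] at this

/-- The scalar multiples of the element with a given label. -/
def Sim (g : GL ι F) (v : ι × ι) : Prop := ∃ s : GL ι F, IsScal s ∧ g = s * cl v

theorem Sim.mul {g h : GL ι F} {v w : ι × ι} (hg : Sim g v) (hh : Sim h w) : Sim (g * h) (v + w) := by
  obtain ⟨s, hs, rfl⟩ := hg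
  obtain ⟨t, ht, rfl⟩ := hh
  refine ⟨s * t * sU (dot v.2 w.1), (hs.mul ht).mul (IsScal.sU _), ?_⟩
  rw [show s * cl v * (t * cl w) = s * (cl v * t) * cl w by group, ← ht.comm (cl v),
    show s * (t * cl v) * cl w = s * t * (cl v * cl w) by group, cl_mul]
  group

theorem sim_cl (v : ι × ι) : Sim (cl v : GL ι F) v := ⟨1, IsScal.one, (one_mul _).symm⟩

theorem Sim.scal_mul {g : GL ι F} {v : ι × ι} (hg : Sim g v) {s : GL ι F} (hs : IsScal s) : Sim (s * g) v := by
  obtain ⟨t, ht, rfl⟩ := hg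
  exact ⟨s * t, hs.mul ht, by group⟩

theorem sim_scal {g : GL ι F} (hg : IsScal g) : Sim g 0 := ⟨g, hg, by rw [cl_zero, mul_one]⟩

theorem Sim.scal_of_zero {g : GL ι F} (hg : Sim g 0) : IsScal g := by
  obtain ⟨s, hs, rfl⟩ := hg
  rwa [cl_zero, mul_one]

theorem Sim.neg {g : GL ι F} {v : ι × ι} (hg : Sim g v) : Sim (-g) v := by
  rw [← neg_one_mul]
  exact hg.scal_mul ⟨-1, by rw [Units.val_neg, Units.val_one, neg_smul, one_smul]⟩

theorem Sim.unique (h2 : (2 : F) ≠ 0) {g : GL ι F} {v w : ι × ι} (hg : Sim g v) (hh : Sim g w) : v = w := by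
  obtain ⟨s, ⟨c, hc⟩, rfl⟩ := hg
  obtain ⟨t, ⟨d, hd⟩, e⟩ := hh
  have e' := congrArg Units.val e
  rw [Units.val_mul, Units.val_mul, hc, hd, smul_mul_assoc, smul_mul_assoc, one_mul, one_mul, pu_val, pu_val] at e'
  obtain ⟨h1, h3, -⟩ := pmat_inj h2 (fun h => s.ne_zero (by rw [hc, h, zero_smul])) e'
  exact Prod.ext h1 h3

theorem Sim.scal_iff (h2 : (2 : F) ≠ 0) {g : GL ι F} {v : ι × ι} (hg : Sim g v) : IsScal g ↔ v = 0 :=
  ⟨fun h => hg.unique h2 (sim_scal h), fun h => (h ▸ hg).scal_of_zero⟩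

theorem Sim.inv {g : GL ι F} {v : ι × ι} (hg : Sim g v) : Sim g⁻¹ v := by
  obtain ⟨s, hs, rfl⟩ := hg
  have e : (cl v * cl v : GL ι F) = sU (dot v.2 v.1) := by rw [cl_mul, lab_two, cl_zero, mul_one]
  refine ⟨s⁻¹ * sU (dot v.2 v.1)⁻¹, hs.inv.mul (IsScal.sU _), ?_⟩
  have hu : (cl v)⁻¹ = sU (dot v.2 v.1)⁻¹ * (cl v : GL ι F) := by
    refine inv_eq_of_mul_eq_one_right ?_
    rw [← mul_assoc, ← sU_comm, mul_assoc, e]
    rcases z2_cases (dot v.2 v.1) with h | h <;> simp [h, sU_zero, sU_one]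
  rw [_root_.mul_inv_rev, hu, mul_assoc (sU _) (cl v) s⁻¹, ← hs.inv.comm (cl v), ← mul_assoc,
    sU_comm, mul_assoc]

theorem Sim.comm {g h : GL ι F} {v w : ι × ι} (hg : Sim g v) (hh : Sim h w) : g * h = sU (sB v w) * (h * g) := by
  obtain ⟨s, hs, rfl⟩ := hg
  obtain ⟨t, ht, rfl⟩ := hh
  rw [show s * cl v * (t * cl w) = s * (cl v * t) * cl w by group, ← ht.comm (cl v),
    show s * (t * cl v) * cl w = s * t * (cl v * cl w) by group, cl_comm, ← mul_assoc,
    show s * t * sU (sB v w) = sU (sB v w) * (t * s) by rw [(hs.comm t), sU_comm]]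
  rw [show t * cl w * (s * cl v) = t * (cl w * s) * cl v by group, ← hs.comm (cl w)]
  group

variable (r : Root F)

theorem cl_mem_R (v : ι × ι) : (cl v : GL ι F) ∈ r.R ι := pu_mem _ _ _ _

theorem Root.exists_sim {g : GL ι F} (hg : g ∈ r.R ι) : ∃ v, Sim g v := by
  obtain ⟨k, a, b, hk⟩ := hg
  have hne : r.i ^ k ≠ 0 := pow_ne_zero _ (i_ne_zero r.i r.sq)
  refine ⟨(a, b), g * (cl (a, b))⁻¹, ⟨r.i ^ k, ?_⟩, by group⟩
  rw [Units.val_mul, hk, ← pu_val (F := F) a b, smul_mul_assoc, Units.mul_inv]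

theorem Root.sim_mem_Y {g : GL ι F} {v : ι × ι} (hg : Sim g v) : g ∈ r.Y ι := by
  obtain ⟨s, hs, rfl⟩ := hg
  exact mul_mem (r.scal_mem_Y hs) (r.R_le_Y (cl_mem_R r v))

/-- A representative involution with a given label. -/
theorem Root.exists_rep (v : ι × ι) : ∃ p ∈ r.R ι, p * p = 1 ∧ Sim p v := by
  obtain ⟨p, hp, hpp, h⟩ := exists_invol r.i r.sq (cl_mem_R r v)
  refine ⟨p, hp, hpp, ?_⟩
  rcases h with rfl | rfl
  · exact sim_cl v
  · exact (sim_cl v).scal_mul ⟨r.i, iu_val _ _⟩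

theorem rep_not_scal (h2 : (2 : F) ≠ 0) {p : GL ι F} {v : ι × ι} (hp : Sim p v) (hv : v ≠ 0) : ¬ IsScal p :=
  fun h => hv ((hp.scal_iff h2).1 h)

open Classical in
/-- The action on labels. -/
noncomputable def act (g : GL ι F) (v : ι × ι) : ι × ι :=
  if h : ∃ w, Sim (g * cl v * g⁻¹) w then h.choose else 0

theorem Root.act_spec {g : GL ι F} (hg : g ∈ r.Y ι) (v : ι × ι) : Sim (g * cl v * g⁻¹) (act g v) := by
  have h := r.exists_sim (r.conj_mem hg (cl_mem_R r v))
  rw [act, dif_pos h]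
  exact h.choose_spec

theorem Root.act_eq {g p : GL ι F} (hg : g ∈ r.Y ι) {v w : ι × ι} (hp : Sim p v) (h : Sim (g * p * g⁻¹) w) :
    act g v = w := by
  obtain ⟨s, hs, rfl⟩ := hp
  refine Sim.unique r.two (r.act_spec hg v) ?_
  have e : g * cl v * g⁻¹ = s⁻¹ * (g * (s * cl v) * g⁻¹) := by
    rw [show g * (s * cl v) * g⁻¹ = g * s * (cl v * g⁻¹) by group, ← hs.comm g]
    group
  rw [e]
  exact h.scal_mul hs.inv

theorem Root.act_sim {g p : GL ι F} (hg : g ∈ r.Y ι) {v : ι × ι} (hp : Sim p v) :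
    Sim (g * p * g⁻¹) (act g v) := by
  obtain ⟨s, hs, rfl⟩ := hp
  rw [show g * (s * cl v) * g⁻¹ = g * s * (cl v * g⁻¹) by group, ← hs.comm g,
    show s * g * (cl v * g⁻¹) = s * (g * cl v * g⁻¹) by group]
  exact (r.act_spec hg v).scal_mul hs

theorem Root.act_mul {g h : GL ι F} (hg : g ∈ r.Y ι) (hh : h ∈ r.Y ι) (v : ι × ι) :
    act (g * h) v = act g (act h v) := by
  refine r.act_eq (mul_mem hg hh) (sim_cl v) ?_
  rw [show g * h * cl v * (g * h)⁻¹ = g * (h * cl v * h⁻¹) * g⁻¹ by group]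
  exact r.act_sim hg (r.act_spec hh v)

theorem Root.act_scal (r : Root F) {g : GL ι F} (hg : IsScal g) (v : ι × ι) : act g v = v :=
  r.act_eq (r.scal_mem_Y hg) (sim_cl v) (by rw [hg.comm, mul_inv_cancel_right]; exact sim_cl v)

theorem Root.act_add {g : GL ι F} (hg : g ∈ r.Y ι) (v w : ι × ι) : act g (v + w) = act g v + act g w := by
  refine r.act_eq hg ((sim_cl v).mul (sim_cl w)) ?_
  rw [show g * (cl v * cl w) * g⁻¹ = g * cl v * g⁻¹ * (g * cl w * g⁻¹) by group]
  exact (r.act_spec hg v).mul (r.act_spec hg w)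

theorem Root.act_sB {g : GL ι F} (hg : g ∈ r.Y ι) (v w : ι × ι) : sB (act g v) (act g w) = sB v w := by
  have e := (r.act_spec hg v).comm (r.act_spec hg w)
  have e2 : g * cl v * g⁻¹ * (g * cl w * g⁻¹) = sU (sB v w) * (g * cl w * g⁻¹ * (g * cl v * g⁻¹)) := by
    rw [show g * cl v * g⁻¹ * (g * cl w * g⁻¹) = g * (cl v * cl w) * g⁻¹ by group, cl_comm, ← mul_assoc g,
      ← sU_comm]
    group
  exact (sU_inj r.two (mul_right_cancel (e.symm.trans e2))).symm.symm

theorem Root.act_surj {g : GL ι F} (hg : g ∈ r.Y ι) (v : ι × ι) : ∃ w, act g w = v :=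
  ⟨act g⁻¹ v, by rw [← r.act_mul hg (inv_mem hg), mul_inv_cancel, r.act_scal IsScal.one]⟩

/-- Commuting up to sign is being fixed. -/
theorem Root.act_fix_iff {g p : GL ι F} (hg : g ∈ r.Y ι) {v : ι × ι} (hpR : p ∈ r.R ι) (hp : Sim p v) :
    act g v = v ↔ (g * p = p * g ∨ g * p = -(p * g)) := by
  constructor
  · intro h
    have hs := (r.act_sim hg hp).mul hp.inv
    rw [h, lab_two] at hs
    obtain ⟨c, hc⟩ := hs.scal_of_zero
    have hsq : g * p * g⁻¹ * (g * p * g⁻¹) = p * p := by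
      rw [show g * p * g⁻¹ * (g * p * g⁻¹) = g * (p * p) * g⁻¹ by group]
      rcases sq_cases r.i r.sq hpR with e | e <;> rw [e] <;> simp
    set s := g * p * g⁻¹ * p⁻¹ with hs'
    have hsc : IsScal s := ⟨c, hc⟩
    have hss : s * s = 1 := by
      rw [show g * p * g⁻¹ = s * p by rw [hs', inv_mul_cancel_right], show s * p * (s * p) = s * (p * s) * p by group,
        ← hsc.comm p, show s * (s * p) * p = s * s * (p * p) by group] at hsq
      exact mul_eq_right.1 hsq
    have e' := congrArg (fun M : Matrix ι ι F => M 0 0) (congrArg Units.val hss)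
    rw [Units.val_mul, hc] at e'
    simp at e'
    rcases mul_self_eq_one_iff.1 e' with h1 | h1 <;> rw [h1] at hc
    · left
      have : s = 1 := Units.ext (by rw [hc, one_smul, Units.val_one])
      rw [← mul_inv_eq_iff_eq_mul, ← mul_inv_eq_one]; exact this
    · right
      have : s = -1 := Units.ext (by rw [hc, neg_smul, one_smul, Units.val_neg, Units.val_one])
      calc g * p = s * (p * g) := by rw [hs']; group
        _ = -(p * g) := by rw [this, neg_one_mul]
  · intro h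
    refine r.act_eq hg hp ?_
    rcases h with h | h <;> rw [h]
    · rwa [mul_inv_cancel_right]
    · rw [neg_mul, mul_inv_cancel_right]; exact hp.neg

/-- The deviation of the action, as a linear map. -/
noncomputable def Root.dev {g : GL ι F} (hg : g ∈ r.Y ι) : (ι × ι) →ₗ[ZMod 2] (ι × ι) :=
  (AddMonoidHom.mk' (fun v => act g v + v) fun v w => by rw [r.act_add hg]; abel).toZModLinearMap 2

theorem Root.dev_apply {g : GL ι F} (hg : g ∈ r.Y ι) (v : ι × ι) : r.dev hg v = act g v + v := rfl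

theorem Root.dev_zero_iff {g : GL ι F} (hg : g ∈ r.Y ι) (v : ι × ι) : r.dev hg v = 0 ↔ act g v = v := by
  rw [r.dev_apply, add_eq_zero_iff_eq_neg, show -v = v from Qubits.neg_eq v]

theorem Root.act_eq_dev {g : GL ι F} (hg : g ∈ r.Y ι) (v : ι × ι) : act g v = v + r.dev hg v := by
  rw [r.dev_apply, add_left_comm, lab_two, add_zero]

theorem Root.dev_isNil {g : GL ι F} (hg : g ∈ r.Y ι) (hgg : IsScal (g * g)) : IsNil (r.dev hg) := by
  have h2 : ∀ v, act g (act g v) = v := fun v => by rw [← r.act_mul hg hg, r.act_scal hgg]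
  refine ⟨fun v => ?_, fun v w => ?_⟩
  · rw [r.dev_apply, r.dev_apply, r.act_add hg, h2, add_comm v, lab_two]
  · rw [r.dev_apply, r.dev_apply, sB_add_left, sB_add_right]
    congr 1
    conv_rhs => rw [← r.act_sB hg, h2]

/-- An element acting trivially is a multiple of a standard element. -/
theorem Root.sim_of_dev {g : GL ι F} (hg : g ∈ r.Y ι) (h : ∀ v, r.dev hg v = 0) : ∃ w, Sim g w := by
  obtain ⟨c, a, b, hc⟩ := r.exists_eq_smul (g := g) fun p hp => by
    obtain ⟨v, hv⟩ := r.exists_sim hp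
    rcases (r.act_fix_iff hg hp hv).1 ((r.dev_zero_iff hg v).1 (h v)) with e | e <;> rw [e]
    · exact Or.inl (mul_inv_cancel_right _ _)
    · exact Or.inr (by rw [neg_mul, mul_inv_cancel_right])
  refine ⟨(a, b), g * (cl (a, b))⁻¹, ⟨c, ?_⟩, by group⟩
  rw [Units.val_mul, hc, ← pu_val (F := F) a b, smul_mul_assoc, Units.mul_inv]

/-- Commutation with a given sign. -/
theorem sgn_comm_mul_right {u p q : GL ι F} {a b : ZMod 2} (h : u * p = sU a * (p * u))
    (h' : u * q = sU b * (q * u)) : u * (p * q) = sU (a + b) * (p * q * u) := by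
  rw [← mul_assoc, h, mul_assoc, mul_assoc p, h', ← mul_assoc p, ← sU_comm, sU_add]
  simp only [mul_assoc]

theorem sgn_comm_mul_left {u v p : GL ι F} {a b : ZMod 2} (h : u * p = sU a * (p * u))
    (h' : v * p = sU b * (p * v)) : u * v * p = sU (a + b) * (p * (u * v)) := by
  rw [mul_assoc, h', ← mul_assoc u, ← sU_comm, mul_assoc, ← mul_assoc u, h, add_comm a, sU_add]
  simp only [mul_assoc]

theorem sgn_comm_scal_right {u p s : GL ι F} {a : ZMod 2} (hs : IsScal s) (h : u * p = sU a * (p * u)) :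
    u * (s * p) = sU a * (s * p * u) := by
  rw [← mul_assoc, ← hs.comm u, mul_assoc, h, ← mul_assoc, hs.comm (sU a)]
  simp only [mul_assoc]

theorem sgn_comm_scal_left {u p s : GL ι F} {a : ZMod 2} (hs : IsScal s) (h : u * p = sU a * (p * u)) :
    s * u * p = sU a * (p * (s * u)) := by
  rw [mul_assoc, h, ← mul_assoc, hs.comm (sU a), mul_assoc, ← mul_assoc s p, hs.comm p, mul_assoc]

theorem sgn_comm_unique (h2 : (2 : F) ≠ 0) {u p : GL ι F} {a b : ZMod 2} (h : u * p = sU a * (p * u))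
    (h' : u * p = sU b * (p * u)) : a = b :=
  sU_inj h2 (mul_right_cancel (h.symm.trans h'))

end Cfsg.Agent.H97.CSix
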