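import Cfsg.Agent.H97.CSix.Trigger
import Cfsg.Agent.H69.SLFour.PauliMax

/-!
The statement in dimension four: an overgroup of the generated group outside the normaliser contains the special
linear group, by the maximality of the normaliser of the standard group of degree four.
-/

set_option autoImplicit false
set_option linter.unusedSectionVars false

namespace Cfsg.Agent.H97.CSix

open Matrix
open scoped commutatorElement

variable {F : Type*} [Field F] (r : Root F)

/-- The four labels of the generators. -/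
def lab4 : Fin 4 → Four × Four := ![((1, 0), 0), ((0, 1), 0), (0, (1, 0)), (0, (0, 1))]

theorem lab4_ind {P : Four × Four → Prop} (h0 : P 0) (hadd : ∀ v w, P v → P w → P (v + w))
    (hgen : ∀ k, P (lab4 k)) (v : Four × Four) : P v := by
  have hv : v = (if v.1.1 = 0 then 0 else lab4 0) + (if v.1.2 = 0 then 0 else lab4 1) +
      (if v.2.1 = 0 then 0 else lab4 2) + (if v.2.2 = 0 then 0 else lab4 3) := by
    revert v
    decide
  rw [hv]
  refine hadd _ _ (hadd _ _ (hadd _ _ ?_ ?_) ?_) ?_ <;> split_ifs <;> first | exact h0 | exact hgen _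

include r in
/-- An element commuting with the labelled generators is scalar. -/
theorem scal_of_comm {h : GL Four F} (hh : ∀ k, h * cl (lab4 k) = cl (lab4 k) * h) : IsScal h := by
  have hall : ∀ v : Four × Four, h * cl v = cl v * h := lab4_ind (by rw [cl_zero, mul_one, one_mul])
    (fun v w hv hw => by
      have e : h * (cl v * cl w) = cl v * cl w * h := by rw [← mul_assoc, hv, mul_assoc, hw, mul_assoc]
      rw [cl_mul, ← mul_assoc, ← sU_comm, mul_assoc, mul_assoc] at e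
      exact mul_left_cancel e) hh
  refine schur r.i r.sq r.two (M := (h : Matrix Four Four F)) fun g hg => ?_
  obtain ⟨k, a, b, hk⟩ := hg
  have := congrArg Units.val (hall (a, b))
  rw [Units.val_mul, Units.val_mul, pu_val] at this
  rw [hk, mul_smul_comm, smul_mul_assoc, this]

theorem cl_flip {v w : Four × Four} (h : sB v w = 1) : (cl w : GL Four F) * cl v * (cl w)⁻¹ = -(cl v : GL Four F) := by
  rw [cl_comm w v, sB_comm, h, sU_one, neg_one_mul, neg_mul, mul_inv_cancel_right]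

theorem cl_fix {v w : Four × Four} (h : sB v w = 0) : (cl w : GL Four F) * cl v * (cl w)⁻¹ = cl v := by
  rw [cl_comm w v, sB_comm, h, sU_zero, one_mul, mul_inv_cancel_right]

theorem cl_sq {v : Four × Four} (h : dot v.2 v.1 = 0) : (cl v : GL Four F) * cl v = 1 := by
  rw [cl_mul, h, sU_zero, one_mul, lab_two, cl_zero]

theorem lab4_sq (k : Fin 4) : dot (lab4 k).2 (lab4 k).1 = 0 := by revert k; decide

/-- An element of the standard group commuting with an involution of known label is that involution up to sign. -/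
theorem pm_of_sim {g : GL Four F} {v : Four × Four} (hs : Sim g v) (hg : g * g = 1) (hv : dot v.2 v.1 = 0) :
    g = cl v ∨ g = -(cl v : GL Four F) := by
  obtain ⟨s, hsc, rfl⟩ := hs
  have e : s * s = 1 := by
    rw [show s * cl v * (s * cl v) = s * (cl v * s) * cl v by group, ← hsc.comm (cl v),
      show s * (s * cl v) * cl v = s * s * (cl v * cl v) by group, cl_sq hv, mul_one] at hg
    exact hg
  obtain ⟨c, hc⟩ := hsc
  have e' := congrArg (fun M : GL Four F => (M : Matrix Four Four F) 0 0) e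
  simp [hc] at e'
  rcases mul_self_eq_one_iff.1 e' with rfl | rfl
  · left
    rw [show s = 1 from Units.ext (by rw [hc, one_smul, Units.val_one]), one_mul]
  · right
    rw [show s = -1 from Units.ext (by rw [hc, neg_one_smul, Units.val_neg, Units.val_one]), neg_one_mul]

include r in
theorem sB_zero_of_comm {g : GL Four F} {u v : Four × Four} (hs : Sim g u) (h : g * cl v = cl v * g) :
    sB u v = 0 := by
  have e := hs.comm (sim_cl v)
  rw [h] at e
  have e2 : (sU 0 : GL Four F) * (cl v * g) = sU (sB u v) * (cl v * g) := by rw [← e, sU_zero, one_mul]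
  exact (sU_inj r.two (mul_right_cancel e2)).symm

include r in
/-- Every element of the normaliser is a scalar multiple of one of the generated group. -/
theorem Y_le {g : GL Four F} (hg : g ∈ r.Y Four) : ∃ n ∈ r.gam Four, IsScal (n⁻¹ * g) := by
  let C : Fin 4 → GL Four F := fun k => cl (lab4 k)
  have hC : ∀ k, C k ∈ r.R Four := fun k => pu_mem _ _ _ _
  have hC2 : ∀ k, C k * C k = 1 := fun k => cl_sq (lab4_sq k)
  have conjsq : ∀ (a p : GL Four F), p * p = 1 → a * p * a⁻¹ * (a * p * a⁻¹) = 1 := fun a p hp => by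
    rw [show a * p * a⁻¹ * (a * p * a⁻¹) = a * (p * p) * a⁻¹ by group, hp, mul_one, mul_inv_cancel]
  have conjcomm : ∀ (a p q : GL Four F), p * q = q * p → a * p * a⁻¹ * (a * q * a⁻¹) = a * q * a⁻¹ * (a * p * a⁻¹) :=
    fun a p q h => by
      rw [show a * p * a⁻¹ * (a * q * a⁻¹) = a * (p * q) * a⁻¹ by group, h]
      group
  have conjanti : ∀ (a p q : GL Four F), p * q = -(q * p) →
      a * p * a⁻¹ * (a * q * a⁻¹) = -(a * q * a⁻¹ * (a * p * a⁻¹)) := fun a p q h => by
    rw [show a * p * a⁻¹ * (a * q * a⁻¹) = a * (p * q) * a⁻¹ by group, h,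
      show a * q * a⁻¹ * (a * p * a⁻¹) = a * (q * p) * a⁻¹ by group, mul_neg, neg_mul]
  have hcom : ∀ k l, sB (lab4 k) (lab4 l) = 0 → C k * C l = C l * C k := fun k l h => by
    rw [cl_comm, h, sU_zero, one_mul]
  have hant : ∀ k l, sB (lab4 k) (lab4 l) = 1 → C k * C l = -(C l * C k) := fun k l h => by
    rw [cl_comm, h, sU_one, neg_one_mul]
  -- first pair
  obtain ⟨n, hn, hn0, hn2⟩ := r.exists_conj_pair (hC 0) (hC 2) (r.conj_mem hg (hC 0)) (r.conj_mem hg (hC 2))
    (hC2 0) (hC2 2) (conjsq _ _ (hC2 0)) (conjsq _ _ (hC2 2)) (hant 0 2 (by decide))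
    (conjanti _ _ _ (hant 0 2 (by decide)))
  set g1 := n⁻¹ * g with hg1
  have hg1Y : g1 ∈ r.Y Four := mul_mem (inv_mem (r.gam_le_Y hn)) hg
  have f10 : g1 * C 0 * g1⁻¹ = C 0 := by
    rw [hg1, show n⁻¹ * g * C 0 * (n⁻¹ * g)⁻¹ = n⁻¹ * (g * C 0 * g⁻¹) * n by group, ← hn0]
    group
  have f12 : g1 * C 2 * g1⁻¹ = C 2 := by
    rw [hg1, show n⁻¹ * g * C 2 * (n⁻¹ * g)⁻¹ = n⁻¹ * (g * C 2 * g⁻¹) * n by group, ← hn2]
    group
  -- third generator
  set v' := g1 * C 1 * g1⁻¹ with hv'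
  have hv'R : v' ∈ r.R Four := r.conj_mem hg1Y (hC 1)
  have hv'0 : v' * C 0 = C 0 * v' := by
    have := conjcomm g1 _ _ (hcom 1 0 (by decide))
    rwa [f10] at this
  have hv'2 : v' * C 2 = C 2 * v' := by
    have := conjcomm g1 _ _ (hcom 1 2 (by decide))
    rwa [f12] at this
  obtain ⟨m, hm, hm0, hm2, hm1⟩ : ∃ m ∈ r.gam Four, m * C 0 * m⁻¹ = C 0 ∧ m * C 2 * m⁻¹ = C 2 ∧
      m * C 1 * m⁻¹ = v' := by
    rcases comm_or_anti r.i r.sq (hC 1) hv'R with h | h
    · obtain ⟨u, hu⟩ := r.exists_sim hv'R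
      have hu1 : u = 0 ∨ u = lab4 1 := (by decide : ∀ u : Four × Four, sB u (lab4 0) = 0 → sB u (lab4 2) = 0 →
        sB u (lab4 1) = 0 → u = 0 ∨ u = lab4 1) u (sB_zero_of_comm r hu hv'0) (sB_zero_of_comm r hu hv'2)
        (sB_zero_of_comm r hu h.symm)
      rcases hu1 with rfl | rfl
      · exfalso
        refine rep_not_scal r.two (sim_cl (lab4 1)) (by decide) ?_
        exact hu.scal_of_zero.of_conj
      rcases pm_of_sim hu (conjsq _ _ (hC2 1)) (lab4_sq 1) with e | e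
      · exact ⟨1, one_mem _, by group, by group, by rw [e]; simp [C]⟩
      · exact ⟨C 3, r.R_le_gam (hC 3), cl_fix (by decide), cl_fix (by decide), by
          rw [e]; exact cl_flip (by decide)⟩
    · obtain ⟨s, hs, hsR, h1, h2, -⟩ := r.step (hC 1) hv'R (hC2 1) (conjsq _ _ (hC2 1)) h
      exact ⟨_, r.T_mem_gam hs hsR, h2 _ (hcom 0 1 (by decide)) hv'0.symm, h2 _ (hcom 2 1 (by decide)) hv'2.symm,
        h1⟩
  set g2 := m⁻¹ * g1 with hg2
  have hg2Y : g2 ∈ r.Y Four := mul_mem (inv_mem (r.gam_le_Y hm)) hg1Y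
  have back : ∀ p q : GL Four F, m * p * m⁻¹ = q → g1 * p * g1⁻¹ = q → g2 * p * g2⁻¹ = p := fun p q h h' => by
    rw [hg2, show m⁻¹ * g1 * p * (m⁻¹ * g1)⁻¹ = m⁻¹ * (g1 * p * g1⁻¹) * m by group, h', ← h]
    group
  have f20 := back _ _ hm0 f10
  have f22 := back _ _ hm2 f12
  have f21 := back _ _ hm1 rfl
  -- fourth generator
  set w' := g2 * C 3 * g2⁻¹ with hw'
  have hw'R : w' ∈ r.R Four := r.conj_mem hg2Y (hC 3)
  have hw'0 : w' * C 0 = C 0 * w' := by
    have := conjcomm g2 _ _ (hcom 3 0 (by decide))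
    rwa [f20] at this
  have hw'2 : w' * C 2 = C 2 * w' := by
    have := conjcomm g2 _ _ (hcom 3 2 (by decide))
    rwa [f22] at this
  have hw'1 : C 1 * w' = -(w' * C 1) := by
    have := conjanti g2 _ _ (hant 1 3 (by decide))
    rwa [f21] at this
  obtain ⟨m', hm', hk0, hk2, hk1, hk3⟩ : ∃ m' ∈ r.gam Four, m' * C 0 * m'⁻¹ = C 0 ∧ m' * C 2 * m'⁻¹ = C 2 ∧
      m' * C 1 * m'⁻¹ = C 1 ∧ m' * C 3 * m'⁻¹ = w' := by
    rcases comm_or_anti r.i r.sq (hC 3) hw'R with h | h
    · obtain ⟨u, hu⟩ := r.exists_sim hw'R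
      have hu1 : u = 0 ∨ u = lab4 3 := (by decide : ∀ u : Four × Four, sB u (lab4 0) = 0 → sB u (lab4 2) = 0 →
        sB u (lab4 3) = 0 → u = 0 ∨ u = lab4 3) u (sB_zero_of_comm r hu hw'0) (sB_zero_of_comm r hu hw'2)
        (sB_zero_of_comm r hu h.symm)
      rcases hu1 with rfl | rfl
      · exfalso
        refine rep_not_scal r.two (sim_cl (lab4 3)) (by decide) ?_
        exact hu.scal_of_zero.of_conj
      rcases pm_of_sim hu (conjsq _ _ (hC2 3)) (lab4_sq 3) with e | e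
      · exact ⟨1, one_mem _, by group, by group, by group, by rw [e]; simp [C]⟩
      · exact ⟨C 1, r.R_le_gam (hC 1), cl_fix (by decide), cl_fix (by decide), cl_fix (by decide), by
          rw [e]; exact cl_flip (by decide)⟩
    · obtain ⟨s, hs, hsR, h1, h2, h3⟩ := r.step (hC 3) hw'R (hC2 3) (conjsq _ _ (hC2 3)) h
      exact ⟨_, r.T_mem_gam hs hsR, h2 _ (hcom 0 3 (by decide)) hw'0.symm, h2 _ (hcom 2 3 (by decide)) hw'2.symm,
        h3 _ (hant 1 3 (by decide)) hw'1, h1⟩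
  refine ⟨n * m * m', mul_mem (mul_mem hn hm) hm', scal_of_comm r fun k => ?_⟩
  have hfin : (n * m * m')⁻¹ * g = m'⁻¹ * g2 := by rw [hg2, hg1]; group
  rw [hfin]
  have key : ∀ p q : GL Four F, m' * p * m'⁻¹ = q → g2 * p * g2⁻¹ = q → m'⁻¹ * g2 * p = p * (m'⁻¹ * g2) :=
    fun p q h h' => by
      rw [← mul_inv_eq_iff_eq_mul]
      rw [show m'⁻¹ * g2 * p * (m'⁻¹ * g2)⁻¹ = m'⁻¹ * (g2 * p * g2⁻¹) * m' by group, h', ← h]
      group
  fin_cases k
  exacts [key _ _ hk0 f20, key _ _ hk1 f21, key _ _ hk2 f22, key _ _ hk3 rfl]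

/-- The change of labels in dimension four. -/
def e4 : Four ≃ Fin 4 where
  toFun v := ⟨2 * v.1.val + v.2.val, by have := v.1.val_lt; have := v.2.val_lt; omega⟩
  invFun := ![(0, 0), (0, 1), (1, 0), (1, 1)]
  left_inv := by decide
  right_inv := by decide

/-- Relabelling to `Fin 4`. -/
def re4 : GL Four F ≃* GL (Fin 4) F := Units.mapEquiv (Matrix.reindexAlgEquiv F F e4).toMulEquiv

theorem re4_val (g : GL Four F) :
    ((re4 g : GL (Fin 4) F) : Matrix (Fin 4) (Fin 4) F) = Matrix.reindex e4 e4 (g : Matrix Four Four F) := rfl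

theorem re4_SL {g : GL Four F} :
    re4 g ∈ Cfsg.Geo.specialLinear (Fin 4) F ↔ g ∈ Cfsg.Geo.specialLinear Four F := by
  simp [Cfsg.Geo.specialLinear, MonoidHom.mem_ker, ← Units.val_inj, re4_val]

open H69.SLFour.Pauli in
theorem re4_gens :
    re4 (cl (lab4 0) : GL Four F) = gA2 ∧ re4 (cl (lab4 1) : GL Four F) = gA1 ∧
    re4 (cl (lab4 2) : GL Four F) = gB2 ∧ re4 (cl (lab4 3) : GL Four F) = gB1 ∧
    re4 (iu r.i r.sq : GL Four F) = gi r.sq := by
  refine ⟨?_, ?_, ?_, ?_, ?_⟩ <;> refine Units.ext ?_ <;>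
    simp only [re4_val, val_gA1, val_gB1, val_gA2, val_gB2, val_gi, pu_val, iu_val] <;> ext a b <;>
    fin_cases a <;> fin_cases b <;>
    simp [lab4, e4, pmat, mon_apply, sg, dot, Qubits.dot, H73.Pauli.sA1, H73.Pauli.sA2, H73.Pauli.sB1,
      H73.Pauli.sB2, (by decide : (1 : ZMod 2) + 1 = 0)]

open H69.SLFour.Pauli in
theorem re4_mem_stdR {g : GL Four F} (hg : g ∈ r.R Four) : re4 g ∈ stdR r.sq := by
  obtain ⟨e0, e1, e2, e3, ei⟩ := re4_gens r
  set S := (stdR r.sq).comap (re4 (F := F)).toMonoidHom with hS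
  have memS : ∀ z : GL Four F, z ∈ S ↔ re4 z ∈ stdR r.sq := fun z => Iff.rfl
  have hi : (iu r.i r.sq : GL Four F) ∈ S := by
    rw [memS, ei]; exact gi_mem _
  have hneg : (-1 : GL Four F) ∈ S := by
    have : (iu r.i r.sq : GL Four F) * iu r.i r.sq = -1 := Units.ext (by simp [iu_val, smul_smul, r.sq])
    rw [← this]; exact mul_mem hi hi
  have hall : ∀ v : Four × Four, (cl v : GL Four F) ∈ S := lab4_ind (by rw [cl_zero]; exact one_mem S)
    (fun v w hv hw => by
      have hs : (sU (dot v.2 w.1) : GL Four F) ∈ S := by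
        rcases z2_cases (dot v.2 w.1) with h | h <;> rw [h]
        · rw [sU_zero]; exact one_mem S
        · rw [sU_one]; exact hneg
      have := mul_mem (inv_mem hs) (mul_mem hv hw)
      rwa [cl_mul, inv_mul_cancel_left] at this)
    (fun k => by
      rw [memS]
      fin_cases k
      · exact e0 ▸ gA2_mem _
      · exact e1 ▸ gA1_mem _
      · exact e2 ▸ gB2_mem _
      · exact e3 ▸ gB1_mem _)
  obtain ⟨k, a, b, hk⟩ := hg
  have e : g = iu r.i r.sq ^ k * cl (a, b) := by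
    refine Units.ext ?_
    rw [Units.val_mul, Units.val_pow_eq_pow_val, iu_val, _root_.smul_pow, one_pow, pu_val, hk, smul_mul_assoc, one_mul]
  rw [e]
  exact mul_mem (pow_mem hi k) (hall (a, b))

open H69.SLFour.Pauli in
theorem stdR_le_map : stdR r.sq ≤ (r.R Four).map (re4 (F := F)).toMonoidHom := by
  obtain ⟨e0, e1, e2, e3, ei⟩ := re4_gens r
  refine (Subgroup.closure_le _).2 fun x hx => ?_
  simp only [Set.mem_insert_iff, Set.mem_singleton_iff] at hx
  rcases hx with rfl | rfl | rfl | rfl | rfl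
  exacts [⟨_, iu_mem _ _, ei⟩, ⟨_, pu_mem _ _ _ _, e1⟩, ⟨_, pu_mem _ _ _ _, e3⟩, ⟨_, pu_mem _ _ _ _, e0⟩,
    ⟨_, pu_mem _ _ _ _, e2⟩]

/-- The multiples by scalars of the elements of a subgroup. -/
def withScal (X : Subgroup (GL Four F)) : Subgroup (GL Four F) where
  carrier := {g | ∃ s x : GL Four F, IsScal s ∧ x ∈ X ∧ g = s * x}
  one_mem' := ⟨1, 1, IsScal.one, one_mem _, (one_mul 1).symm⟩
  mul_mem' := by
    rintro a b ⟨s, x, hs, hx, rfl⟩ ⟨t, y, ht, hy, rfl⟩
    refine ⟨s * t, x * y, hs.mul ht, mul_mem hx hy, ?_⟩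
    rw [show s * x * (t * y) = s * (x * t) * y by group, ← ht.comm x]
    group
  inv_mem' := by
    rintro a ⟨s, x, hs, hx, rfl⟩
    exact ⟨s⁻¹, x⁻¹, hs.inv, inv_mem hx, by rw [_root_.mul_inv_rev, hs.inv.comm]⟩

/-- The statement in dimension four over a field of prime order. -/
theorem baseFour [Fintype F] {p : ℕ} (hp : p.Prime) (hcard : Fintype.card F = p) (h3 : (3 : F) ≠ 0) :
    BaseFour r := by
  intro X hX ⟨g, hgX, hgS, hgY⟩
  obtain ⟨-, hmax⟩ := H69.SLFour.Pauli.std_maximal r.sq r.two hp hcard h3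
  set M := (withScal X).map (re4 (F := F)).toMonoidHom ⊓ Cfsg.Geo.specialLinear (Fin 4) F with hM
  have hNM : Cfsg.Geo.subgroupNormalizer (H69.SLFour.Pauli.stdR r.sq) ⊓ Cfsg.Geo.specialLinear (Fin 4) F ≤ M := by
    rintro y ⟨hy, hyS⟩
    refine ⟨⟨re4.symm y, ?_, re4.apply_symm_apply y⟩, hyS⟩
    have hY : re4.symm y ∈ r.Y Four := r.mem_Y fun q hq => by
      obtain ⟨q', hq', e⟩ := stdR_le_map r ((Subgroup.mem_normalizer_iff.1 hy (re4 q)).1 (re4_mem_stdR r hq))
      have e' : re4.symm y * q * (re4.symm y)⁻¹ = q' := re4.injective (by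
        rw [map_mul, map_mul, map_inv, re4.apply_symm_apply]; exact e.symm)
      rwa [e']
    obtain ⟨n, hn, hs⟩ := Y_le r hY
    refine ⟨n⁻¹ * re4.symm y, n, hs, hX hn, ?_⟩
    rw [hs.comm n, mul_inv_cancel_left]
  have hgM : re4 g ∈ M := ⟨⟨g, ⟨1, g, IsScal.one, hgX, (one_mul g).symm⟩, rfl⟩, re4_SL.2 hgS⟩
  rcases hmax M hNM inf_le_right with h | h
  · refine absurd (r.mem_Y fun q hq => ?_) hgY
    rw [h] at hgM
    obtain ⟨q', hq', e⟩ := stdR_le_map r ((Subgroup.mem_normalizer_iff.1 hgM.1 (re4 q)).1 (re4_mem_stdR r hq))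
    have e' : g * q * g⁻¹ = q' := re4.injective (by rw [map_mul, map_mul, map_inv]; exact e.symm)
    rwa [e']
  · refine specialLinear_le fun a b hab c => ?_
    have hin : ∀ (a b : Four) (hab : a ≠ b) (c : F), tv hab c ∈ withScal X := fun a b hab c => by
      have : re4 (tv hab c : GL Four F) ∈ M := by rw [h]; exact re4_SL.2 (tv_mem hab c)
      obtain ⟨x, hx, e⟩ := this.1
      exact re4.injective e ▸ hx
    obtain ⟨k, hk1, hk2⟩ := Linear.exists_third (show 3 ≤ Fintype.card Four by decide) a b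
    obtain ⟨s, x, hs, hx, ex⟩ := hin a k (Ne.symm hk1) c
    obtain ⟨t, y, ht, hy, ey⟩ := hin k b hk2 1
    rw [← mul_one c, ← tv_comm (Ne.symm hk1) hk2 hab c 1, ex, ey, commutatorElement_def]
    have : s * x * (t * y) * (s * x)⁻¹ * (t * y)⁻¹ = x * y * x⁻¹ * y⁻¹ := by
      have hcom : ∀ z : GL Four F, IsScal z → ∀ w, Commute z w := fun z hz w => hz.comm w
      rw [_root_.mul_inv_rev, _root_.mul_inv_rev, show s * x * (t * y) * (x⁻¹ * s⁻¹) * (y⁻¹ * t⁻¹) =
          s * (x * t * y * x⁻¹) * s⁻¹ * y⁻¹ * t⁻¹ by group,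
        (hcom s hs (x * t * y * x⁻¹)).eq, mul_inv_cancel_right, ← (hcom t ht x).eq,
        show t * x * y * x⁻¹ * y⁻¹ * t⁻¹ = t * (x * y * x⁻¹ * y⁻¹) * t⁻¹ by group,
        (hcom t ht (x * y * x⁻¹ * y⁻¹)).eq, mul_inv_cancel_right]
    rw [this]
    exact mul_mem (mul_mem (mul_mem hx hy) (inv_mem hx)) (inv_mem hy)

end Cfsg.Agent.H97.CSix
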