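import Cfsg.Agent.H97.CSix.Model

/-!
The change of basis to the standard group, and maximality transport.
-/

set_option autoImplicit false
set_option linter.unusedSectionVars false

namespace Cfsg.Agent.H97.CSix

open Matrix

variable {F : Type*} [Field F]

section Pairs

variable {n : Type} [Fintype n] [DecidableEq n]

/-- A power with exponent in the field with two elements. -/
def pw (g : GL n F) (s : ZMod 2) : GL n F := if s = 0 then 1 else g

theorem pw_zero (g : GL n F) : pw g 0 = 1 := if_pos rfl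

theorem pw_one (g : GL n F) : pw g 1 = g := if_neg (by decide)

theorem pw_add {g : GL n F} (hg : g * g = 1) (s t : ZMod 2) : pw g (s + t) = pw g s * pw g t := by
  rcases z2_cases s with rfl | rfl <;> rcases z2_cases t with rfl | rfl <;>
    simp [pw_zero, pw_one, hg, (by decide : (1 : ZMod 2) + 1 = 0)]

theorem pw_comm {g h : GL n F} (hgh : g * h = h * g) (s t : ZMod 2) : pw g s * pw h t = pw h t * pw g s := by
  rcases z2_cases s with rfl | rfl <;> rcases z2_cases t with rfl | rfl <;> simp [pw_zero, pw_one, hgh]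

variable (P : Pairs n F)

/-- The product of the second members. -/
def Pairs.xp (u : Eight) : GL n F := pw (P.x 0) u.1 * pw (P.x 1) u.2.1 * pw (P.x 2) u.2.2

/-- The label of a member. -/
def unit3 : Fin 3 → Eight := ![(1, 0, 0), (0, 1, 0), (0, 0, 1)]

theorem Pairs.xp_add (u v : Eight) : P.xp (u + v) = P.xp u * P.xp v := by
  simp only [Pairs.xp, Prod.fst_add, Prod.snd_add, pw_add (P.xx _)]
  have c01 := pw_comm (P.cx 1 0) u.2.1 v.1
  have c02 := pw_comm (P.cx 2 0) u.2.2 v.1
  have c12 := pw_comm (P.cx 2 1) u.2.2 v.2.1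
  calc pw (P.x 0) u.1 * pw (P.x 0) v.1 * (pw (P.x 1) u.2.1 * pw (P.x 1) v.2.1) *
        (pw (P.x 2) u.2.2 * pw (P.x 2) v.2.2)
      = pw (P.x 0) u.1 * (pw (P.x 0) v.1 * pw (P.x 1) u.2.1) * (pw (P.x 1) v.2.1 * pw (P.x 2) u.2.2) *
        pw (P.x 2) v.2.2 := by group
    _ = pw (P.x 0) u.1 * (pw (P.x 1) u.2.1 * pw (P.x 0) v.1) * (pw (P.x 2) u.2.2 * pw (P.x 1) v.2.1) *
        pw (P.x 2) v.2.2 := by rw [c01, c12]
    _ = pw (P.x 0) u.1 * pw (P.x 1) u.2.1 * (pw (P.x 0) v.1 * pw (P.x 2) u.2.2) * pw (P.x 1) v.2.1 *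
        pw (P.x 2) v.2.2 := by group
    _ = pw (P.x 0) u.1 * pw (P.x 1) u.2.1 * (pw (P.x 2) u.2.2 * pw (P.x 0) v.1) * pw (P.x 1) v.2.1 *
        pw (P.x 2) v.2.2 := by rw [c02]
    _ = _ := by group

theorem Pairs.xp_unit (j : Fin 3) : P.xp (unit3 j) = P.x j := by
  fin_cases j <;> simp [Pairs.xp, unit3, pw_zero, pw_one]

theorem Pairs.z_pw (j k : Fin 3) (s : ZMod 2) :
    ((P.z j * pw (P.x k) s : GL n F) : Matrix n n F) =
      sg F (if j = k then s else 0) • ((pw (P.x k) s * P.z j : GL n F) : Matrix n n F) := by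
  rcases z2_cases s with rfl | rfl
  · simp [pw_zero]
  · rw [pw_one]
    by_cases h : j = k
    · subst h; rw [if_pos rfl, sg_one, P.anti j, Units.val_neg, neg_smul, one_smul]
    · rw [if_neg h, sg_zero, one_smul, P.czx j k h]

/-- The image of a member in coordinates. -/
theorem Pairs.z_xp (j : Fin 3) (u : Eight) :
    (P.z j : Matrix n n F) * (P.xp u : Matrix n n F) =
      sg F (dot (unit3 j) u) • ((P.xp u : Matrix n n F) * (P.z j : Matrix n n F)) := by
  have h := fun k s => P.z_pw j k s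
  simp only [Units.val_mul] at h
  simp only [Pairs.xp, Units.val_mul]
  rw [← mul_assoc, ← mul_assoc, h 0, smul_mul_assoc, smul_mul_assoc, mul_assoc ((pw (P.x 0) u.1 : GL n F) : Matrix n n F),
    h 1, mul_smul_comm, smul_mul_assoc, ← mul_assoc, mul_assoc _ _ ((pw (P.x 2) u.2.2 : GL n F) : Matrix n n F), h 2,
    mul_smul_comm, smul_smul, smul_smul, ← sg_add, ← sg_add]
  congr 1
  · fin_cases j <;>
      simp [unit3, show ∀ b x : Eight, dot b x = b.1 * x.1 + (b.2.1 * x.2.1 + b.2.2 * x.2.2) from fun b x => rfl,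
        add_assoc]
  · simp only [mul_assoc]

/-- The projection to the common fixed vectors of the first members. -/
def Pairs.proj : Matrix n n F :=
  (1 + (P.z 0 : Matrix n n F)) * (1 + (P.z 1 : Matrix n n F)) * (1 + (P.z 2 : Matrix n n F))

theorem Pairs.proj_fix (j : Fin 3) :
    (P.z j : Matrix n n F) * P.proj = P.proj ∧ P.proj * (P.z j : Matrix n n F) = P.proj := by
  have hc : ∀ a b, Commute (P.z a : Matrix n n F) (P.z b : Matrix n n F) := fun a b =>
    congrArg Units.val (P.cz a b)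
  have hcc : ∀ a b, Commute (P.z a : Matrix n n F) (1 + (P.z b : Matrix n n F)) := fun a b =>
    (Commute.one_right _).add_right (hc a b)
  have hcP : Commute (P.z j : Matrix n n F) P.proj := ((hcc j 0).mul_right (hcc j 1)).mul_right (hcc j 2)
  have hself : ∀ a, (P.z a : Matrix n n F) * (1 + (P.z a : Matrix n n F)) = 1 + (P.z a : Matrix n n F) := fun a => by
    rw [mul_add, mul_one, ← Units.val_mul, P.zz a, Units.val_one, add_comm]
  have h1 : (P.z j : Matrix n n F) * P.proj = P.proj := by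
    fin_cases j
    · show (P.z 0 : Matrix n n F) * P.proj = P.proj
      rw [Pairs.proj, ← mul_assoc, ← mul_assoc, hself]
    · show (P.z 1 : Matrix n n F) * P.proj = P.proj
      rw [Pairs.proj, ← mul_assoc, ← mul_assoc, (hcc 1 0).eq, mul_assoc (1 + (P.z 0 : Matrix n n F)), hself]
    · show (P.z 2 : Matrix n n F) * P.proj = P.proj
      rw [Pairs.proj, ← mul_assoc, ((hcc 2 0).mul_right (hcc 2 1)).eq, mul_assoc, hself]
  exact ⟨h1, hcP.eq.symm.trans h1⟩

theorem Pairs.proj_sq : P.proj * P.proj = (8 : F) • P.proj := by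
  have h := fun j => (P.proj_fix j).1
  conv_lhs => enter [1]; rw [Pairs.proj]
  simp only [mul_assoc, add_mul, one_mul, mul_add, h]
  module

/-- Products of first members are traceless. -/
theorem trace_zero_of_anti (h2 : (2 : F) ≠ 0) {g x : GL n F} (h : g * x = -(x * g)) :
    (g : Matrix n n F).trace = 0 := by
  have e : x * g * x⁻¹ = -g := by
    rw [mul_inv_eq_iff_eq_mul, neg_mul, h, neg_neg]
  have := congrArg (fun m : GL n F => (m : Matrix n n F).trace) e
  simp only [Units.val_mul, Units.val_neg, Matrix.trace_neg] at this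
  rw [Matrix.trace_mul_cycle, Units.inv_mul, one_mul] at this
  exact (mul_eq_zero.1 (show (2 : F) * _ = 0 by linear_combination this)).resolve_left h2

theorem Pairs.proj_ne_zero (h2 : (2 : F) ≠ 0) (hn : Fintype.card n = 8) : P.proj ≠ 0 := by
  intro h0
  have a0 : ∀ j, (P.z j : Matrix n n F).trace = 0 := fun j => trace_zero_of_anti h2 (P.anti j)
  have a1 : ∀ j k, j ≠ k → ((P.z j * P.z k : GL n F) : Matrix n n F).trace = 0 := fun j k h =>
    trace_zero_of_anti h2 (x := P.x k) (by
      rw [mul_assoc, P.anti k, mul_neg, ← mul_assoc, P.czx j k h, mul_assoc])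
  have a2 : ((P.z 0 * P.z 1 * P.z 2 : GL n F) : Matrix n n F).trace = 0 := trace_zero_of_anti h2 (x := P.x 2) (by
    rw [mul_assoc, P.anti 2, mul_neg, ← mul_assoc, mul_assoc (P.z 0), P.czx 1 2 (by decide), ← mul_assoc,
      P.czx 0 2 (by decide)]
    group)
  have h := congrArg Matrix.trace h0
  simp only [Pairs.proj, add_mul, mul_add, one_mul, mul_one, ← Units.val_mul, Matrix.trace_add, a0,
    a1 0 1 (by decide), a1 0 2 (by decide), a1 1 2 (by decide), a2, Matrix.trace_one, hn, Matrix.trace_zero] at h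
  norm_num at h
  exact h2 (mul_eq_zero.1 (show (2 : F) * 4 = 0 by linear_combination h) |>.elim _root_.id
    fun h4 => (mul_eq_zero.1 (show (2 : F) * 2 = 0 by linear_combination h4)).elim _root_.id _root_.id)

/-- The basis matrix. -/
def Pairs.bas (c : n) : Matrix n Eight F :=
  Matrix.of fun y u => ((P.xp u : Matrix n n F) * P.proj) y c

theorem Pairs.bas_mulVec (c : n) (a : Eight → F) :
    P.bas c *ᵥ a = fun y => (∑ u, a u • ((P.xp u : Matrix n n F) * P.proj)) y c := by
  funext y
  simp [Pairs.bas, Matrix.mulVec, dotProduct, Matrix.sum_apply, mul_comm]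

theorem Pairs.proj_xp (h2 : (2 : F) ≠ 0) (u : Eight) (hu : u ≠ 0) :
    P.proj * (P.xp u : Matrix n n F) * P.proj = 0 := by
  obtain ⟨j, hj⟩ : ∃ j, dot (unit3 j) u = 1 := by
    revert u; decide
  have hA : (P.z j : Matrix n n F) * (P.xp u : Matrix n n F) = -((P.xp u : Matrix n n F) * (P.z j : Matrix n n F)) := by
    rw [P.z_xp, hj, sg_one, neg_smul, one_smul]
  have e : P.proj * (P.xp u : Matrix n n F) * P.proj = -(P.proj * (P.xp u : Matrix n n F) * P.proj) := by
    conv_lhs => arg 1; arg 1; rw [← (P.proj_fix j).2]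
    rw [mul_assoc P.proj, hA, mul_neg, neg_mul, mul_assoc, mul_assoc (P.xp u : Matrix n n F),
      (P.proj_fix j).1, ← mul_assoc]
  ext y x
  have := congrFun (congrFun e y) x
  simp only [Matrix.neg_apply] at this
  exact (mul_eq_zero.1 (show (2 : F) * _ = 0 by linear_combination this)).resolve_left h2

theorem Pairs.bas_injective (h2 : (2 : F) ≠ 0) {c : n} (hc : ∃ y, P.proj y c ≠ 0) :
    Function.Injective (P.bas c).mulVec := by
  intro a b hab
  have h0 : P.bas c *ᵥ (a - b) = 0 := by rw [Matrix.mulVec_sub, sub_eq_zero]; exact hab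
  rw [← sub_eq_zero]
  funext w
  obtain ⟨y, hy⟩ := hc
  set S : Matrix n n F := ∑ u, (a - b) u • ((P.xp u : Matrix n n F) * P.proj)
  have hS : ∀ z, S z c = 0 := fun z => by
    have := congrFun h0 z
    rwa [P.bas_mulVec] at this
  have e : P.proj * (P.xp w : Matrix n n F) * S = (a - b) w • ((8 : F) • P.proj) := by
    simp only [S, Finset.mul_sum, mul_smul_comm]
    rw [Finset.sum_eq_single w]
    · congr 1
      rw [← mul_assoc, mul_assoc P.proj, ← Units.val_mul, ← P.xp_add, Qubits.two, ← P.proj_sq]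
      simp [Pairs.xp, pw_zero]
    · intro u _ hu
      rw [← mul_assoc, mul_assoc P.proj, ← Units.val_mul, ← P.xp_add, P.proj_xp h2 _ ?_, smul_zero]
      intro h
      exact hu (by rw [← Qubits.neg_eq u]; exact (eq_neg_of_add_eq_zero_left h).symm)
    · simp
  have e' := congrFun (congrFun e y) c
  have hz : (P.proj * (P.xp w : Matrix n n F) * S) y c = 0 := by
    rw [Matrix.mul_apply]; exact Finset.sum_eq_zero fun z _ => by rw [hS, mul_zero]
  rw [hz, Matrix.smul_apply, Matrix.smul_apply, smul_eq_mul, smul_eq_mul] at e'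
  have h8 : (8 : F) ≠ 0 := by
    have : (8 : F) = 2 * 2 * 2 := by norm_num
    rw [this]; exact mul_ne_zero (mul_ne_zero h2 h2) h2
  exact (mul_eq_zero.1 e'.symm).resolve_right (mul_ne_zero h8 hy)

theorem Pairs.z_bas (c : n) (j : Fin 3) :
    (P.z j : Matrix n n F) * P.bas c = P.bas c * pmat F (0 : Eight) (unit3 j) := by
  ext y u
  rw [pmat_diag, Matrix.mul_diagonal]
  show ∑ x, _ * ((P.xp u : Matrix n n F) * P.proj) x c = _
  rw [← Matrix.mul_apply, ← mul_assoc, P.z_xp, smul_mul_assoc, mul_assoc, (P.proj_fix j).1, Matrix.smul_apply,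
    smul_eq_mul, mul_comm]
  rfl

theorem Pairs.x_bas (c : n) (j : Fin 3) :
    (P.x j : Matrix n n F) * P.bas c = P.bas c * pmat F (unit3 j) (0 : Eight) := by
  ext y u
  rw [Matrix.mul_apply, Matrix.mul_apply, Finset.sum_eq_single (u + unit3 j)
    (fun v _ hv => by simp [pmat, mon_apply, hv]) (by simp)]
  show ∑ x, _ * ((P.xp u : Matrix n n F) * P.proj) x c = _
  rw [← Matrix.mul_apply, ← mul_assoc, ← Units.val_mul, ← P.xp_unit j, ← P.xp_add, add_comm]
  simp [pmat, mon_apply, Qubits.zero_dot, Pairs.bas]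

end Pairs

end Cfsg.Agent.H97.CSix
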