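import Cfsg.Agent.H97.CSix.Shear

/-!
Block diagonal matrices with respect to the first coordinate bit.
-/

set_option autoImplicit false

namespace Cfsg.Agent.H97.CSix

open Matrix

variable {F : Type*} [Field F] {β : Type*} [AddCommGroup β] [Qubits β] [Fintype β] [DecidableEq β]

theorem z2_cases (u : ZMod 2) : u = 0 ∨ u = 1 := by revert u; decide

theorem z2_ne : (1 : ZMod 2) ≠ 0 := by decide

/-- The block diagonal matrix with blocks `x` and `y`. -/
def bd (x y : Matrix β β F) : Matrix (ZMod 2 × β) (ZMod 2 × β) F :=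
  Matrix.of fun u v => if u.1 = v.1 then (if u.1 = 0 then x u.2 v.2 else y u.2 v.2) else 0

omit [AddCommGroup β] [Qubits β] [Fintype β] [DecidableEq β] in
theorem bd_apply (x y : Matrix β β F) (u v : ZMod 2 × β) :
    bd x y u v = if u.1 = v.1 then (if u.1 = 0 then x u.2 v.2 else y u.2 v.2) else 0 := rfl

omit [AddCommGroup β] [Qubits β] [DecidableEq β] in
theorem bd_mul (x y x' y' : Matrix β β F) : bd x y * bd x' y' = bd (x * x') (y * y') := by
  ext u v
  rw [Matrix.mul_apply, Fintype.sum_prod_type,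
    Finset.sum_eq_single u.1 (fun c _ hc => Finset.sum_eq_zero fun d _ => by simp [bd_apply, Ne.symm hc]) (by simp)]
  rcases z2_cases u.1 with hu | hu <;> rcases z2_cases v.1 with hv | hv <;>
    simp [bd_apply, hu, hv, z2_ne, z2_ne.symm, Matrix.mul_apply]

omit [AddCommGroup β] [Qubits β] [Fintype β] in
theorem bd_one : bd (1 : Matrix β β F) 1 = 1 := by
  ext u v
  by_cases h : u = v
  · subst h; simp [bd_apply]
  · by_cases h1 : u.1 = v.1
    · have h2 : u.2 ≠ v.2 := fun h2 => h (Prod.ext h1 h2)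
      simp [bd_apply, h1, h, h2]
    · simp [bd_apply, h1, h]

omit [AddCommGroup β] [Qubits β] [Fintype β] [DecidableEq β] in
theorem bd_smul (c : F) (x y : Matrix β β F) : c • bd x y = bd (c • x) (c • y) := by
  ext u v
  rcases z2_cases u.1 with hu | hu <;> rcases z2_cases v.1 with hv | hv <;>
    simp [bd_apply, hu, hv, z2_ne, z2_ne.symm]

omit [AddCommGroup β] [Qubits β] [Fintype β] [DecidableEq β] in
theorem bd_add (x y x' y' : Matrix β β F) : bd x y + bd x' y' = bd (x + x') (y + y') := by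
  ext u v
  rcases z2_cases u.1 with hu | hu <;> rcases z2_cases v.1 with hv | hv <;>
    simp [bd_apply, hu, hv, z2_ne, z2_ne.symm]

omit [AddCommGroup β] [Qubits β] [Fintype β] [DecidableEq β] in
theorem bd_sub (x y x' y' : Matrix β β F) : bd x y - bd x' y' = bd (x - x') (y - y') := by
  ext u v
  rcases z2_cases u.1 with hu | hu <;> rcases z2_cases v.1 with hv | hv <;> simp [bd_apply, hu, hv]

omit [AddCommGroup β] [Qubits β] [Fintype β] [DecidableEq β] in
theorem bd_inj {x y x' y' : Matrix β β F} (h : bd x y = bd x' y') : x = x' ∧ y = y' :=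
  ⟨Matrix.ext fun a b => by simpa [bd_apply] using congrFun (congrFun h (0, a)) (0, b),
    Matrix.ext fun a b => by simpa [bd_apply, z2_ne] using congrFun (congrFun h (1, a)) (1, b)⟩

/-- The block diagonal unit. -/
def bdU (x y : GL β F) : GL (ZMod 2 × β) F where
  val := bd (x : Matrix β β F) (y : Matrix β β F)
  inv := bd ((x⁻¹ : GL β F) : Matrix β β F) ((y⁻¹ : GL β F) : Matrix β β F)
  val_inv := by rw [bd_mul, Units.mul_inv, Units.mul_inv, bd_one]
  inv_val := by rw [bd_mul, Units.inv_mul, Units.inv_mul, bd_one]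

omit [AddCommGroup β] [Qubits β] in
theorem bdU_val (x y : GL β F) :
    (bdU x y : Matrix (ZMod 2 × β) (ZMod 2 × β) F) = bd (x : Matrix β β F) (y : Matrix β β F) := rfl

omit [AddCommGroup β] [Qubits β] in
theorem bdU_mul (x y x' y' : GL β F) : bdU x y * bdU x' y' = bdU (x * x') (y * y') :=
  Units.ext (by rw [Units.val_mul, bdU_val, bdU_val, bd_mul]; rfl)

omit [AddCommGroup β] [Qubits β] in
theorem bdU_inv (x y : GL β F) : (bdU x y)⁻¹ = bdU x⁻¹ y⁻¹ := Units.ext rfl

omit [AddCommGroup β] [Qubits β] in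
theorem bdU_one : bdU (1 : GL β F) 1 = 1 := Units.ext (by rw [bdU_val, Units.val_one, bd_one, Units.val_one])

omit [AddCommGroup β] [Qubits β] in
theorem bdU_inj {x y x' y' : GL β F} (h : bdU x y = bdU x' y') : x = x' ∧ y = y' := by
  obtain ⟨h1, h2⟩ := bd_inj (congrArg Units.val h)
  exact ⟨Units.ext h1, Units.ext h2⟩

/-- The sign of the first bit. -/
abbrev z1 : GL (ZMod 2 × β) F := pu 0 (1, 0)

omit [Fintype β] [DecidableEq β] in
theorem dot_prod (b x : ZMod 2 × β) : dot b x = b.1 * x.1 + dot b.2 x.2 := rfl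

omit [Fintype β] in
theorem pmat_bd (a' : β) (c : ZMod 2) (b' : β) :
    pmat F ((0, a') : ZMod 2 × β) (c, b') = bd (pmat F a' b') (sg F c • pmat F a' b') := by
  ext u v
  rcases z2_cases u.1 with hu | hu <;> rcases z2_cases v.1 with hv | hv <;>
    by_cases h2 : u.2 = v.2 + a' <;>
    simp [pmat, bd_apply, mon_apply, dot_prod, hu, hv, h2, z2_ne, z2_ne.symm, Prod.ext_iff, sg_add]

theorem z1_val : ((z1 : GL (ZMod 2 × β) F) : Matrix (ZMod 2 × β) (ZMod 2 × β) F) = bd 1 (-1) := by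
  rw [pu_val]
  show pmat F ((0, 0) : ZMod 2 × β) (1, 0) = _
  rw [pmat_bd, pmat_zero, sg_one, neg_smul, one_smul]

/-- The flip of the first bit. -/
abbrev x1 : GL (ZMod 2 × β) F := pu (1, 0) 0

theorem x1_conj (x y : GL β F) : (x1 : GL (ZMod 2 × β) F) * bdU x y * (x1)⁻¹ = bdU y x := by
  rw [mul_inv_eq_iff_eq_mul]
  refine Units.ext ?_
  ext u v
  simp only [Units.val_mul, bdU_val, pu_val, Matrix.mul_apply, pmat, mon_apply, bd_apply]
  rw [Finset.sum_eq_single (u + (1, 0)) (fun c _ hc => ?_) (by simp),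
    Finset.sum_eq_single (v + (1, 0)) (fun c _ hc => ?_) (by simp)]
  · rcases z2_cases u.1 with hu | hu <;> rcases z2_cases v.1 with hv | hv <;>
      simp [Qubits.zero_dot, hu, hv, add_assoc, Qubits.two, z2_ne, z2_ne.symm, (by decide : (1 : ZMod 2) + 1 = 0)]
  · rw [if_neg (c := c = Equiv.addRight ((1, 0) : ZMod 2 × β) v) (by simpa using hc), mul_zero]
  · rw [if_neg (c := u = Equiv.addRight ((1, 0) : ZMod 2 × β) c) (fun h => hc (by
      rw [h, Equiv.coe_addRight, add_assoc, Qubits.two, add_zero])), zero_mul]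

/-- An element commuting with the sign of the first bit is block diagonal. -/
theorem exists_bdU (h2 : (2 : F) ≠ 0) {g : GL (ZMod 2 × β) F} (hg : g * z1 = z1 * g) :
    ∃ x y : GL β F, g = bdU x y := by
  have key : ∀ h : GL (ZMod 2 × β) F, h * z1 = z1 * h →
      (h : Matrix (ZMod 2 × β) (ZMod 2 × β) F) =
        bd (Matrix.of fun a b => (h : Matrix (ZMod 2 × β) (ZMod 2 × β) F) (0, a) (0, b))
          (Matrix.of fun a b => (h : Matrix (ZMod 2 × β) (ZMod 2 × β) F) (1, a) (1, b)) := by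
    intro h hh
    have e0 : ((h : GL (ZMod 2 × β) F) : Matrix (ZMod 2 × β) (ZMod 2 × β) F) * pmat F 0 ((1, 0) : ZMod 2 × β) =
        pmat F 0 ((1, 0) : ZMod 2 × β) * (h : Matrix (ZMod 2 × β) (ZMod 2 × β) F) := congrArg Units.val hh
    rw [pmat_diag] at e0
    ext u v
    have e := congrFun (congrFun e0 u) v
    rw [Matrix.mul_diagonal, Matrix.diagonal_mul] at e
    obtain ⟨u1, u2⟩ := u
    obtain ⟨v1, v2⟩ := v
    simp only [dot_prod, Qubits.zero_dot, add_zero, one_mul] at e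
    rcases z2_cases u1 with rfl | rfl <;> rcases z2_cases v1 with rfl | rfl <;>
      simp only [bd_apply, z2_ne, z2_ne.symm, if_true, if_false, Matrix.of_apply] <;>
      simp only [sg_zero, sg_one, mul_one, one_mul, mul_neg_one, neg_one_mul] at e
    · exact (mul_eq_zero.1 (show (2 : F) * _ = 0 by linear_combination -e)).resolve_left h2
    · exact (mul_eq_zero.1 (show (2 : F) * _ = 0 by linear_combination e)).resolve_left h2
  have hg' : g⁻¹ * z1 = z1 * g⁻¹ := by
    rw [inv_mul_eq_iff_eq_mul, ← mul_assoc, hg, mul_inv_cancel_right]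
  have e1 := key g hg
  have e2 := key g⁻¹ hg'
  have a1 := congrArg Units.val (mul_inv_cancel g)
  have a2 := congrArg Units.val (inv_mul_cancel g)
  rw [Units.val_mul, e1, e2, bd_mul, Units.val_one, ← bd_one] at a1
  rw [Units.val_mul, e2, e1, bd_mul, Units.val_one, ← bd_one] at a2
  obtain ⟨a11, a12⟩ := bd_inj a1
  obtain ⟨a21, a22⟩ := bd_inj a2
  exact ⟨⟨_, _, a11, a21⟩, ⟨_, _, a12, a22⟩, Units.ext e1⟩

variable (r : Root F)

theorem Root.pu_bdU (a' : β) (b' : β) : bdU (pu a' b' : GL β F) (pu a' b') = pu (0, a') (0, b') :=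
  Units.ext (by rw [bdU_val, pu_val, pu_val, pmat_bd, sg_zero, one_smul])

theorem Root.bd_R {p : GL β F} (hp : p ∈ r.R β) : bdU p p ∈ r.R (ZMod 2 × β) := by
  obtain ⟨k, a, b, hp⟩ := hp
  exact ⟨k, (0, a), (0, b), by rw [bdU_val, hp, pmat_bd, sg_zero, one_smul, bd_smul]⟩

omit [AddCommGroup β] [Qubits β] in
theorem Root.bd_T {p : GL β F} (hp : p * p = 1) :
    bdU (r.T p hp) (r.T p hp) = r.T (bdU p p) (by rw [bdU_mul, hp, bdU_one]) := by
  refine Units.ext ?_
  rw [bdU_val, halfU_val, halfU_val, half, half, bdU_val, ← bd_one, bd_smul, bd_smul, bd_add]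

/-- The diagonal embedding of the generated group. -/
theorem Root.bd_gam {n : GL β F} (hn : n ∈ r.gam β) : bdU n n ∈ r.gam (ZMod 2 × β) := by
  induction hn using Subgroup.closure_induction with
  | mem g hg =>
    rcases hg with hg | ⟨p, hp, hpR, rfl⟩
    · exact r.R_le_gam (r.bd_R hg)
    · rw [r.bd_T hp]; exact r.T_mem_gam _ (r.bd_R hpR)
  | one => rw [bdU_one]; exact one_mem _
  | mul a b _ _ ha hb => rw [← bdU_mul]; exact mul_mem ha hb
  | inv a _ ha => rw [← bdU_inv]; exact inv_mem ha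

/-- The controlled scalar. -/
theorem Root.ctrl_iu : bdU (1 : GL β F) (iu r.i r.sq) ∈ r.gam (ZMod 2 × β) := by
  convert r.phase_mem ((1, 0) : ZMod 2 × β) using 1
  refine Units.ext ?_
  rw [bdU_val, Units.val_one, iu_val, monU_val, mon_diag]
  ext u v
  rcases z2_cases u.1 with hu | hu <;> rcases z2_cases v.1 with hv | hv <;>
    simp [bd_apply, Matrix.diagonal_apply, dot_prod, Qubits.zero_dot, hu, hv, z2_ne, z2_ne.symm, Prod.ext_iff,
      Matrix.one_apply]

/-- The controlled elements of the standard group. -/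
theorem Root.ctrl_mem {p : GL β F} (hp : p ∈ r.R β) : bdU 1 p ∈ r.gam (ZMod 2 × β) := by
  obtain ⟨q, hq, hqq, hcase⟩ := exists_invol r.i r.sq hp
  have hq' : bdU (1 : GL β F) q ∈ r.gam (ZMod 2 × β) := by
    have hz : (z1 : GL (ZMod 2 × β) F) * z1 = 1 := pu_sq_of_dot (Qubits.dot_zero _)
    have hb : bdU q q * bdU q q = 1 := by rw [bdU_mul, hqq, bdU_one]
    have hzb : (z1 : GL (ZMod 2 × β) F) * bdU q q * (z1 * bdU q q) = 1 := by
      have e : (z1 : GL (ZMod 2 × β) F) * bdU q q = bdU q q * z1 := Units.ext (by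
        rw [Units.val_mul, Units.val_mul, z1_val, bdU_val, bd_mul, bd_mul, one_mul, mul_one, neg_one_mul,
          mul_neg_one])
      rw [mul_assoc, ← mul_assoc (bdU q q) z1, ← e, mul_assoc (z1 : GL (ZMod 2 × β) F) (bdU q q), hb, mul_one, hz]
    have hm : r.T z1 hz * r.T _ hb * (r.T _ hzb)⁻¹ ∈ r.gam (ZMod 2 × β) :=
      mul_mem (mul_mem (r.T_mem_gam hz (pu_mem _ _ _ _)) (r.T_mem_gam hb (r.bd_R hq)))
        (inv_mem (r.T_mem_gam hzb (mul_mem (pu_mem _ _ _ _) (r.bd_R hq))))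
    convert hm using 1
    refine Units.ext ?_
    rw [halfU_ctrl r.two r.sq hz hb hzb, z1_val, bdU_val, bdU_val, bd_mul, Units.val_one, one_mul, neg_one_mul,
      ← bd_one, bd_add, bd_add, bd_sub, bd_smul]
    refine congrArg₂ bd ?_ ?_
    · rw [add_sub_cancel_right, ← two_smul F (1 : Matrix β β F), smul_smul, inv_mul_cancel₀ r.two, one_smul]
    · rw [add_neg_cancel, zero_add, sub_neg_eq_add, ← two_smul F ((q : GL β F) : Matrix β β F), smul_smul,
        inv_mul_cancel₀ r.two, one_smul]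
  rcases hcase with rfl | rfl
  · exact hq'
  · have := mul_mem (inv_mem (r.ctrl_iu (β := β))) hq'
    rwa [bdU_inv, bdU_mul, inv_one, one_mul, inv_mul_cancel_left] at this

/-- Every element of the standard group is a block diagonal one, possibly after the flip. -/
theorem Root.R_decomp {p : GL (ZMod 2 × β) F} (hp : p ∈ r.R (ZMod 2 × β)) :
    ∃ x ∈ r.R β, ∃ y ∈ r.R β, (y = x ∨ y = -x) ∧ (p = bdU x y ∨ p = x1 * bdU x y) := by
  obtain ⟨k, ⟨a, a'⟩, ⟨c, b'⟩, hp⟩ := hp
  have hne : ∀ v : F, v ≠ 0 → ∀ x : GL β F, ∃ y : GL β F, (y : Matrix β β F) = v • (x : Matrix β β F) := fun v hv x =>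
    ⟨⟨v • (x : Matrix β β F), v⁻¹ • ((x⁻¹ : GL β F) : Matrix β β F),
      by rw [smul_mul_assoc, mul_smul_comm, Units.mul_inv, smul_smul, mul_inv_cancel₀ hv, one_smul],
      by rw [smul_mul_assoc, mul_smul_comm, Units.inv_mul, smul_smul, inv_mul_cancel₀ hv, one_smul]⟩, rfl⟩
  obtain ⟨x, hx⟩ := hne (r.i ^ k) (pow_ne_zero _ (i_ne_zero r.i r.sq)) (pu a' b')
  rw [pu_val] at hx
  have hxR : x ∈ r.R β := ⟨k, a', b', hx⟩
  have hy : ∃ y : GL β F, (y = x ∨ y = -x) ∧ (y : Matrix β β F) = sg F c • (x : Matrix β β F) := by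
    rcases sg_cases (F := F) c with ⟨-, h⟩ | ⟨-, h⟩
    · exact ⟨x, Or.inl rfl, by rw [h, one_smul]⟩
    · exact ⟨-x, Or.inr rfl, by rw [h, Units.val_neg, neg_smul, one_smul]⟩
  obtain ⟨y, hy1, hy2⟩ := hy
  refine ⟨x, hxR, y, ?_, hy1, ?_⟩
  · rcases hy1 with rfl | rfl
    exacts [hxR, neg_mem_std _ _ hxR]
  rcases z2_cases a with rfl | rfl
  · refine Or.inl (Units.ext ?_)
    rw [hp, pmat_bd, bdU_val, hx, hy2, hx, bd_smul, smul_comm]
  · refine Or.inr (Units.ext ?_)
    have e : bd (x : Matrix β β F) (y : Matrix β β F) = r.i ^ k • pmat F ((0, a') : ZMod 2 × β) (c, b') := by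
      rw [pmat_bd, hy2, hx, bd_smul, smul_comm]
    rw [hp, Units.val_mul, bdU_val, e, pu_val, mul_smul_comm, pmat_mul, Qubits.zero_dot, sg_zero, one_smul,
      Prod.mk_add_mk, add_zero, zero_add, zero_add]

end Cfsg.Agent.H97.CSix
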