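import Cfsg.Agent.H97.CSix.Main

/-!
Dimension eight: an overgroup of the generated group without controlled gates lies in the normaliser.
-/

set_option autoImplicit false

namespace Cfsg.Agent.H97.CSix

open Matrix Module

/-- The index set of dimension eight. -/
abbrev Eight : Type := ZMod 2 × (ZMod 2 × ZMod 2)

variable {F : Type*} [Field F] [Fintype F] (r : Root F)

theorem not_sim_cz (w : Eight × Eight) :
    ¬ Sim (monU (1 : Equiv.Perm Eight)
      (fun x => if dot ((1, 0, 0) : Eight) x = 1 ∧ dot ((0, 1, 0) : Eight) x = 1 then (-1 : F) else 1)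
      (fun x => by split_ifs <;> simp)) w ∨ (2 : F) = 0 := by
  by_cases h2 : (2 : F) = 0
  · exact Or.inr h2
  left
  rintro ⟨s, ⟨c, hc⟩, e⟩
  have e' := congrArg Units.val e
  rw [Units.val_mul, hc, smul_mul_assoc, one_mul, pu_val, monU_val, pmat, mon_smul] at e'
  obtain ⟨-, hd⟩ := mon_inj (fun x => by split_ifs <;> simp) e'
  obtain ⟨a, b1, b2, b3⟩ := w
  have h00 := congrFun hd (0, 0, 0)
  have h10 := congrFun hd (1, 0, 0)
  have h01 := congrFun hd (0, 1, 0)
  have h11 := congrFun hd (1, 1, 0)
  simp only [show ∀ b x : Eight, dot b x = b.1 * x.1 + (b.2.1 * x.2.1 + b.2.2 * x.2.2) from fun b x => rfl]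
    at h00 h10 h01 h11
  simp at h00 h10 h01 h11
  rw [← h00, one_mul] at h10 h01 h11
  rw [sg_add, ← h10, ← h01, mul_one] at h11
  exact h2 (by linear_combination -h11)

/-- The core statement in dimension eight. -/
theorem le_normaliser {H : Subgroup (GL Eight F)} (hH : r.gam Eight ≤ H) (hN : NoCtrl r H) :
    H ≤ r.Y Eight := by
  have h3 : finrank (ZMod 2) Eight = 3 := by
    rw [Module.finrank_prod, Module.finrank_prod, Module.finrank_self]
  refine le_Y r hH (centred r hH hN) h3 (r.cz_mem ((1, 0, 0) : Eight) ((0, 1, 0) : Eight)) ?_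
    fun w => (not_sim_cz w).resolve_right r.two
  refine Units.ext ?_
  rw [Units.val_mul, monU_val, mon_mul, one_mul, Units.val_one, ← mon_one]
  congr 1
  funext x
  simp only [Equiv.Perm.one_apply]
  by_cases h : dot ((1, 0, 0) : Eight) x = 1 ∧ dot ((0, 1, 0) : Eight) x = 1 <;> simp [h]

end Cfsg.Agent.H97.CSix
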