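import Cfsg.Agent.H97.CSix.Sign
import Cfsg.Agent.H97.CSix.Act
import Cfsg.Agent.H97.CSix.Eight
import Cfsg.Agent.H46.SympExpFour
import Cfsg.Prelude.Def_GeometricClasses

/-!
A group of symplectic type of order 256 in dimension eight is conjugate to the standard one.
-/

set_option autoImplicit false
set_option linter.unusedSectionVars false

namespace Cfsg.Agent.H97.CSix

open Matrix

section General

variable {F : Type*} [Field F] {n : Type} [Fintype n] [DecidableEq n]

/-- The facts used about the group. -/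
structure SympData (R : Subgroup (GL n F)) (r : Root F) : Prop where
  imem : ∀ g : GL n F, (g : Matrix n n F) = r.i • 1 → g ∈ R
  scalar_pow : ∀ g ∈ R, ∀ c : F, (g : Matrix n n F) = c • 1 → c ^ 4 = 1
  sq : ∀ g ∈ R, g * g = 1 ∨ g * g = -1
  comm : ∀ g ∈ R, ∀ h ∈ R, g * h = h * g ∨ g * h = -(h * g)
  schur : ∀ M : Matrix n n F,
    (∀ g ∈ R, M * (g : Matrix n n F) = (g : Matrix n n F) * M) → ∃ c : F, M = c • 1

/-- The scalar unit. -/
def scU (n : Type) [Fintype n] [DecidableEq n] : Fˣ →* GL n F :=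
  Units.map (Matrix.scalar n : F →+* Matrix n n F).toMonoidHom

theorem scU_val (t : Fˣ) : ((scU n t : GL n F) : Matrix n n F) = (t : F) • 1 := by
  simp [scU, Matrix.smul_one_eq_diagonal]

/-- The scalar square root of minus one. -/
def iS (n : Type) [Fintype n] [DecidableEq n] (r : Root F) : GL n F :=
  scU n (Units.mk0 r.i (i_ne_zero r.i r.sq))

theorem iS_val (r : Root F) : ((iS n r : GL n F) : Matrix n n F) = r.i • 1 := scU_val _

theorem iS_scal (r : Root F) : IsScal (iS n r : GL n F) := ⟨r.i, iS_val r⟩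

theorem exists_sympData [Nonempty n] [Finite F] (h2 : (2 : F) ≠ 0) (R : Subgroup (GL n F))
    (hRs : Cfsg.Geo.IsSymplecticTypeGroup 2 R)
    (hRi : Cfsg.Geo.ActsAbsolutelyIrreducibly (Cfsg.Geo.matrixSet R))
    (hRZ : Nat.card (Subgroup.center R) = 4) : ∃ r : Root F, SympData R r := by
  classical
  obtain ⟨x₀⟩ := ‹Nonempty n›
  have h4 : ∀ a : R, a ^ 4 = 1 := fun a => by
    have h := Monoid.pow_exponent_eq_one a
    rwa [hRs.exponent_eq, show 2 * Nat.gcd 2 2 = 4 by norm_num] at h
  have hsch : ∀ M : Matrix n n F,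
      (∀ g ∈ R, M * (g : Matrix n n F) = (g : Matrix n n F) * M) → ∃ c : F, M = c • 1 := by
    intro M hM
    refine hRi.2 M ?_
    rintro _ ⟨g, hg, rfl⟩
    exact hM g hg
  have hcs : ∀ z : R, z ∈ Subgroup.center R → IsScal (z : GL n F) := by
    intro z hz
    refine hsch _ fun g hg => ?_
    have h := congrArg Subtype.val (Subgroup.mem_center_iff.1 hz ⟨g, hg⟩)
    exact (congrArg (fun a : GL n F => (a : Matrix n n F)) h).symm
  have sinj : ∀ a b : F, a • (1 : Matrix n n F) = b • 1 → a = b := fun a b h => by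
    simpa using congrFun (congrFun h x₀) x₀
  let sc : Fˣ →* GL n F := scU n
  have hinj : Function.Injective sc := fun a b h => Units.ext (sinj _ _ (by rw [← scU_val, ← scU_val]; exact congrArg Units.val h))
  let S : Subgroup Fˣ := R.comap sc
  have hS : Nat.card S = 4 := by
    rw [← hRZ]
    refine Nat.card_congr (Equiv.ofBijective (fun t => ⟨⟨sc t.1, t.2⟩, ?_⟩) ⟨?_, ?_⟩)
    · exact Subgroup.mem_center_iff.2 fun g =>
        Subtype.ext ((show IsScal (sc t.1) from ⟨_, scU_val t.1⟩).comm (g : GL n F)).symm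
    · intro a b h
      exact Subtype.ext (hinj (congrArg Subtype.val (congrArg Subtype.val h)))
    · rintro ⟨⟨g, hg⟩, hz⟩
      obtain ⟨c, hc⟩ := hcs _ hz
      have hc' : (g : Matrix n n F) = c • 1 := hc
      have hc0 : c ≠ 0 := by
        rintro rfl
        exact g.ne_zero (by rw [hc', zero_smul])
      have hgs : sc (Units.mk0 c hc0) = g := Units.ext (by rw [scU_val, hc']; rfl)
      refine ⟨⟨Units.mk0 c hc0, show sc _ ∈ R by rw [hgs]; exact hg⟩, ?_⟩
      exact Subtype.ext (Subtype.ext hgs)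
  obtain ⟨t, ht⟩ := IsCyclic.exists_generator (α := S)
  have hto : orderOf t = 4 := (orderOf_eq_card_of_forall_mem_zpowers ht).trans hS
  have hi2 : ((t : Fˣ) : F) * ((t : Fˣ) : F) = -1 := by
    have h1 : (((t : Fˣ) : F) * ((t : Fˣ) : F)) * (((t : Fˣ) : F) * ((t : Fˣ) : F)) = 1 := by
      have h := congrArg (fun a : S => ((a : Fˣ) : F)) (pow_orderOf_eq_one t)
      rw [hto] at h
      simp only [SubmonoidClass.coe_pow, Units.val_pow_eq_pow_val, OneMemClass.coe_one, Units.val_one] at h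
      linear_combination h
    rcases mul_self_eq_one_iff.1 h1 with h | h
    · exfalso
      have h' : t ^ 2 = 1 := Subtype.ext (Units.ext (by
        simp only [SubmonoidClass.coe_pow, Units.val_pow_eq_pow_val, OneMemClass.coe_one, Units.val_one, pow_two]
        exact h))
      have hd2 := orderOf_dvd_of_pow_eq_one h'
      rw [hto] at hd2
      norm_num at hd2
    · exact h
  have hsq : sc ((t : Fˣ) * t) ∈ R := (t * t).2
  have hneg : sc ((t : Fˣ) * t) = -1 := Units.ext (by
    rw [scU_val, Units.val_mul, hi2, Units.val_neg, Units.val_one, neg_smul, one_smul])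
  rw [hneg] at hsq
  set z : R := ⟨-1, hsq⟩ with hz
  have hzc : z ∈ Subgroup.center R := Subgroup.mem_center_iff.2 fun g => Subtype.ext (by
    show (g : GL n F) * -1 = -1 * (g : GL n F)
    rw [mul_neg_one, neg_one_mul])
  have hne : (-1 : GL n F) ≠ 1 := fun h => by
    have h' := congrArg (fun a : GL n F => (a : Matrix n n F) x₀ x₀) h
    simp only [Units.val_neg, Units.val_one, Matrix.neg_apply, Matrix.one_apply_eq] at h'
    exact h2 (by linear_combination -h')
  have hz2 : z ^ 2 = 1 := Subtype.ext (by simp [hz, pow_two])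
  have hQ : Cfsg.IsOfSymplecticType R := ⟨hRs.pGroup, hRs.cyclic_of_characteristic⟩
  obtain ⟨⟨hsm, hcm⟩, -⟩ := H46.symp_exp_four hQ h4 hzc hz2 (fun h => hne (congrArg Subtype.val h))
  refine ⟨⟨((t : Fˣ) : F), hi2, h2⟩, fun g hg => ?_, fun g hg c hc => ?_, fun g hg => ?_, fun g hg h hh => ?_, hsch⟩
  · have hgs : g = sc (t : Fˣ) := Units.ext (by rw [scU_val, hg])
    rw [hgs]; exact t.2
  · have h := congrArg (fun a : GL n F => (a : Matrix n n F)) (congrArg Subtype.val (h4 ⟨g, hg⟩))
    simp only [SubmonoidClass.coe_pow, Units.val_pow_eq_pow_val, OneMemClass.coe_one, Units.val_one, hc] at h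
    rw [smul_pow, one_pow] at h
    exact sinj _ _ (h.trans (one_smul F _).symm)
  · rcases hsm ⟨g, hg⟩ with e | e
    · exact Or.inl (by simpa [pow_two] using congrArg Subtype.val e)
    · exact Or.inr (by simpa [pow_two, hz] using congrArg Subtype.val e)
  · rcases hcm ⟨g, hg⟩ ⟨h, hh⟩ with e | e
    · left
      have e' : g * h * g⁻¹ * h⁻¹ = 1 := congrArg Subtype.val e
      rw [mul_inv_eq_one, mul_inv_eq_iff_eq_mul] at e'
      exact e'
    · right
      have e' : g * h * g⁻¹ * h⁻¹ = -1 := congrArg Subtype.val e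
      rw [mul_inv_eq_iff_eq_mul, mul_inv_eq_iff_eq_mul] at e'
      rw [e', neg_one_mul, neg_mul]

variable {R : Subgroup (GL n F)} {r : Root F} (hd : SympData R r)
include hd

theorem SympData.neg_mem : (-1 : GL n F) ∈ R := by
  have hi := hd.imem (iS n r) (iS_val r)
  have e : (iS n r : GL n F) * iS n r = -1 := Units.ext (by simp [iS_val, smul_smul, r.sq])
  rw [← e]
  exact mul_mem hi hi

theorem SympData.invol {g : GL n F} (hg : g ∈ R) : ∃ h ∈ R, h * h = 1 ∧ (h = g ∨ h = iS n r * g) := by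
  have hi := hd.imem (iS n r) (iS_val r)
  rcases hd.sq g hg with h | h
  · exact ⟨g, hg, h, Or.inl rfl⟩
  · refine ⟨iS n r * g, mul_mem hi hg, ?_, Or.inr rfl⟩
    have hc : IsScal (iS n r : GL n F) := iS_scal r
    rw [mul_assoc, ← mul_assoc g, ← hc.comm g, mul_assoc, ← mul_assoc, h]
    refine Units.ext ?_
    simp [iS_val, smul_smul, r.sq]

/-- Adjusting an element to commute with an anticommuting pair. -/
theorem SympData.adjust {a b : GL n F} (ha : a ∈ R) (hb : b ∈ R) (hab : a * b = -(b * a)) {g : GL n F}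
    (hg : g ∈ R) :
    ∃ (e d : Bool), ∃ c ∈ R, g = c * (if e then a else 1) * (if d then b else 1) ∧ c * a = a * c ∧ c * b = b * c := by
  rcases hd.comm g hg a ha with h1 | h1 <;> rcases hd.comm g hg b hb with h3 | h3
  · exact ⟨false, false, g, hg, by simp, h1, h3⟩
  · refine ⟨true, false, g * a⁻¹, mul_mem hg (inv_mem ha), by simp, ?_, ?_⟩
    · rw [inv_mul_cancel_right, ← mul_assoc, ← h1, mul_inv_cancel_right]
    · have e : a⁻¹ * b = -(b * a⁻¹) := by
        rw [inv_mul_eq_iff_eq_mul, mul_neg, ← mul_assoc, hab, neg_mul, neg_neg, mul_inv_cancel_right]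
      rw [mul_assoc, e, mul_neg, ← mul_assoc, h3, neg_mul, neg_neg, mul_assoc]
  · refine ⟨false, true, g * b⁻¹, mul_mem hg (inv_mem hb), by simp, ?_, ?_⟩
    · have e : b⁻¹ * a = -(a * b⁻¹) := by
        rw [inv_mul_eq_iff_eq_mul, mul_neg, ← mul_assoc, show b * a = -(a * b) by rw [hab, neg_neg], neg_mul,
          neg_neg, mul_inv_cancel_right]
      rw [mul_assoc, e, mul_neg, ← mul_assoc, h1, neg_mul, neg_neg, mul_assoc]
    · rw [inv_mul_cancel_right, ← mul_assoc, ← h3, mul_inv_cancel_right]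
  · refine ⟨true, true, g * b⁻¹ * a⁻¹, mul_mem (mul_mem hg (inv_mem hb)) (inv_mem ha), by simp, ?_, ?_⟩
    · have e : b⁻¹ * a = -(a * b⁻¹) := by
        rw [inv_mul_eq_iff_eq_mul, mul_neg, ← mul_assoc, show b * a = -(a * b) by rw [hab, neg_neg], neg_mul,
          neg_neg, mul_inv_cancel_right]
      have e2 : g * b⁻¹ * a = a * (g * b⁻¹) := by
        rw [mul_assoc, e, mul_neg, ← mul_assoc, h1, neg_mul, neg_neg, mul_assoc]
      rw [inv_mul_cancel_right, ← mul_assoc, ← e2, mul_inv_cancel_right]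
    · have e : a⁻¹ * b = -(b * a⁻¹) := by
        rw [inv_mul_eq_iff_eq_mul, mul_neg, ← mul_assoc, hab, neg_mul, neg_neg, mul_inv_cancel_right]
      rw [mul_assoc (g * b⁻¹), e, mul_neg, ← mul_assoc (g * b⁻¹) b, inv_mul_cancel_right, ← mul_assoc b,
        ← mul_assoc b g, show b * g = -(g * b) by rw [h3, neg_neg], neg_mul, neg_mul, mul_inv_cancel_right]

/-- An anticommuting pair of involutions commuting with given elements. -/
theorem SympData.exists_pair (T : List (GL n F)) (f : GL n F → GL n F)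
    (hmem : ∀ g ∈ R, f g ∈ R) (hcomm : ∀ g ∈ R, ∀ t ∈ T, f g * t = t * f g)
    (hcore : ∀ g ∈ R, (∀ t ∈ T, g * t = t * g) → ∀ d ∈ R, g * d = -(d * g) → g * f d = -(f d * g))
    (hex : ∃ g ∈ R, ¬ IsScal (f g)) :
    ∃ a ∈ R, ∃ b ∈ R, a * a = 1 ∧ b * b = 1 ∧ a * b = -(b * a) ∧ ∀ t ∈ T, a * t = t * a ∧ b * t = t * b := by
  obtain ⟨g, hg, hns⟩ := hex
  obtain ⟨d, hdR, hanti⟩ : ∃ d ∈ R, f g * d = -(d * f g) := by
    by_contra! hno
    exact hns (hd.schur _ fun h hh => congrArg Units.val
      ((hd.comm (f g) (hmem g hg) h hh).resolve_right (hno h hh)))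
  have hanti' := hcore _ (hmem g hg) (hcomm g hg) d hdR hanti
  obtain ⟨a, ha, ha2, ha'⟩ := hd.invol (hmem g hg)
  obtain ⟨b, hb, hb2, hb'⟩ := hd.invol (hmem d hdR)
  have hc : IsScal (iS n r : GL n F) := iS_scal r
  have key : ∀ x y : GL n F, x * y = -(y * x) → iS n r * x * y = -(y * (iS n r * x)) := fun x y h => by
    rw [mul_assoc, h, mul_neg, ← mul_assoc y, ← hc.comm y, mul_assoc]
  refine ⟨a, ha, b, hb, ha2, hb2, ?_, fun t ht => ⟨?_, ?_⟩⟩
  · rcases ha' with rfl | rfl <;> rcases hb' with rfl | rfl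
    · exact hanti'
    · have e := key (f d) (f g) (by rw [hanti', neg_neg])
      rw [e, neg_neg]
    · exact key _ _ hanti'
    · refine key _ _ ?_
      have e := key (f d) (f g) (by rw [hanti', neg_neg])
      rw [e, neg_neg]
  · rcases ha' with rfl | rfl
    · exact hcomm g hg t ht
    · rw [mul_assoc, hcomm g hg t ht, ← mul_assoc, hc.comm t, mul_assoc]
  · rcases hb' with rfl | rfl
    · exact hcomm d hdR t ht
    · rw [mul_assoc, hcomm d hdR t ht, ← mul_assoc, hc.comm t, mul_assoc]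

end General

end Cfsg.Agent.H97.CSix
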