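import Cfsg.Agent.H97.CSix.Act

/-!
In a centred overgroup no nonscalar standard element is moved into the normaliser by an outer element.
-/

set_option autoImplicit false
set_option linter.unusedSectionVars false

namespace Cfsg.Agent.H97.CSix

open Matrix Module

variable {F : Type*} [Field F] {ι : Type*} [AddCommGroup ι] [Qubits ι] [Module (ZMod 2) ι] [Fintype ι] [DecidableEq ι]
variable (r : Root F) {H : Subgroup (GL ι F)} (hH : r.gam ι ≤ H) (hC : Centred r H)
include hH hC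

theorem std_mem {p : GL ι F} (hp : p ∈ r.R ι) : p ∈ H := hH (r.R_le_gam hp)

/-- An element moving a nonscalar standard element to a standard one normalises. -/
theorem fus {g : GL ι F} (hg : g ∈ H) {v w : ι × ι} (hv : v ≠ 0) (h : Sim (g * cl v * g⁻¹) w) :
    g ∈ r.Y ι := by
  obtain ⟨pv, hpv, hpv2, hsv⟩ := r.exists_rep v
  obtain ⟨pw, hpw, hpw2, hsw⟩ := r.exists_rep w
  have hw0 : w ≠ 0 := by
    rintro rfl
    exact hv (((sim_cl v).scal_iff r.two).1 h.scal_of_zero.of_conj)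
  have hvs := rep_not_scal r.two hsv hv
  have hws := rep_not_scal r.two hsw hw0
  obtain ⟨s, hs, hs'⟩ : ∃ s, IsScal s ∧ g * pv * g⁻¹ = s * pw := by
    obtain ⟨s, hs, e⟩ := hsv
    obtain ⟨t, ht, e'⟩ := h
    obtain ⟨u, hu, e''⟩ := hsw
    refine ⟨s * t * u⁻¹, (hs.mul ht).mul hu.inv, ?_⟩
    rw [e, e'', show g * (s * cl v) * g⁻¹ = g * s * (cl v * g⁻¹) by group, ← hs.comm g,
      show s * g * (cl v * g⁻¹) = s * (g * cl v * g⁻¹) by group, e']
    group
  obtain ⟨n, hn, hnw⟩ := r.exists_conj hpw hpv hpw2 hpv2 hws hvs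
  have hconj : n * g * pv * (n * g)⁻¹ = pv ∨ n * g * pv * (n * g)⁻¹ = -pv := by
    have hsq : s * pw * (s * pw) = 1 := by
      rw [← hs', show g * pv * g⁻¹ * (g * pv * g⁻¹) = g * (pv * pv) * g⁻¹ by group, hpv2, mul_one, mul_inv_cancel]
    have hcomm : s * pw * pw = pw * (s * pw) := by rw [← mul_assoc, ← hs.comm pw]
    rcases IsScal.of_mul_invol hsq hpw2 (by rwa [mul_assoc, hpw2, mul_one]) hcomm with e | e <;>
      rw [show n * g * pv * (n * g)⁻¹ = n * (g * pv * g⁻¹) * n⁻¹ by group, hs', e]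
    · exact Or.inl hnw
    · exact Or.inr (by rw [mul_neg, neg_mul, hnw])
  have := hC pv hpv hvs (n * g) (mul_mem (hH hn) hg) (by
    rcases hconj with e | e
    · exact Or.inl (mul_inv_eq_iff_eq_mul.1 e)
    · exact Or.inr (by rw [mul_inv_eq_iff_eq_mul.1 e, neg_mul]))
  simpa using mul_mem (inv_mem (r.gam_le_Y hn)) this

omit hH hC in
/-- The labels moved into the normaliser. -/
def moved (g : GL ι F) : Submodule (ZMod 2) (ι × ι) :=
  AddSubgroup.toZModSubmodule 2
    { carrier := {v | g * cl v * g⁻¹ ∈ r.Y ι}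
      zero_mem' := by
        show g * cl 0 * g⁻¹ ∈ r.Y ι
        rw [cl_zero, mul_one, mul_inv_cancel]
        exact one_mem _
      add_mem' := by
        intro v w hv hw
        show g * cl (v + w) * g⁻¹ ∈ r.Y ι
        obtain ⟨s, hs, e⟩ := (sim_cl (F := F) v).mul (sim_cl w)
        rw [show cl (v + w) = s⁻¹ * (cl v * cl w) by rw [e]; group, show g * (s⁻¹ * (cl v * cl w)) * g⁻¹ =
          g * s⁻¹ * g⁻¹ * (g * cl v * g⁻¹ * (g * cl w * g⁻¹)) by group]
        exact mul_mem (r.scal_mem_Y (hs.inv.conj g)) (mul_mem hv hw)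
      neg_mem' := by
        intro v hv
        show g * cl (-v) * g⁻¹ ∈ r.Y ι
        rwa [show -v = v from Qubits.neg_eq v] }

omit hH hC in
theorem mem_moved {g : GL ι F} {v : ι × ι} : v ∈ moved r g ↔ g * cl v * g⁻¹ ∈ r.Y ι := Iff.rfl

variable {g : GL ι F}

/-- The kernel of the action of a moved element. -/
theorem ker_dev (hg : g ∈ H) (hgY : g ∉ r.Y ι) {v : ι × ι} (hv : g * cl v * g⁻¹ ∈ r.Y ι) (hv0 : v ≠ 0)
    (w : ι × ι) : r.dev hv w = 0 ↔ w ∈ moved r g⁻¹ := by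
  rw [r.dev_zero_iff, mem_moved, inv_inv]
  constructor
  · intro h
    refine hC (cl v) (cl_mem_R r v) (rep_not_scal r.two (sim_cl v) hv0) _
      (mul_mem (mul_mem (inv_mem hg) (std_mem r hH hC (cl_mem_R r w))) hg) ?_
    rcases (r.act_fix_iff hv (cl_mem_R r w) (sim_cl w)).1 h with e | e
    · left
      calc g⁻¹ * cl w * g * cl v = g⁻¹ * (cl w * (g * cl v * g⁻¹)) * g := by group
        _ = g⁻¹ * (g * cl v * g⁻¹ * cl w) * g := by rw [e]
        _ = cl v * (g⁻¹ * cl w * g) := by group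
    · right
      calc g⁻¹ * cl w * g * cl v = g⁻¹ * (cl w * (g * cl v * g⁻¹)) * g := by group
        _ = g⁻¹ * (-(g * cl v * g⁻¹ * cl w)) * g := by rw [e, neg_neg]
        _ = -(cl v * (g⁻¹ * cl w * g)) := by rw [mul_neg, neg_mul]; group
  · intro h
    have hx : cl v * ((g⁻¹ * cl w * g) * (cl v)⁻¹ * (g⁻¹ * cl w * g)⁻¹) ∈ r.R ι :=
      mul_mem (cl_mem_R r v) (r.conj_mem h (inv_mem (cl_mem_R r v)))
    obtain ⟨z, hz⟩ := r.exists_sim hx
    set x := cl v * ((g⁻¹ * cl w * g) * (cl v)⁻¹ * (g⁻¹ * cl w * g)⁻¹) with hx'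
    have hlab : Sim (g * x * g⁻¹) (act (g * cl v * g⁻¹) w + w) := by
      rw [show g * x * g⁻¹ = g * cl v * g⁻¹ * cl w * (g * cl v * g⁻¹)⁻¹ * (cl w)⁻¹ by rw [hx']; group]
      exact (r.act_spec hv w).mul (sim_cl w).inv
    have hz0 : z = 0 := by
      by_contra hz0
      obtain ⟨s, hs, e⟩ := hz
      refine hgY (fus r hH hC hg hz0 (w := act (g * cl v * g⁻¹) w + w) ?_)
      rw [show g * cl z * g⁻¹ = g * (s⁻¹ * x) * g⁻¹ by rw [e]; group, show g * (s⁻¹ * x) * g⁻¹ =
        g * s⁻¹ * g⁻¹ * (g * x * g⁻¹) by group]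
      exact hlab.scal_mul (hs.inv.conj g)
    have hsc : IsScal (g * x * g⁻¹) := ((hz0 ▸ hz).scal_of_zero).conj g
    have := (hlab.scal_iff r.two).1 hsc
    rwa [add_eq_zero_iff_eq_neg, show -w = w from Qubits.neg_eq w] at this

theorem moved_inv_ne_top (hg : g ∈ H) (hgY : g ∉ r.Y ι) {v : ι × ι} (hv : g * cl v * g⁻¹ ∈ r.Y ι)
    (hv0 : v ≠ 0) : moved r g⁻¹ ≠ ⊤ := by
  intro htop
  obtain ⟨w, hw⟩ := r.sim_of_dev hv fun x => (ker_dev r hH hC hg hgY hv hv0 x).2 (htop ▸ Submodule.mem_top)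
  exact hgY (fus r hH hC hg hv0 hw)

theorem dev_isNil_moved {v : ι × ι} (hv : g * cl v * g⁻¹ ∈ r.Y ι) : IsNil (r.dev hv) := by
  refine r.dev_isNil hv ?_
  rw [show g * cl v * g⁻¹ * (g * cl v * g⁻¹) = g * (cl v * cl v) * g⁻¹ by group]
  refine IsScal.conj ?_ g
  rw [cl_mul, lab_two, cl_zero, mul_one]
  exact IsScal.sU _

/-- A moved label forces three moved dimensions on the other side. -/
theorem dim_moved_inv (hg : g ∈ H) (hgY : g ∉ r.Y ι) {v : ι × ι} (hv : g * cl v * g⁻¹ ∈ r.Y ι) (hv0 : v ≠ 0) :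
    finrank (ZMod 2) ι ≤ finrank (ZMod 2) (moved r g⁻¹) ∧ LinearMap.ker (r.dev hv) = moved r g⁻¹ := by
  have e : LinearMap.ker (r.dev hv) = moved r g⁻¹ :=
    Submodule.ext fun w => ker_dev r hH hC hg hgY hv hv0 w
  exact ⟨e ▸ (dev_isNil_moved r hH hC hv).dim_ker, e⟩

open Classical in
omit hH hC in
/-- The sign of commutation. -/
noncomputable def chi (u p : GL ι F) : ZMod 2 := if u * p = p * u then 0 else 1

set_option maxHeartbeats 1000000 in
/-- No nonscalar standard element is moved into the normaliser. -/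
theorem no_fusion (h3 : finrank (ZMod 2) ι = 3) (hg : g ∈ H) (hgY : g ∉ r.Y ι) {v : ι × ι} (hv0 : v ≠ 0) :
    g * cl v * g⁻¹ ∉ r.Y ι := by
  intro hv
  set P := moved r g⁻¹ with hP
  set Q := moved r g with hQ
  obtain ⟨hPd, hkerv⟩ := dim_moved_inv r hH hC hg hgY hv hv0
  obtain ⟨w, hw, hw0⟩ : ∃ w ∈ P, w ≠ 0 := Submodule.exists_mem_ne_zero_of_ne_bot fun e => by
    rw [← hP, e, finrank_bot, h3] at hPd; omega
  have hgi : g⁻¹ ∉ r.Y ι := fun h => hgY (by simpa using inv_mem h)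
  have hQd : 3 ≤ finrank (ZMod 2) Q := by
    have := (dim_moved_inv r hH hC (g := g⁻¹) (inv_mem hg) hgi ((mem_moved r).1 hw) hw0).1
    rwa [inv_inv, h3] at this
  obtain ⟨w₀, hw₀⟩ : ∃ w₀, w₀ ∉ P := by
    by_contra! h
    exact moved_inv_ne_top r hH hC hg hgY hv hv0 (Submodule.eq_top_iff'.2 h)
  let φ : ∀ x : Q, (ι × ι) →ₗ[ZMod 2] (ι × ι) := fun x => r.dev ((mem_moved r).1 x.2)
  have hnil : ∀ x, IsNil (φ x) := fun x => dev_isNil_moved r hH hC _
  have hker : ∀ x : Q, x ≠ 0 → LinearMap.ker (φ x) = P := fun x hx =>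
    (dim_moved_inv r hH hC hg hgY ((mem_moved r).1 x.2) fun e => hx (Subtype.ext e)).2
  have hzero : ∀ w, φ 0 w = 0 := fun w => (r.dev_zero_iff _ w).2 (r.act_scal
    (by rw [Submodule.coe_zero, cl_zero, mul_one, mul_inv_cancel]; exact IsScal.one) w)
  have hrange : ∀ x w, φ x w ∈ sForm.orthogonal P := by
    intro x w
    by_cases hx : x = 0
    · subst hx; rw [hzero]; exact zero_mem _
    · rw [← hker x hx, ← (hnil x).range_eq]; exact ⟨w, rfl⟩
  have horth : sForm.orthogonal P ≤ P := by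
    have := (hnil ⟨v, hv⟩).range_le_ker
    rw [(hnil ⟨v, hv⟩).range_eq, hker _ fun e => hv0 (congrArg Subtype.val e)] at this
    exact this
  have hadd : ∀ (x y : Q) (w : ι × ι), φ (x + y) w = φ x w + φ y w := by
    intro x y w
    have hu : Sim (F := F) (cl (x : ι × ι) * cl (y : ι × ι)) ((x + y : Q) : ι × ι) := (sim_cl _).mul (sim_cl _)
    obtain ⟨s, hs, e⟩ := hu
    have h1 : ∀ z, φ x (φ y z) = 0 := fun z => by
      by_cases hx : x = 0
      · subst hx; rw [hzero]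
      · rw [← LinearMap.mem_ker, hker x hx]; exact horth (hrange y z)
    have hact : act (g * cl ((x + y : Q) : ι × ι) * g⁻¹) w =
        act (g * cl (x : ι × ι) * g⁻¹) (act (g * cl (y : ι × ι) * g⁻¹) w) := by
      have e2 : g * cl ((x + y : Q) : ι × ι) * g⁻¹ =
          g * s⁻¹ * g⁻¹ * (g * cl (x : ι × ι) * g⁻¹ * (g * cl (y : ι × ι) * g⁻¹)) := by
        rw [show cl ((x + y : Q) : ι × ι) = s⁻¹ * (cl (x : ι × ι) * cl (y : ι × ι)) by rw [e]; group]
        group
      rw [e2, r.act_mul (r.scal_mem_Y (hs.inv.conj g)) (mul_mem ((mem_moved r).1 x.2) ((mem_moved r).1 y.2)),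
        r.act_scal (hs.inv.conj g), r.act_mul ((mem_moved r).1 x.2) ((mem_moved r).1 y.2)]
    show r.dev _ w = _
    rw [r.dev_apply, hact, r.act_eq_dev ((mem_moved r).1 x.2), r.act_eq_dev ((mem_moved r).1 y.2), map_add,
      show r.dev ((mem_moved r).1 x.2) (r.dev ((mem_moved r).1 y.2) w) = 0 from h1 w, add_zero]
    show w + φ y w + φ x w + w = _
    rw [add_comm (w + φ y w + φ x w) w, add_assoc w (φ y w), ← add_assoc w w, lab_two, zero_add, add_comm]
  -- the dimensions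
  have hd : finrank (ZMod 2) P = 3 ∧ finrank (ZMod 2) (sForm.orthogonal P) = 3 := by
    let L : Q →ₗ[ZMod 2] sForm.orthogonal P := (AddMonoidHom.mk' (fun x : Q => (⟨φ x w₀, hrange x w₀⟩ :
      sForm.orthogonal P)) fun x y => Subtype.ext (hadd x y w₀)).toZModLinearMap 2
    have hinj : Function.Injective L := by
      rw [← LinearMap.ker_eq_bot, LinearMap.ker_eq_bot']
      intro x hx
      by_contra h0
      exact hw₀ (hker x h0 ▸ (LinearMap.mem_ker.2 (congrArg Subtype.val hx)))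
    have h1 := LinearMap.finrank_le_finrank_of_injective hinj
    have h2 := LinearMap.BilinForm.finrank_orthogonal (sForm_nondegenerate (ι := ι)) P
    rw [finrank_lab, h3] at h2
    rw [h3] at hPd
    rw [← hP] at hPd
    constructor <;> omega
  -- the signs
  have hspec : ∀ (x : Q) (p : P), g * cl (x : ι × ι) * g⁻¹ * cl (p : ι × ι) =
      sU (chi (g * cl (x : ι × ι) * g⁻¹) (cl (p : ι × ι))) * (cl (p : ι × ι) * (g * cl (x : ι × ι) * g⁻¹)) := by
    intro x p
    have hfix : act (g * cl (x : ι × ι) * g⁻¹) p = p := by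
      rw [← r.dev_zero_iff ((mem_moved r).1 x.2)]
      by_cases hx : x = 0
      · subst hx; exact hzero _
      · exact LinearMap.mem_ker.1 ((hker x hx).symm ▸ p.2)
    rcases (r.act_fix_iff ((mem_moved r).1 x.2) (v := (p : ι × ι)) (cl_mem_R r (p : ι × ι)) (sim_cl (F := F) (p : ι × ι))).1 hfix with e | e
    · rw [chi, if_pos e, sU_zero, one_mul]; exact e
    · rw [chi, if_neg, sU_one, neg_one_mul]
      · exact e
      · intro e'
        have h4 := e.symm.trans e'
        refine (cl (p : ι × ι) * (g * cl (x : ι × ι) * g⁻¹) : GL ι F).ne_zero ?_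
        ext a b
        have := congrArg (fun M : GL ι F => (M : Matrix ι ι F) a b) h4
        simp only [Units.val_neg, Matrix.neg_apply] at this
        exact (mul_eq_zero.1 (show (2 : F) * _ = 0 by linear_combination -this)).resolve_left r.two
  let χ : Q → P → ZMod 2 := fun x p => chi (g * cl (x : ι × ι) * g⁻¹) (cl (p : ι × ι))
  have hχ2 : ∀ x p q, χ x (p + q) = χ x p + χ x q := by
    intro x p q
    obtain ⟨s, hs, e⟩ := (sim_cl (F := F) (p : ι × ι)).mul (sim_cl (q : ι × ι))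
    have h := sgn_comm_scal_right hs.inv (sgn_comm_mul_right (hspec x p) (hspec x q))
    rw [show s⁻¹ * (cl (p : ι × ι) * cl (q : ι × ι)) = cl ((p + q : P) : ι × ι) by
      rw [e, Submodule.coe_add, inv_mul_cancel_left]] at h
    exact sgn_comm_unique r.two (hspec x (p + q)) h
  have hχ1 : ∀ x y p, χ (x + y) p = χ x p + χ y p := by
    intro x y p
    obtain ⟨s, hs, e⟩ := (sim_cl (F := F) (x : ι × ι)).mul (sim_cl (y : ι × ι))
    have h := sgn_comm_scal_left (hs.inv.conj g) (sgn_comm_mul_left (hspec x p) (hspec y p))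
    rw [show g * s⁻¹ * g⁻¹ * (g * cl (x : ι × ι) * g⁻¹ * (g * cl (y : ι × ι) * g⁻¹)) =
      g * (s⁻¹ * (cl (x : ι × ι) * cl (y : ι × ι))) * g⁻¹ by group,
      show s⁻¹ * (cl (x : ι × ι) * cl (y : ι × ι)) = cl ((x + y : Q) : ι × ι) by
        rw [e, Submodule.coe_add, inv_mul_cancel_left]] at h
    exact sgn_comm_unique r.two (hspec (x + y) p) h
  -- the diagonal vectors
  have hdiag : ∀ x : Q, ∃ D : P, (∀ w, sB (D : ι × ι) w = sB w (φ x w)) ∧ (x ≠ 0 → χ x D = 1) := by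
    intro x
    by_cases hx : x = 0
    · subst hx
      exact ⟨0, fun w => by rw [Submodule.coe_zero, sB_zero_left, hzero, sB_zero_right], fun h => absurd rfl h⟩
    obtain ⟨D, z, hz, hD, hone⟩ := (hnil x).exists_diag h3 (by rw [hker x hx]; exact hd.1)
    have hDP : D ∈ P := by rw [← hker x hx, ← hz, LinearMap.mem_ker]; exact (hnil x).sq z
    refine ⟨⟨D, hDP⟩, hD, fun _ => ?_⟩
    -- the sign equals the value of the form
    rw [← hone]
    set u := g * cl (x : ι × ι) * g⁻¹ with hu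
    have huY : u ∈ r.Y ι := (mem_moved r).1 x.2
    refine sU_inj (F := F) (ι := ι) r.two ?_
    have hu2 : IsScal (u * u) := by
      rw [hu, show g * cl (x : ι × ι) * g⁻¹ * (g * cl (x : ι × ι) * g⁻¹) =
        g * (cl (x : ι × ι) * cl (x : ι × ι)) * g⁻¹ by group]
      refine IsScal.conj ?_ g
      rw [cl_mul, lab_two, cl_zero, mul_one]; exact IsScal.sU _
    set Pz := (cl z : GL ι F)
    set Dc := (cl D : GL ι F)
    obtain ⟨K, hK, hKe⟩ : ∃ K, IsScal K ∧ u * Pz * u⁻¹ = K * (Pz * Dc) := by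
      have h1 := ((r.act_spec huY z).mul ((sim_cl (F := F) z).mul (sim_cl D)).inv)
      rw [show act u z = z + φ x z from r.act_eq_dev huY z, hz, lab_two] at h1
      exact ⟨u * Pz * u⁻¹ * (Pz * Dc)⁻¹, h1.scal_of_zero, (inv_mul_cancel_right _ _).symm⟩
    have hχD : u * Dc * u⁻¹ = sU (χ x ⟨D, hDP⟩) * Dc := by
      rw [mul_inv_eq_iff_eq_mul, mul_assoc (sU _) Dc u]
      exact hspec x ⟨D, hDP⟩
    have hPz2 : Pz * Pz = sU (dot z.2 z.1) := by rw [cl_mul, lab_two, cl_zero, mul_one]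
    have hsq : u * u * Pz * (u * u)⁻¹ = Pz := by rw [hu2.comm, mul_inv_cancel_right]
    rw [show u * u * Pz * (u * u)⁻¹ = u * (u * Pz * u⁻¹) * u⁻¹ by group, hKe,
      show u * (K * (Pz * Dc)) * u⁻¹ = u * K * (Pz * Dc * u⁻¹) by group, ← hK.comm u,
      show K * u * (Pz * Dc * u⁻¹) = K * ((u * Pz * u⁻¹) * (u * Dc * u⁻¹)) by group, hKe, hχD] at hsq
    have hsquare : (K * (Pz * Dc)) * (K * (Pz * Dc)) = Pz * Pz := by
      rw [← hKe, show u * Pz * u⁻¹ * (u * Pz * u⁻¹) = u * (Pz * Pz) * u⁻¹ by group, hPz2, ← sU_comm,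
        mul_inv_cancel_right]
    have hc : Pz * Dc = sU (sB z (φ x z)) * (Dc * Pz) := by
      rw [hz]; exact cl_comm z D
    have e1 : K * K * (sU (χ x ⟨D, hDP⟩) * (Pz * (Dc * Dc))) = Pz := by
      conv_rhs => rw [← hsq]
      rw [show K * (K * (Pz * Dc) * (sU (χ x ⟨D, hDP⟩) * Dc)) = K * K * (Pz * Dc * sU (χ x ⟨D, hDP⟩) * Dc) by
        group, ← sU_comm]
      group
    have e2 : K * K * (sU (sB z (φ x z)) * (Pz * (Dc * Dc))) = Pz := by
      have h5 : K * K * (Pz * Dc * (Pz * Dc)) = Pz * Pz := by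
        rw [← hsquare, show K * (Pz * Dc) * (K * (Pz * Dc)) = K * ((Pz * Dc) * K) * (Pz * Dc) by group,
          ← hK.comm (Pz * Dc)]
        group
      have h6 : Pz * Dc * (Pz * Dc) = sU (sB z (φ x z)) * (Pz * (Dc * Dc)) * Pz := by
        rw [show sU (sB z (φ x z)) * (Pz * (Dc * Dc)) * Pz = sU (sB z (φ x z)) * Pz * (Dc * (Dc * Pz)) by group,
          sU_comm (sB z (φ x z)) Pz]
        conv_lhs => rw [show Pz * Dc * (Pz * Dc) = Pz * (Dc * (Pz * Dc)) by group, hc, ← mul_assoc Dc, ← sU_comm]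
        group
      rw [h6, ← mul_assoc] at h5
      exact mul_right_cancel h5
    exact mul_right_cancel (mul_left_cancel (e1.trans e2.symm))
  choose D hDB hD1 using hdiag
  have hDadd : ∀ x y, D (x + y) = D x + D y := fun x y => Subtype.ext (sB_ext fun w => by
    rw [Submodule.coe_add, sB_add_left, hDB, hDB, hDB, hadd, sB_add_right])
  let f : Q → ZMod 2 := fun x => χ x (D x)
  let β : Q → Q → ZMod 2 := fun x y => χ x (D y) + χ y (D x)
  have hf : ∀ x y, f (x + y) = f x + f y + β x y := fun x y => by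
    simp only [f, β, hDadd, hχ1, hχ2]; ring
  have hβ : ∀ x y z, β x (y + z) = β x y + β x z := fun x y z => by
    simp only [β, hDadd, hχ1, hχ2]; ring
  have hone : ∀ x, x ≠ 0 → f x = 1 := fun x hx => hD1 x hx
  obtain ⟨e, he⟩ : ∃ e : Fin 3 → Q, LinearIndependent (ZMod 2) e := by
    let b := Module.finBasis (ZMod 2) Q
    exact ⟨fun i => b ⟨i.1, by omega⟩, b.linearIndependent.comp _ fun i j h => Fin.ext (congrArg Fin.val h :)⟩
  have hne : ∀ p q s : ZMod 2, ¬ (p = 0 ∧ q = 0 ∧ s = 0) → p • e 0 + q • e 1 + s • e 2 ≠ 0 := fun p q s h h0 =>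
    h (by
      have := Fintype.linearIndependent_iff.1 he ![p, q, s] (by rw [Fin.sum_univ_three]; exact h0)
      exact ⟨this 0, this 1, this 2⟩)
  have n0 : e 0 ≠ 0 := by simpa using hne 1 0 0 (by simp)
  have n1 : e 1 ≠ 0 := by simpa using hne 0 1 0 (by simp)
  have n2 : e 2 ≠ 0 := by simpa using hne 0 0 1 (by simp)
  have n01 : e 0 + e 1 ≠ 0 := by simpa using hne 1 1 0 (by simp)
  have n02 : e 0 + e 2 ≠ 0 := by simpa using hne 1 0 1 (by simp)
  have n12 : e 1 + e 2 ≠ 0 := by simpa using hne 0 1 1 (by simp)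
  have n012 : e 0 + (e 1 + e 2) ≠ 0 := by simpa [add_assoc] using hne 1 1 1 (by simp)
  have h11 : (1 : ZMod 2) + 1 = 0 := by decide
  have b1 := hf (e 0) (e 1)
  have b2 := hf (e 0) (e 2)
  have b3 := hf (e 0) (e 1 + e 2)
  rw [hone _ n01, hone _ n0, hone _ n1, h11, zero_add] at b1
  rw [hone _ n02, hone _ n0, hone _ n2, h11, zero_add] at b2
  rw [hone _ n012, hone _ n0, hone _ n12, h11, zero_add, hβ, ← b1, ← b2, h11] at b3
  exact one_ne_zero b3

end Cfsg.Agent.H97.CSix
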