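import Cfsg.Agent.H97.CSix.Pauli

/-!
The group generated by the standard group and the transvection lifts, and its transitivity.
-/

set_option autoImplicit false

namespace Cfsg.Agent.H97.CSix

open Matrix

variable {F : Type*} [Field F] {ι : Type*} [AddCommGroup ι] [Qubits ι] [Fintype ι] [DecidableEq ι]

/-- The constants: a field with a square root of minus one, of characteristic other than two. -/
structure Root (F : Type*) [Field F] where
  i : F
  sq : i * i = -1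
  two : (2 : F) ≠ 0

variable (r : Root F)

variable (ι) in
/-- The standard group. -/
abbrev Root.R : Subgroup (GL ι F) := std ι r.i r.sq

variable (ι) in
/-- Its normaliser. -/
abbrev Root.Y : Subgroup (GL ι F) := Subgroup.normalizer ((r.R ι : Subgroup (GL ι F)) : Set (GL ι F))

/-- The transvection lift. -/
abbrev Root.T (p : GL ι F) (hp : p * p = 1) : GL ι F := halfU r.two r.sq p hp

variable (ι) in
/-- The group generated by the standard group and the transvection lifts. -/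
def Root.gam : Subgroup (GL ι F) :=
  Subgroup.closure ((r.R ι : Set (GL ι F)) ∪ {g | ∃ (p : GL ι F) (hp : p * p = 1), p ∈ r.R ι ∧ g = r.T p hp})

theorem Root.R_le_gam : r.R ι ≤ r.gam ι := fun _ hg => Subgroup.subset_closure (Or.inl hg)

theorem Root.T_mem_gam {p : GL ι F} (hp : p * p = 1) (hpR : p ∈ r.R ι) : r.T p hp ∈ r.gam ι :=
  Subgroup.subset_closure (Or.inr ⟨p, hp, hpR, rfl⟩)

theorem Root.T_anti {p q : GL ι F} (hp : p * p = 1) (h : p * q = -(q * p)) :
    r.T p hp * q * (r.T p hp)⁻¹ = -(iu r.i r.sq : GL ι F) * (p * q) := by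
  refine Units.ext ?_
  rw [Root.T, halfU_anti r.two r.sq hp h, Units.val_mul, Units.val_neg, iu_val, Units.val_mul, neg_smul, neg_mul,
    smul_mul_assoc, one_mul]

theorem Root.T_comm {p q : GL ι F} (hp : p * p = 1) (h : p * q = q * p) :
    r.T p hp * q * (r.T p hp)⁻¹ = q := by
  rw [Root.T, halfU_comm r.two r.sq hp h, mul_inv_cancel_right]

/-- Mapping the standard group into itself suffices for normalising it. -/
theorem Root.mem_Y {g : GL ι F} (h : ∀ p ∈ r.R ι, g * p * g⁻¹ ∈ r.R ι) : g ∈ r.Y ι := by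
  have := std_finite (ι := ι) r.i r.sq
  refine Subgroup.mem_normalizer_iff.2 fun p => ⟨h p, fun hp => ?_⟩
  let f : r.R ι → r.R ι := fun q => ⟨g * q * g⁻¹, h q q.2⟩
  have hf : Function.Injective f := fun a b e => by
    have := congrArg Subtype.val e
    exact Subtype.ext (mul_left_cancel (mul_right_cancel (this : g * _ * g⁻¹ = g * _ * g⁻¹)))
  obtain ⟨q, hq⟩ := Finite.injective_iff_surjective.1 hf ⟨_, hp⟩
  have := congrArg Subtype.val hq
  rw [← mul_left_cancel (mul_right_cancel (this : g * _ * g⁻¹ = g * _ * g⁻¹))]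
  exact q.2

theorem Root.conj_mem {g p : GL ι F} (hg : g ∈ r.Y ι) (hp : p ∈ r.R ι) : g * p * g⁻¹ ∈ r.R ι :=
  (Subgroup.mem_normalizer_iff.1 hg p).1 hp

theorem Root.R_le_Y : r.R ι ≤ r.Y ι := Subgroup.le_normalizer

theorem Root.T_mem_Y {p : GL ι F} (hp : p * p = 1) (hpR : p ∈ r.R ι) : r.T p hp ∈ r.Y ι := by
  refine r.mem_Y fun q hq => ?_
  rcases comm_or_anti r.i r.sq hpR hq with h | h
  · rw [r.T_comm hp h]; exact hq
  · rw [r.T_anti hp h]
    exact mul_mem (neg_mem_std _ _ (iu_mem _ _)) (mul_mem hpR hq)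

theorem Root.gam_le_Y : r.gam ι ≤ r.Y ι := by
  refine (Subgroup.closure_le _).2 ?_
  rintro g (hg | ⟨p, hp, hpR, rfl⟩)
  exacts [r.R_le_Y hg, r.T_mem_Y hp hpR]

theorem Root.scal_mem_Y {g : GL ι F} (hg : IsScal g) : g ∈ r.Y ι :=
  r.mem_Y fun p hp => by rwa [hg.comm p, mul_inv_cancel_right]

/-- One step between anticommuting involutions. -/
theorem Root.step {v w : GL ι F} (hvR : v ∈ r.R ι) (hwR : w ∈ r.R ι) (hv : v * v = 1) (hw : w * w = 1)
    (h : v * w = -(w * v)) :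
    ∃ (s : GL ι F) (hs : s * s = 1), s ∈ r.R ι ∧ r.T s hs * v * (r.T s hs)⁻¹ = w ∧
      (∀ u, u * v = v * u → u * w = w * u → r.T s hs * u * (r.T s hs)⁻¹ = u) ∧
      ∀ u, u * v = -(v * u) → u * w = -(w * u) → r.T s hs * u * (r.T s hs)⁻¹ = u := by
  set s := iu r.i r.sq * (w * v) with hsd
  have hc : IsScal (iu r.i r.sq : GL ι F) := ⟨r.i, iu_val _ _⟩
  have hii : (iu r.i r.sq : GL ι F) * iu r.i r.sq = -1 :=
    Units.ext (by simp [iu_val, smul_smul, r.sq])
  have hwv : w * v * (w * v) = -1 := by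
    have : v * (w * v) = -w := by rw [← mul_assoc, h, neg_mul, mul_assoc, hv, mul_one]
    rw [mul_assoc, this, mul_neg, hw]
  have hs : s * s = 1 := by
    rw [hsd, mul_assoc, ← mul_assoc (w * v), ← hc.comm (w * v), mul_assoc, hwv, ← mul_assoc, hii, neg_one_mul,
      neg_neg]
  have hwv' : w * v = -(v * w) := by rw [h, neg_neg]
  have hsv : s * v = -(v * s) := by
    rw [hsd, ← mul_assoc v, ← hc.comm v, mul_assoc (iu r.i r.sq) v, ← mul_assoc v, h, neg_mul, mul_neg, neg_neg,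
      mul_assoc _ (w * v) v]
  have comm_prod : ∀ u, u * (w * v) = w * v * u → r.T s hs * u * (r.T s hs)⁻¹ = u := fun u hu =>
    r.T_comm hs (by rw [hsd, mul_assoc, ← hu, ← mul_assoc (iu r.i r.sq), hc.comm u, mul_assoc])
  refine ⟨s, hs, mul_mem (iu_mem _ _) (mul_mem hwR hvR), ?_, fun u h1 h2 => comm_prod u ?_,
    fun u h1 h2 => comm_prod u ?_⟩
  · rw [r.T_anti hs hsv, hsd, mul_assoc (iu r.i r.sq), mul_assoc w v v, hv, mul_one, neg_mul, ← mul_assoc, hii,
      neg_one_mul, neg_neg]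
  · rw [← mul_assoc, h2, mul_assoc, h1, ← mul_assoc]
  · rw [← mul_assoc, h2, neg_mul, mul_assoc w u v, h1, mul_neg, neg_neg, ← mul_assoc]

/-- The nonscalar involutions of the standard group are conjugate. -/
theorem Root.exists_conj {v w : GL ι F} (hvR : v ∈ r.R ι) (hwR : w ∈ r.R ι) (hv : v * v = 1) (hw : w * w = 1)
    (hvs : ¬ IsScal v) (hws : ¬ IsScal w) : ∃ n ∈ r.gam ι, n * v * n⁻¹ = w := by
  obtain ⟨u, huR, hu, hvu, hwu⟩ := exists_anti_both r.i r.sq r.two hvR hwR hvs hws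
  obtain ⟨s, hs, hsR, h1, -, -⟩ := r.step hvR huR hv hu hvu
  obtain ⟨s', hs', hsR', h2, -, -⟩ := r.step huR hwR hu hw (by rw [hwu, neg_neg])
  refine ⟨r.T s' hs' * r.T s hs, mul_mem (r.T_mem_gam hs' hsR') (r.T_mem_gam hs hsR), ?_⟩
  rw [← h2, ← h1]
  group

omit [AddCommGroup ι] [Qubits ι] in
theorem not_scal_of_anti (h2 : (2 : F) ≠ 0) [Nonempty ι] {p q : GL ι F} (h : p * q = -(q * p)) : ¬ IsScal p := by
  intro hp
  obtain ⟨x⟩ := ‹Nonempty ι›
  have e : (q * p : GL ι F) = -(q * p) := by rw [← h, hp.comm]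
  refine (q * p).ne_zero ?_
  ext a b
  have e' := congrArg (fun g : GL ι F => (g : Matrix ι ι F) a b) e
  simp only [Units.val_neg, Matrix.neg_apply] at e'
  exact (mul_eq_zero.1 (show (2 : F) * _ = 0 by linear_combination e')).resolve_left h2

/-- Anticommuting pairs of involutions are conjugate. -/
theorem Root.exists_conj_pair [Nonempty ι] {v w v' w' : GL ι F} (hvR : v ∈ r.R ι) (hwR : w ∈ r.R ι)
    (hvR' : v' ∈ r.R ι) (hwR' : w' ∈ r.R ι) (hv : v * v = 1) (hw : w * w = 1) (hv' : v' * v' = 1)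
    (hw' : w' * w' = 1) (h : v * w = -(w * v)) (h' : v' * w' = -(w' * v')) :
    ∃ n ∈ r.gam ι, n * v * n⁻¹ = v' ∧ n * w * n⁻¹ = w' := by
  obtain ⟨n, hn, hnv⟩ := r.exists_conj hvR hvR' hv hv' (not_scal_of_anti r.two h) (not_scal_of_anti r.two h')
  set q := n * w * n⁻¹ with hqd
  have hqR : q ∈ r.R ι := r.conj_mem (r.gam_le_Y hn) hwR
  have hq : q * q = 1 := by
    rw [hqd, show n * w * n⁻¹ * (n * w * n⁻¹) = n * (w * w) * n⁻¹ by group, hw, mul_one, mul_inv_cancel]
  have hvq : v' * q = -(q * v') := by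
    rw [← hnv, hqd, show n * v * n⁻¹ * (n * w * n⁻¹) = n * (v * w) * n⁻¹ by group,
      show n * w * n⁻¹ * (n * v * n⁻¹) = n * (w * v) * n⁻¹ by group, h, mul_neg, neg_mul]
  rcases comm_or_anti r.i r.sq hqR hwR' with hqw | hqw
  swap
  · obtain ⟨s, hs, hsR, h1, -, h3⟩ := r.step hqR hwR' hq hw' hqw
    refine ⟨r.T s hs * n, mul_mem (r.T_mem_gam hs hsR) hn, ?_, ?_⟩
    · conv_rhs => rw [← h3 v' hvq h', ← hnv]
      group
    · rw [← h1, hqd]; group
  · obtain ⟨u₀, hu₀R, -, hqu₀, hwu₀⟩ := exists_anti_both r.i r.sq r.two hqR hwR'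
      (not_scal_of_anti r.two (p := q) (q := v') (by rw [hvq, neg_neg]))
      (not_scal_of_anti r.two (p := w') (q := v') (by rw [h', neg_neg]))
    obtain ⟨x, hxR, hqx, hwx, hvx⟩ : ∃ x ∈ r.R ι, q * x = -(x * q) ∧ w' * x = -(x * w') ∧ v' * x = -(x * v') := by
      rcases comm_or_anti r.i r.sq hvR' hu₀R with hvu | hvu
      · refine ⟨u₀ * q, mul_mem hu₀R hqR, ?_, ?_, ?_⟩
        · rw [← mul_assoc, hqu₀, neg_mul]
        · rw [← mul_assoc, hwu₀, neg_mul, mul_assoc u₀ w' q, ← hqw, ← mul_assoc]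
        · rw [← mul_assoc, hvu, mul_assoc u₀ v' q, hvq, mul_neg, ← mul_assoc]
      · exact ⟨u₀, hu₀R, hqu₀, hwu₀, hvu⟩
    obtain ⟨u, huR, hu, hu'⟩ := exists_invol r.i r.sq hxR
    have hc : IsScal (iu r.i r.sq : GL ι F) := ⟨r.i, iu_val _ _⟩
    have key : ∀ a : GL ι F, a * x = -(x * a) → a * u = -(u * a) := by
      intro a ha
      rcases hu' with rfl | rfl
      · exact ha
      · rw [← mul_assoc, ← hc.comm a, mul_assoc, ha, mul_neg, mul_assoc]
    obtain ⟨s, hs, hsR, h1, -, h1a⟩ := r.step hqR huR hq hu (key q hqx)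
    obtain ⟨t, ht, htR, h2, -, h2a⟩ := r.step huR hwR' hu hw' (by rw [key w' hwx, neg_neg])
    refine ⟨r.T t ht * (r.T s hs * n), mul_mem (r.T_mem_gam ht htR) (mul_mem (r.T_mem_gam hs hsR) hn), ?_, ?_⟩
    · conv_rhs => rw [← h2a v' (key v' hvx) h', ← h1a v' hvq (key v' hvx), ← hnv]
      group
    · rw [← h2, ← h1, hqd]; group

end Cfsg.Agent.H97.CSix
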