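import Mathlib

/-!
A self-normalising abelian Sylow subgroup with three fixed-point-free automorphisms, and fixed cosets of a four
group of automorphisms.
-/

set_option autoImplicit false

namespace Cfsg.Agent.H97.CSix

open scoped Pointwise

variable {G : Type*} [Group G] [Finite G]

/-- Burnside transfer with a four group of automorphisms having only fixed points in `P`. -/
theorem top_of_fixed (P : Subgroup G) (hP : IsPGroup 2 P) (hc : ∀ x ∈ P, ∀ y ∈ P, x * y = y * x)
    (hN : ∀ g : G, (∀ x ∈ P, g * x * g⁻¹ ∈ P) → g ∈ P) (φ ψ : G →* G) (hφ : ∀ g, φ (φ g) = g)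
    (hψ : ∀ g, ψ (ψ g) = g) (f₁ : ∀ g, φ g = g → g ∈ P) (f₂ : ∀ g, ψ g = g → g ∈ P)
    (f₃ : ∀ g, φ (ψ g) = g → g ∈ P) : P = ⊤ := by
  classical
  haveI : Fact (Nat.Prime 2) := ⟨Nat.prime_two⟩
  obtain ⟨S, hS⟩ := hP.exists_le_sylow
  have hPS : P = (S : Subgroup G) := by
    by_contra hne
    have hnil : Group.IsNilpotent (S : Subgroup G) := S.2.isNilpotent
    have hlt : P.subgroupOf (S : Subgroup G) < ⊤ := by
      refine lt_top_iff_ne_top.2 fun h => hne (le_antisymm hS ?_)
      intro x hx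
      have hmem : (⟨x, hx⟩ : (S : Subgroup G)) ∈ P.subgroupOf (S : Subgroup G) := h ▸ Subgroup.mem_top _
      exact hmem
    obtain ⟨g, hg, hgP⟩ := SetLike.exists_of_lt (normalizerCondition_of_isNilpotent (G := (S : Subgroup G)) _ hlt)
    refine hgP (hN g fun x hx => ?_)
    exact ((Subgroup.mem_normalizer_iff.1 hg) ⟨x, hS hx⟩).1 hx
  have hNC : Subgroup.normalizer ((S : Subgroup G) : Set G) ≤ Subgroup.centralizer ((S : Subgroup G) : Set G) := by
    intro g hg
    have hgP : g ∈ P := hN g fun x hx => by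
      rw [hPS] at hx ⊢
      exact ((Subgroup.mem_normalizer_iff.1 hg) x).1 hx
    rw [Subgroup.mem_centralizer_iff]
    intro x hx
    exact hc x (hPS ▸ hx) g hgP
  set O := (MonoidHom.transferSylow S hNC).ker with hO
  have hcompl : O.IsComplement' (S : Subgroup G) := MonoidHom.ker_transferSylow_isComplement' S hNC
  have hodd : Odd (Nat.card O) := by
    rw [← hcompl.index_eq_card]
    exact Nat.odd_iff.2 (Nat.two_dvd_ne_zero.1 S.not_dvd_index)
  have hmem : ∀ g : G, g ∈ O ↔ Odd (orderOf g) := by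
    intro g
    constructor
    · intro hg
      exact Odd.of_dvd_nat hodd (orderOf_submonoid (⟨g, hg⟩ : O) ▸ orderOf_dvd_natCard _)
    · intro hg
      rw [hO, MonoidHom.mem_ker]
      obtain ⟨k, hk⟩ := S.2 (MonoidHom.transferSylow S hNC g)
      have h1 := orderOf_map_dvd (MonoidHom.transferSylow S hNC) g
      have h2 := orderOf_dvd_of_pow_eq_one hk
      rw [← orderOf_eq_one_iff]
      exact Nat.eq_one_of_dvd_coprimes ((Nat.coprime_two_left.2 hg).pow_left k) h2 h1
  have free : ∀ g ∈ O, g ∈ P → g = 1 := by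
    intro g hg hgP
    obtain ⟨k, hk⟩ := hP ⟨g, hgP⟩
    have h2 : orderOf g ∣ 2 ^ k := orderOf_dvd_of_pow_eq_one (by simpa using congrArg Subtype.val hk)
    rw [← orderOf_eq_one_iff]
    exact Nat.eq_one_of_dvd_coprimes ((Nat.coprime_two_left.2 ((hmem g).1 hg)).pow_left k) h2 dvd_rfl
  have inv_of : ∀ χ : G →* G, (∀ g, χ (χ g) = g) → (∀ g, χ g = g → g ∈ P) → ∀ g ∈ O, χ g = g⁻¹ := by
    intro χ hχ hfix g hg
    have hres : ∀ x : O, χ x ∈ O := fun x => by
      rw [hmem, orderOf_injective χ (Function.LeftInverse.injective hχ)]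
      exact (hmem _).1 x.2
    let χ' : O →* O := (χ.comp O.subtype).codRestrict O hres
    have hff : MonoidHom.FixedPointFree χ' := fun x hx => by
      have e : χ x = x := congrArg Subtype.val hx
      exact Subtype.ext (free _ x.2 (hfix _ e))
    have h2 : (χ' : O → O)^[2] = _root_.id := funext fun x => Subtype.ext (hχ x)
    have := congrFun (hff.coe_eq_inv_of_sq_eq_one h2) ⟨g, hg⟩
    exact congrArg Subtype.val this
  have hO1 : O = ⊥ := by
    rw [Subgroup.eq_bot_iff_forall]
    intro g hg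
    refine free g hg (f₃ g ?_)
    rw [inv_of ψ hψ f₂ g hg, inv_of φ hφ f₁ g⁻¹ (inv_mem hg), inv_inv]
  rw [hPS]
  exact Subgroup.isComplement'_bot_left.1 (hO1 ▸ hcompl)

/-- A four group of automorphisms fixes a nontrivial element of some Sylow two-subgroup. -/
theorem exists_fixed (φ ψ : MulAut G) (hφ : φ * φ = 1) (hψ : ψ * ψ = 1) (hφψ : φ * ψ = ψ * φ)
    {t : G} (ht : t * t = 1) (ht1 : t ≠ 1) : ∃ l : G, l ≠ 1 ∧ φ l = l ∧ ψ l = l := by
  classical
  haveI : Fact (Nat.Prime 2) := ⟨Nat.prime_two⟩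
  set A : Subgroup (MulAut G) := Subgroup.closure {φ, ψ} with hA
  have hφA : φ ∈ A := Subgroup.subset_closure (by simp)
  have hψA : ψ ∈ A := Subgroup.subset_closure (by simp)
  have hAA : ∀ a ∈ A, a * a = 1 ∧ a * φ = φ * a ∧ a * ψ = ψ * a := by
    intro a ha
    induction ha using Subgroup.closure_induction_left with
    | one => simp
    | mul_left x hx y _ ih =>
      obtain ⟨h1, h2, h3⟩ := ih
      rcases hx with rfl | rfl
      · refine ⟨?_, ?_, ?_⟩
        · rw [mul_assoc, ← mul_assoc y, h2, mul_assoc, h1, mul_one, hφ]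
        · rw [mul_assoc, h2]
        · rw [mul_assoc, h3, ← mul_assoc, ← mul_assoc, hφψ]
      · refine ⟨?_, ?_, ?_⟩
        · rw [mul_assoc, ← mul_assoc y, h3, mul_assoc, h1, mul_one, hψ]
        · rw [mul_assoc, h2, ← mul_assoc, ← mul_assoc, hφψ]
        · rw [mul_assoc, h3]
    | inv_mul_cancel x hx y _ ih =>
      have hxi : x⁻¹ = x := by
        rcases hx with rfl | rfl
        exacts [inv_eq_of_mul_eq_one_right hφ, inv_eq_of_mul_eq_one_right hψ]
      rw [hxi]
      obtain ⟨h1, h2, h3⟩ := ih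
      rcases hx with rfl | rfl
      · refine ⟨?_, ?_, ?_⟩
        · rw [mul_assoc, ← mul_assoc y, h2, mul_assoc, h1, mul_one, hφ]
        · rw [mul_assoc, h2]
        · rw [mul_assoc, h3, ← mul_assoc, ← mul_assoc, hφψ]
      · refine ⟨?_, ?_, ?_⟩
        · rw [mul_assoc, ← mul_assoc y, h3, mul_assoc, h1, mul_one, hψ]
        · rw [mul_assoc, h2, ← mul_assoc, ← mul_assoc, hφψ]
        · rw [mul_assoc, h3]
  have hA2 : IsPGroup 2 A := fun a => ⟨1, Subtype.ext (by simpa [pow_two] using (hAA a a.2).1)⟩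
  have hfin : Finite (Sylow 2 G) := inferInstance
  have hnd : ¬ 2 ∣ Nat.card (Sylow 2 G) := by
    have := card_sylow_modEq_one (p := 2) (G := G)
    intro hd
    rw [Nat.ModEq] at this
    omega
  obtain ⟨P, hP⟩ := hA2.nonempty_fixed_point_of_prime_not_dvd_card (Sylow 2 G) hnd
  have hinv : ∀ a : A, ∀ x ∈ (P : Subgroup G), (a : MulAut G) x ∈ (P : Subgroup G) := by
    intro a x hx
    have h : ((a • P : Sylow 2 G) : Subgroup G) = (P : Subgroup G) := congrArg _ (hP a)
    rw [← h]
    exact Subgroup.smul_mem_pointwise_smul x (a : MulAut G) _ hx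
  let act : MulAction A (P : Subgroup G) :=
    { smul := fun a x => ⟨(a : MulAut G) x, hinv a x x.2⟩
      one_smul := fun x => Subtype.ext rfl
      mul_smul := fun a b x => Subtype.ext rfl }
  have hPne : 2 ∣ Nat.card (P : Subgroup G) := by
    have h2 : 2 ∣ Nat.card G := by
      rw [← orderOf_eq_prime (show t ^ 2 = 1 by rw [pow_two, ht]) ht1]
      exact orderOf_dvd_natCard t
    exact P.dvd_card_of_dvd_card h2
  have h1 : (1 : (P : Subgroup G)) ∈ MulAction.fixedPoints A (P : Subgroup G) := fun a =>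
    Subtype.ext (map_one (a : MulAut G))
  obtain ⟨l, hl, hne⟩ := hA2.exists_fixed_point_of_prime_dvd_card_of_fixed_point _ hPne h1
  exact ⟨l, fun h => hne (Subtype.ext h.symm), congrArg Subtype.val (hl ⟨φ, hφA⟩),
    congrArg Subtype.val (hl ⟨ψ, hψA⟩)⟩

end Cfsg.Agent.H97.CSix
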