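import Cfsg.Agent.H97.CSix.PartOne

/-!
The kernel of the projection of the centraliser of the sign of the first bit is the standard group.
-/

set_option autoImplicit false
set_option linter.unusedSectionVars false

namespace Cfsg.Agent.H97.CSix

open Matrix

variable {F : Type*} [Field F] [Finite F] (r : Root F)
variable {γ : Type*} [AddCommGroup γ] [Qubits γ] [Fintype γ] [DecidableEq γ] [Nontrivial γ]
variable {H : Subgroup (GL (ZMod 2 × (ZMod 2 × γ)) F)}

/-- No controlled gate outside the standard group is in the projection. -/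
def NoCtrl (H : Subgroup (GL (ZMod 2 × (ZMod 2 × γ)) F)) : Prop :=
  ∀ x : GL γ F, bdU 1 x ∈ projX H → x ∈ r.R γ

variable (hH : r.gam (ZMod 2 × (ZMod 2 × γ)) ≤ H) (hN : NoCtrl r H)
include hH hN

/-- The blocks of a kernel element commuting with the inner sign are standard. -/
theorem blocks {x₀ x₁ : GL γ F} (h : bdU x₀ x₁ ∈ kerQ H) : x₀ ∈ r.R γ ∧ x₁ ∈ r.R γ := by
  have hs : (permU (swapPerm γ) : GL (ZMod 2 × (ZMod 2 × γ)) F) ∈ H := hH r.swap_mem
  have h' := mul_mem (mul_mem hs ((mem_kerQ H).1 h)) (inv_mem hs)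
  rw [swap_bdU] at h'
  exact ⟨hN _ ⟨_, h'⟩, hN _ ⟨_, flip_mem r hH h'⟩⟩

/-- A kernel element commuting with a nonscalar involution of the standard group normalises. -/
theorem star {x p : GL (ZMod 2 × γ) F} (hx : x ∈ kerQ H) (hp : p ∈ r.R (ZMod 2 × γ)) (hpp : p * p = 1)
    (hps : ¬ IsScal p) (hc : x * p = p * x) : x ∈ r.Y (ZMod 2 × γ) := by
  have hzz : (z1 : GL (ZMod 2 × γ) F) * z1 = 1 := pu_sq_of_dot (Qubits.dot_zero _)
  have hzx : (z1 : GL (ZMod 2 × γ) F) * x1 = -(x1 * z1) := Units.ext (by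
    rw [Units.val_mul, Units.val_neg, Units.val_mul, pu_val, pu_val, pmat_comm, dot_prod, Qubits.zero_dot]
    simp [Qubits.zero_dot])
  obtain ⟨n, hn, hnp⟩ := r.exists_conj hp (pu_mem _ _ _ _) hpp hzz hps (not_scal_of_anti r.two hzx)
  obtain ⟨x₀, x₁, he⟩ := exists_bdU r.two (g := n * x * n⁻¹) (by
    rw [show (z1 : GL (ZMod 2 × γ) F) = n * p * n⁻¹ from hnp.symm, show n * x * n⁻¹ * (n * p * n⁻¹) = n * (x * p) * n⁻¹ by group, hc]; group)
  obtain ⟨h0, h1⟩ := blocks r hH hN (he ▸ kerQ_conj r hH (gam_le_projX r hH hn) hx)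
  have hy : bdU x₀ x₁ ∈ r.Y (ZMod 2 × γ) := by
    rw [show bdU x₀ x₁ = bdU x₀ x₀ * bdU 1 (x₀⁻¹ * x₁) by rw [bdU_mul, mul_one, mul_inv_cancel_left]]
    exact mul_mem (r.R_le_Y (r.bd_R h0)) (r.gam_le_Y (r.ctrl_mem (mul_mem (inv_mem h0) h1)))
  have := mul_mem (mul_mem (inv_mem (r.gam_le_Y hn)) (he ▸ hy)) (r.gam_le_Y hn)
  rwa [show n⁻¹ * (n * x * n⁻¹) * n = x by group] at this

/-- The lifts of two anticommuting involutions differ outside the kernel. -/
theorem core_anti {p q : GL (ZMod 2 × γ) F} (hpR : p ∈ r.R _) (hqR : q ∈ r.R _) (hp : p * p = 1) (hq : q * q = 1)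
    (h : p * q = -(q * p)) : r.T q hq * (r.T p hp)⁻¹ ∉ kerQ H := by
  intro hk
  obtain ⟨b, hb⟩ := exists_ne (0 : γ)
  obtain ⟨a, ha⟩ := Qubits.nondeg b hb
  set z : GL γ F := pu 0 b
  set x : GL γ F := pu a 0
  have hz : z * z = 1 := pu_sq_of_dot (Qubits.dot_zero _)
  have hx : x * x = 1 := pu_sq_of_dot (Qubits.zero_dot _)
  have hzx : z * x = -(x * z) := Units.ext (by
    rw [Units.val_mul, Units.val_neg, Units.val_mul, pu_val, pu_val, pmat_comm, Qubits.zero_dot, ha]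
    simp)
  have hz2 : bdU z z * bdU z z = 1 := by rw [bdU_mul, hz, bdU_one]
  have hx2 : bdU x x * bdU x x = 1 := by rw [bdU_mul, hx, bdU_one]
  have hzx2 : bdU z z * bdU x x = -(bdU x x * bdU z z) := Units.ext (by
    have e := congrArg Units.val hzx
    rw [Units.val_mul, Units.val_neg, Units.val_mul] at e
    rw [Units.val_mul, Units.val_neg, Units.val_mul, bdU_val, bdU_val, bd_mul, bd_mul, e,
      ← neg_one_smul F (bd ((x : Matrix γ γ F) * (z : Matrix γ γ F)) _), bd_smul, neg_one_smul])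
  obtain ⟨n, hn, hnp, hnq⟩ := r.exists_conj_pair hpR hqR (r.bd_R (pu_mem _ _ _ _)) (r.bd_R (pu_mem _ _ _ _))
    hp hq hz2 hx2 h hzx2
  have hk' := kerQ_conj r hH (gam_le_projX r hH hn) hk
  have e : n * (r.T q hq * (r.T p hp)⁻¹) * n⁻¹ =
      bdU (r.T x hx * (r.T z hz)⁻¹) (r.T x hx * (r.T z hz)⁻¹) := by
    rw [show n * (r.T q hq * (r.T p hp)⁻¹) * n⁻¹ = n * r.T q hq * n⁻¹ * (n * r.T p hp * n⁻¹)⁻¹ by group,
      conj_T r hq (by rw [hnq]; exact hx2), conj_T r hp (by rw [hnp]; exact hz2)]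
    simp only [hnp, hnq]
    rw [← r.bd_T hx, ← r.bd_T hz, bdU_inv, bdU_mul]
  rw [e] at hk'
  have hk0 := (blocks r hH hN hk').1
  set k0 := r.T x hx * (r.T z hz)⁻¹
  have hTz : (r.T z hz)⁻¹ * z * r.T z hz = z := by
    rw [mul_assoc, ← show r.T z hz * z = z * r.T z hz from halfU_comm r.two r.sq hz rfl, inv_mul_cancel_left]
  have hconj : k0 * z * k0⁻¹ = -(iu r.i r.sq : GL γ F) * (x * z) := by
    rw [show k0 * z * k0⁻¹ = r.T x hx * ((r.T z hz)⁻¹ * z * r.T z hz) * (r.T x hx)⁻¹ by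
      simp only [k0, _root_.mul_inv_rev, inv_inv]; group, hTz, r.T_anti hx (by rw [hzx, neg_neg])]
  have hi : IsScal (iu r.i r.sq : GL γ F) := ⟨r.i, iu_val _ _⟩
  have hxz : x * z = -(z * x) := by rw [hzx, neg_neg]
  have key : ∀ c : GL γ F, IsScal c → -(iu r.i r.sq : GL γ F) * (x * z) = c * z → False := by
    intro c hc e
    have e2 : -(iu r.i r.sq : GL γ F) * x = c := mul_right_cancel (b := z) (by rw [mul_assoc]; exact e)
    obtain ⟨d, hd⟩ := hc
    refine not_scal_of_anti r.two hxz ⟨r.i * d, ?_⟩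
    have e3 := congrArg (fun g : GL γ F => r.i • (g : Matrix γ γ F)) e2
    simpa [iu_val, smul_smul, r.sq, hd] using e3
  rcases comm_or_anti r.i r.sq hk0 (pu_mem r.i r.sq 0 b) with hc | hc
  · refine key 1 ⟨1, by rw [Units.val_one, one_smul]⟩ ?_
    rw [← hconj, one_mul, hc, mul_inv_cancel_right]
  · refine key (-1) ⟨-1, by rw [Units.val_neg, Units.val_one, neg_smul, one_smul]⟩ ?_
    rw [← hconj, neg_one_mul, hc, neg_mul, mul_inv_cancel_right]

/-- The lifts of two involutions differing by more than a sign differ outside the kernel. -/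
theorem core {p q : GL (ZMod 2 × γ) F} (hpR : p ∈ r.R _) (hqR : q ∈ r.R _) (hp : p * p = 1) (hq : q * q = 1)
    (hqs : ¬ IsScal q) (hk : r.T q hq * (r.T p hp)⁻¹ ∈ kerQ H) : q = p ∨ q = -p := by
  rcases comm_or_anti r.i r.sq hpR hqR with hpq | hpq
  swap
  · exact absurd hk (core_anti r hH hN hpR hqR hp hq hpq)
  by_contra hne
  have hqp : ¬ IsScal (q * p) := fun h => hne (IsScal.of_mul_invol hq hp h hpq.symm)
  obtain ⟨u, huR, hu, hqu, hqpu⟩ := exists_anti_both r.i r.sq r.two hqR (mul_mem hqR hpR) hqs hqp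
  have hpu : p * u = u * p := by
    have e : q * (p * u) = q * (u * p) := by
      rw [← mul_assoc q p u, ← mul_assoc q u p, hqpu, hqu, neg_mul, mul_assoc u q p]
    exact mul_left_cancel e
  set e := r.T q hq * (r.T p hp)⁻¹
  have heu : e * u * e⁻¹ = -(iu r.i r.sq : GL (ZMod 2 × γ) F) * (q * u) := by
    have : (r.T p hp)⁻¹ * u * r.T p hp = u := by
      rw [mul_assoc, ← show r.T p hp * u = u * r.T p hp from halfU_comm r.two r.sq hp hpu, inv_mul_cancel_left]
    rw [show e * u * e⁻¹ = r.T q hq * ((r.T p hp)⁻¹ * u * r.T p hp) * (r.T q hq)⁻¹ by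
      simp only [e, _root_.mul_inv_rev, inv_inv]; group, this, r.T_anti hq hqu]
  have hu' : e * u * e⁻¹ * (e * u * e⁻¹) = 1 := by
    rw [show e * u * e⁻¹ * (e * u * e⁻¹) = e * (u * u) * e⁻¹ by group, hu, mul_one, mul_inv_cancel]
  have hk2 := kerQ_comm r hH hk (r.T_mem_gam hu huR)
  rw [conj_T r hu hu'] at hk2
  refine core_anti r hH hN huR (r.conj_mem (mul_mem (r.T_mem_Y hq hqR) (inv_mem (r.T_mem_Y hp hpR))) huR) hu hu'
    ?_ hk2
  rw [heu]
  have hi : IsScal (iu r.i r.sq : GL (ZMod 2 × γ) F) := ⟨r.i, iu_val _ _⟩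
  have h1 : u * (q * u) = -(q * u * u) := by
    rw [← mul_assoc, show u * q = -(q * u) by rw [hqu, neg_neg], neg_mul]
  rw [neg_mul, mul_neg, neg_mul, neg_neg, ← mul_assoc u, ← hi.comm u, mul_assoc (iu r.i r.sq), h1, mul_neg,
    neg_neg, mul_assoc (iu r.i r.sq)]

/-- The kernel inside the normaliser. -/
theorem kerQ_inf_Y {x : GL (ZMod 2 × γ) F} (hx : x ∈ kerQ H) (hY : x ∈ r.Y (ZMod 2 × γ)) :
    x ∈ r.R (ZMod 2 × γ) := by
  obtain ⟨c, a, b, hc⟩ := r.exists_eq_smul (r.sign_of_invol (g := x) fun p hp hpp hps => by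
    have hqq : x * p * x⁻¹ * (x * p * x⁻¹) = 1 := by
      rw [show x * p * x⁻¹ * (x * p * x⁻¹) = x * (p * p) * x⁻¹ by group, hpp, mul_one, mul_inv_cancel]
    refine core r hH hN hp (r.conj_mem hY hp) hpp hqq (fun hs => hps ?_) ?_
    · have e : x⁻¹ * (x * p * x⁻¹) * x = x * p * x⁻¹ := by rw [mul_assoc, hs.comm x, inv_mul_cancel_left]
      rw [show x⁻¹ * (x * p * x⁻¹) * x = p by group] at e
      rwa [← e] at hs
    · rw [← conj_T r hpp hqq]
      exact kerQ_comm r hH hx (r.T_mem_gam hpp hp))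
  set w : GL (ZMod 2 × γ) F := pu a b
  have hw : w ∈ r.R (ZMod 2 × γ) := pu_mem _ _ _ _
  have hs : ((x * w⁻¹ : GL (ZMod 2 × γ) F) : Matrix (ZMod 2 × γ) (ZMod 2 × γ) F) = c • 1 := by
    have e : (x : Matrix (ZMod 2 × γ) (ZMod 2 × γ) F) = c • (w : Matrix (ZMod 2 × γ) (ZMod 2 × γ) F) := hc
    rw [Units.val_mul, e, smul_mul_assoc, Units.mul_inv]
  have hsQ : x * w⁻¹ ∈ kerQ H := mul_mem hx (inv_mem (R_le_kerQ r hH hw))
  obtain ⟨s₀, s₁, he⟩ := exists_bdU r.two ((show IsScal (x * w⁻¹) from ⟨c, hs⟩).comm z1)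
  obtain ⟨h0, -⟩ := blocks r hH hN (he ▸ hsQ)
  have hs0 : (s₀ : Matrix γ γ F) = c • 1 := by
    rw [he, bdU_val, ← bd_one, bd_smul] at hs
    exact (bd_inj hs).1
  obtain ⟨k, hk⟩ := r.scal_std h0 hs0
  exact ⟨k, a, b, by rw [hc, hk]⟩

/-- The kernel is the standard group. -/
theorem kerQ_eq : kerQ H = r.R (ZMod 2 × γ) := by
  refine le_antisymm ?_ fun p hp => R_le_kerQ r hH hp
  set A := (r.R (ZMod 2 × γ)).subgroupOf (kerQ H)
  let S : Subgroup (kerQ H) :=
    { carrier := {g | IsScal (g : GL (ZMod 2 × γ) F)}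
      one_mem' := ⟨1, by simp⟩
      mul_mem' := by
        rintro g h ⟨c, hc⟩ ⟨d, hd⟩
        exact ⟨c * d, by rw [Subgroup.coe_mul, Units.val_mul, hc, hd, smul_mul_smul_comm, one_mul]⟩
      inv_mem' := by
        rintro g ⟨c, hc⟩
        refine ⟨c⁻¹, ?_⟩
        rw [Subgroup.coe_inv]
        by_cases h0 : c = 0
        · rw [h0, zero_smul] at hc
          exact absurd hc (g : GL (ZMod 2 × γ) F).ne_zero
        refine Units.inv_eq_of_mul_eq_one_right ?_
        rw [hc, smul_mul_smul_comm, mul_inv_cancel₀ h0, one_smul, one_mul] }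
  have hSR : ∀ g : kerQ H, g ∈ S → (g : GL (ZMod 2 × γ) F) ∈ r.R _ := fun g hg => by
    refine kerQ_inf_Y r hH hN g.2 (r.scal_mem_Y hg)
  haveI hSn : S.Normal := ⟨fun n hn g => by
    show IsScal ((g * n * g⁻¹ : kerQ H) : GL (ZMod 2 × γ) F)
    rw [Subgroup.coe_mul, Subgroup.coe_mul, Subgroup.coe_inv, ← (show IsScal (n : GL (ZMod 2 × γ) F) from hn).comm,
      mul_inv_cancel_right]
    exact hn⟩
  let π := QuotientGroup.mk' S
  set P := A.map π
  have hmemP : ∀ g : kerQ H, π g ∈ P → (g : GL (ZMod 2 × γ) F) ∈ r.R _ := by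
    rintro g ⟨a, ha, he⟩
    have h1 := hSR _ (QuotientGroup.eq.1 he)
    have := mul_mem (show (a : GL (ZMod 2 × γ) F) ∈ r.R _ from ha) h1
    simpa using this
  have hPP : IsPGroup 2 P := by
    refine IsPGroup.map (fun a => ⟨2, ?_⟩) π
    have ha : ((a : kerQ H) : GL (ZMod 2 × γ) F) ∈ r.R _ := a.2
    refine Subtype.ext (Subtype.ext ?_)
    have h4 : ((a : kerQ H) : GL (ZMod 2 × γ) F) ^ 4 = 1 := by
      rw [show 4 = 2 * 2 from rfl, pow_mul, pow_two, pow_two]
      rcases sq_cases r.i r.sq ha with h | h <;> rw [h] <;> simp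
    simpa using h4
  have hPc : ∀ x ∈ P, ∀ y ∈ P, x * y = y * x := by
    rintro _ ⟨a, ha, rfl⟩ _ ⟨b, hb, rfl⟩
    rw [← map_mul, ← map_mul]
    refine QuotientGroup.eq.2 ?_
    show IsScal (((a * b)⁻¹ * (b * a) : kerQ H) : GL (ZMod 2 × γ) F)
    push_cast
    rcases comm_or_anti r.i r.sq (show (b : GL (ZMod 2 × γ) F) ∈ r.R _ from hb)
      (show (a : GL (ZMod 2 × γ) F) ∈ r.R _ from ha) with h | h <;> rw [h]
    · exact ⟨1, by rw [inv_mul_cancel, Units.val_one, one_smul]⟩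
    · exact ⟨-1, by rw [mul_neg, inv_mul_cancel, Units.val_neg, Units.val_one, neg_smul, one_smul]⟩
  have hPN : ∀ g : kerQ H ⧸ S, (∀ x ∈ P, g * x * g⁻¹ ∈ P) → g ∈ P := by
    intro g hg
    obtain ⟨g, rfl⟩ := QuotientGroup.mk'_surjective S g
    refine ⟨g, kerQ_inf_Y r hH hN g.2 (r.mem_Y fun p hp => ?_), rfl⟩
    have := hg _ ⟨⟨p, R_le_kerQ r hH hp⟩, hp, rfl⟩
    rw [← map_inv, ← map_mul, ← map_mul] at this
    simpa using hmemP _ this
  -- two commuting involutions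
  obtain ⟨b, hb⟩ := exists_ne (0 : γ)
  let mkp : ∀ b' : ZMod 2 × γ, kerQ H := fun b' => ⟨pu 0 b', R_le_kerQ r hH (pu_mem _ _ _ _)⟩
  let conjp : (ZMod 2 × γ) → (kerQ H ⧸ S →* kerQ H ⧸ S) := fun b' =>
    (MulAut.conj (π (mkp b'))).toMonoidHom
  have hconj2 : ∀ b' g, conjp b' (conjp b' g) = g := by
    intro b' g
    have e : π (mkp b') * π (mkp b') = 1 := by
      rw [← map_mul, ← map_one π]
      exact congrArg π (Subtype.ext (pu_sq_of_dot (Qubits.dot_zero b')))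
    simp only [conjp, MulEquiv.coe_toMonoidHom, MulAut.conj_apply]
    rw [← mul_assoc, ← mul_assoc, e, one_mul, mul_assoc, ← _root_.mul_inv_rev, e, inv_one, mul_one]
  have hfix : ∀ b', b' ≠ 0 → ∀ g, conjp b' g = g → g ∈ P := by
    intro b' hb' g hg
    obtain ⟨g, rfl⟩ := QuotientGroup.mk'_surjective S g
    simp only [conjp, MulEquiv.coe_toMonoidHom, MulAut.conj_apply] at hg
    rw [← map_inv, ← map_mul, ← map_mul] at hg
    have hc : IsScal (((mkp b' * g * (mkp b')⁻¹)⁻¹ * g : kerQ H) : GL (ZMod 2 × γ) F) :=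
      QuotientGroup.eq.1 hg
    set p : GL (ZMod 2 × γ) F := pu 0 b'
    set l : GL (ZMod 2 × γ) F := (g : GL (ZMod 2 × γ) F)
    have hp : p * p = 1 := pu_sq_of_dot (Qubits.dot_zero b')
    have hpi : p⁻¹ = p := inv_eq_of_mul_eq_one_right hp
    obtain ⟨a', ha'⟩ := Qubits.nondeg b' hb'
    have hpa : p * pu a' 0 = -(pu a' 0 * p) := Units.ext (by
      rw [Units.val_mul, Units.val_neg, Units.val_mul, pu_val, pu_val, pmat_comm, ha', Qubits.zero_dot]
      simp)
    have hps := not_scal_of_anti r.two hpa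
    have hsc : IsScal (p * (l⁻¹ * p) * l) := by
      have e : (((mkp b' * g * (mkp b')⁻¹)⁻¹ * g : kerQ H) : GL (ZMod 2 × γ) F) = (p * l * p⁻¹)⁻¹ * l := rfl
      rw [e] at hc
      simpa [hpi, mul_assoc] using hc
    have hcase : l * p = p * l ∨ l * p = -(p * l) := by
      have hv : (l⁻¹ * p * l) * (l⁻¹ * p * l) = 1 := by
        rw [show (l⁻¹ * p * l) * (l⁻¹ * p * l) = l⁻¹ * (p * p) * l by group, hp, mul_one, inv_mul_cancel]
      have hpv : p * (l⁻¹ * p * l) = (l⁻¹ * p * l) * p := by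
        have := hsc.comm p
        rw [show p * (l⁻¹ * p) * l * p = p * (l⁻¹ * p * l * p) by group,
          show p * (p * (l⁻¹ * p) * l) = p * (p * (l⁻¹ * p * l)) by group] at this
        exact (mul_left_cancel this).symm
      have hsc' : IsScal (p * (l⁻¹ * p * l)) := by
        rwa [show p * (l⁻¹ * p * l) = p * (l⁻¹ * p) * l by group]
      rcases IsScal.of_mul_invol hp hv hsc' hpv with h | h
      · left
        calc l * p = l * (l⁻¹ * p * l) := by rw [← h]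
          _ = p * l := by group
      · right
        calc l * p = l * (-(l⁻¹ * p * l)) := by rw [← h]
          _ = -(p * l) := by rw [mul_neg]; group
    refine ⟨g, ?_, rfl⟩
    rcases hcase with h | h
    · exact kerQ_inf_Y r hH hN g.2 (star r hH hN g.2 (pu_mem _ _ _ _) hp hps h)
    · have hq : (pu a' 0 : GL (ZMod 2 × γ) F) ∈ r.R _ := pu_mem _ _ _ _
      have hQ : l * pu a' 0 ∈ kerQ H := mul_mem g.2 (R_le_kerQ r hH hq)
      have hcomm : l * pu a' 0 * p = p * (l * pu a' 0) := by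
        rw [mul_assoc, show pu a' 0 * p = -(p * pu a' 0) by rw [hpa, neg_neg], mul_neg, ← mul_assoc, h, neg_mul,
          neg_neg, mul_assoc]
      have := mul_mem (kerQ_inf_Y r hH hN hQ (star r hH hN hQ (pu_mem _ _ _ _) hp hps hcomm)) (inv_mem hq)
      rwa [mul_inv_cancel_right] at this
  have htop : P = ⊤ := by
    refine top_of_fixed P hPP hPc hPN (conjp (1, 0)) (conjp (0, b)) (hconj2 _) (hconj2 _) (hfix _ (by simp))
      (hfix _ (by simp [hb])) fun g hg => hfix (1, b) (by simp) g ?_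
    have e : π (mkp (1, b)) = π (mkp (1, 0)) * π (mkp (0, b)) := by
      rw [← map_mul]
      refine congrArg π (Subtype.ext (Units.ext ?_))
      show pmat F 0 ((1, b) : ZMod 2 × γ) = ((pu 0 (1, 0) * pu 0 (0, b) : GL (ZMod 2 × γ) F) : Matrix _ _ F)
      rw [Units.val_mul, pu_val, pu_val, pmat_mul, Qubits.dot_zero]
      simp
    simp only [conjp, MulEquiv.coe_toMonoidHom, MulAut.conj_apply] at hg ⊢
    rw [e]
    conv_rhs => rw [← hg]
    group
  intro x hx
  exact hmemP ⟨x, hx⟩ (htop ▸ Subgroup.mem_top _)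

/-- The projection lies in the normaliser. -/
theorem projX_le_Y : projX H ≤ r.Y (ZMod 2 × γ) := fun x hx => r.mem_Y fun p hp => by
  rw [← kerQ_eq r hH hN]
  exact kerQ_conj r hH hx (R_le_kerQ r hH hp)

end Cfsg.Agent.H97.CSix
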