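import Cfsg.Agent.H97.CSix.Fusion
import Cfsg.Agent.H57.CSix.Dihedral

/-!
A centred overgroup in dimension eight lies in the normaliser of the standard group.
-/

set_option autoImplicit false
set_option linter.unusedSectionVars false

namespace Cfsg.Agent.H97.CSix

open Matrix Module

open Cfsg.Agent.H57.CSix (PM)

variable {F : Type*} [Field F] [Fintype F]
variable {ι : Type} [AddCommGroup ι] [Qubits ι] [Module (ZMod 2) ι] [Fintype ι] [DecidableEq ι]
variable (r : Root F) {H : Subgroup (GL ι F)} (hH : r.gam ι ≤ H) (hC : Centred r H)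
  (h3 : finrank (ZMod 2) ι = 3)
include hH hC h3

theorem conj_rep_mem {g p : GL ι F} (hg : g ∈ H) {v : ι × ι} (hp : Sim p v) (hv : v ≠ 0)
    (h : g * p * g⁻¹ ∈ r.Y ι) : g ∈ r.Y ι := by
  by_contra hgY
  obtain ⟨s, hs, rfl⟩ := hp
  refine no_fusion r hH hC h3 hg hgY hv ?_
  rw [show g * cl v * g⁻¹ = g * s⁻¹ * g⁻¹ * (g * (s * cl v) * g⁻¹) by group]
  exact mul_mem (r.scal_mem_Y (hs.inv.conj g)) h

/-- Conjugation fixing a class of involutions up to sign commutes up to sign. -/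
theorem pm_cases {g p : GL ι F} (h : PM (g * p) (p * g)) : g * p = p * g ∨ g * p = -(p * g) := h

/-- An involution mapped to a standard one conjugate to a given standard one. -/
theorem conj_sing {g : GL ι F} (hg : g ∈ H) (hgY : g ∉ r.Y ι) {v y : ι × ι} (hv : v ≠ 0) (hy : y ≠ 0)
    {pv py : GL ι F} (hpv : pv ∈ r.R ι) (hpy : py ∈ r.R ι) (hpv2 : pv * pv = 1) (hpy2 : py * py = 1)
    (hsv : Sim pv v) (hsy : Sim py y) :
    ∃ c ∈ H, PM (c * py * c⁻¹) (g * pv * g⁻¹) ∧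
      ∀ e, PM (e * py) (py * e) → PM (e * (g * pv * g⁻¹)) (g * pv * g⁻¹ * e) → PM (e * c) (c * e) := by
  have hV : g * pv * g⁻¹ ∈ H := mul_mem (mul_mem hg (hH (r.R_le_gam hpv))) (inv_mem hg)
  have hV2 : g * pv * g⁻¹ * (g * pv * g⁻¹) = 1 := by
    rw [show g * pv * g⁻¹ * (g * pv * g⁻¹) = g * (pv * pv) * g⁻¹ by group, hpv2, mul_one, mul_inv_cancel]
  rcases H57.CSix.dihedral (hH (r.R_le_gam hpy)) hV hpy2 hV2 with h | h
  · exact h
  exfalso
  obtain ⟨w, hw, hw1, -, hwy, hwv, -, hcases⟩ := h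
  have hwY : w ∈ r.Y ι := hC py hpy (rep_not_scal r.two hsy hy) w hw (pm_cases r hH hC h3 hwy.symm)
  have hw' : g⁻¹ * w * g ∈ r.Y ι := by
    refine hC pv hpv (rep_not_scal r.two hsv hv) _ (mul_mem (mul_mem (inv_mem hg) hw) hg)
      (pm_cases r hH hC h3 ?_)
    have := ((hwv.symm.mul_left g⁻¹).mul_right g)
    convert this using 1 <;> group
  have key : ∀ (k p : GL ι F) (u : ι × ι), k ∈ H → p ∈ r.R ι → Sim p u → u ≠ 0 → k * p * k⁻¹ ∈ r.Y ι →
      k * p * k⁻¹ ∈ r.R ι := fun k p u hk hp hs hu h =>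
    r.conj_mem (conj_rep_mem r hH hC h3 hk hs hu h) hp
  -- both products are standard and of square one
  obtain ⟨h1, h2, hsq⟩ : py * w ∈ r.R ι ∧ g⁻¹ * (g * pv * g⁻¹ * w) * g ∈ r.R ι ∧ py * w * (py * w) = 1 := by
    have hpw : py * w ∈ r.Y ι := mul_mem (r.R_le_Y hpy) hwY
    have hvw : g⁻¹ * (g * pv * g⁻¹ * w) * g ∈ r.Y ι := by
      rw [show g⁻¹ * (g * pv * g⁻¹ * w) * g = pv * (g⁻¹ * w * g) by group]
      exact mul_mem (r.R_le_Y hpv) hw'
    have sq : ∀ k p : GL ι F, p * p = 1 → k * p * k⁻¹ * (k * p * k⁻¹) = 1 := fun k p hp => by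
      rw [show k * p * k⁻¹ * (k * p * k⁻¹) = k * (p * p) * k⁻¹ by group, hp, mul_one, mul_inv_cancel]
    rcases hcases with ⟨⟨k, hk, e⟩, k', hk', e'⟩ | ⟨⟨k, hk, e⟩, k', hk', e'⟩
    · refine ⟨?_, ?_, ?_⟩
      · rw [e] at hpw ⊢
        exact key k py y hk hpy hsy hy hpw
      · rw [e', show g⁻¹ * (k' * (g * pv * g⁻¹) * k'⁻¹) * g = (g⁻¹ * k' * g) * pv * (g⁻¹ * k' * g)⁻¹ by group]
          at hvw ⊢
        exact key _ pv v (mul_mem (mul_mem (inv_mem hg) hk') hg) hpv hsv hv hvw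
      · rw [e]; exact sq k py hpy2
    · refine ⟨?_, ?_, ?_⟩
      · rw [e, show k * (g * pv * g⁻¹) * k⁻¹ = k * g * pv * (k * g)⁻¹ by group] at hpw ⊢
        exact key _ pv v (mul_mem hk hg) hpv hsv hv hpw
      · rw [e', show g⁻¹ * (k' * py * k'⁻¹) * g = g⁻¹ * k' * py * (g⁻¹ * k')⁻¹ by group] at hvw ⊢
        exact key _ py y (mul_mem (inv_mem hg) hk') hpy hsy hy hvw
      · rw [e]; exact sq k _ hV2
  have hwR : w ∈ r.R ι := by simpa using mul_mem (inv_mem hpy) h1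
  have hwR' : g⁻¹ * w * g ∈ r.R ι := by
    have := mul_mem (inv_mem hpv) h2
    rwa [show pv⁻¹ * (g⁻¹ * (g * pv * g⁻¹ * w) * g) = g⁻¹ * w * g by group] at this
  obtain ⟨u, hu⟩ := r.exists_sim hwR
  obtain ⟨u', hu'⟩ := r.exists_sim hwR'
  obtain ⟨s, hs, e⟩ := hu'
  by_cases hu0 : u' = 0
  · have hscal : IsScal w := by
      have h0 : IsScal (g⁻¹ * w * g) := by rw [e, hu0, cl_zero, mul_one]; exact hs
      have := h0.conj g
      rwa [show g * (g⁻¹ * w * g) * g⁻¹ = w by group] at this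
    rw [show py * w * (py * w) = py * (w * py) * w by group, hscal.comm py,
      show py * (py * w) * w = py * py * (w * w) by group, hpy2, one_mul] at hsq
    obtain ⟨c, hc⟩ := hscal
    have e' := congrArg (fun M : Matrix ι ι F => M 0 0) (congrArg Units.val hsq)
    rw [Units.val_mul, hc] at e'
    simp at e'
    rcases mul_self_eq_one_iff.1 e' with h | h <;> rw [h] at hc <;> apply hw1
    · exact .inl (Units.ext (by rw [hc, one_smul, Units.val_one]))
    · exact .inr (Units.ext (by rw [hc, neg_smul, one_smul, Units.val_neg, Units.val_one]))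
  · refine hgY (fus r hH hC hg (v := u') hu0 (w := u) ?_)
    rw [show g * cl u' * g⁻¹ = g * s⁻¹ * g⁻¹ * w by
      rw [show cl u' = s⁻¹ * (g⁻¹ * w * g) by rw [e, inv_mul_cancel_left]]; group]
    exact hu.scal_mul (hs.inv.conj g)

/-- An element of two normalisers squaring to a scalar is scalar. -/
theorem both_scal {g e : GL ι F} (hg : g ∈ H) (hgY : g ∉ r.Y ι) (he : e ∈ r.Y ι)
    (he' : g⁻¹ * e * g ∈ r.Y ι) (hee : IsScal (e * e)) : IsScal e := by
  have hgi : g⁻¹ ∉ r.Y ι := fun h => hgY (by simpa using inv_mem h)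
  by_cases h0 : ∀ x, r.dev he x = 0
  · obtain ⟨w, hw⟩ := r.sim_of_dev he h0
    by_contra hns
    obtain ⟨s, hs, rfl⟩ := hw
    have hw0 : w ≠ 0 := fun e => hns (by rw [e, cl_zero, mul_one]; exact hs)
    refine hgi (conj_rep_mem r hH hC h3 (inv_mem hg) (sim_cl w) hw0 ?_)
    rw [show g⁻¹ * cl w * g⁻¹⁻¹ = g⁻¹ * s⁻¹ * g⁻¹⁻¹ * (g⁻¹ * (s * cl w) * g) by group]
    exact mul_mem (r.scal_mem_Y (hs.inv.conj g⁻¹)) he'
  exfalso
  push Not at h0
  obtain ⟨x0, hx0⟩ := h0
  have hee' : IsScal (g⁻¹ * e * g * (g⁻¹ * e * g)) := by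
    rw [show g⁻¹ * e * g * (g⁻¹ * e * g) = g⁻¹ * (e * e) * g⁻¹⁻¹ by group]; exact hee.conj _
  have hn := r.dev_isNil he hee
  obtain ⟨v, hv, hv0⟩ : ∃ v ∈ LinearMap.ker (r.dev he'), v ≠ 0 :=
    Submodule.exists_mem_ne_zero_of_ne_bot fun e0 => by
      have := (r.dev_isNil he' hee').dim_ker
      rw [e0, finrank_bot, h3] at this; omega
  obtain ⟨pv, hpv, hpv2, hsv⟩ := r.exists_rep v
  have hev : PM (e * (g * pv * g⁻¹)) (g * pv * g⁻¹ * e) := by
    rcases (r.act_fix_iff he' hpv hsv).1 ((r.dev_zero_iff he' v).1 (LinearMap.mem_ker.1 hv)) with h | h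
    · exact .inl (by
        calc e * (g * pv * g⁻¹) = g * (g⁻¹ * e * g * pv) * g⁻¹ := by group
          _ = g * (pv * (g⁻¹ * e * g)) * g⁻¹ := by rw [h]
          _ = g * pv * g⁻¹ * e := by group)
    · exact .inr (by
        calc e * (g * pv * g⁻¹) = g * (g⁻¹ * e * g * pv) * g⁻¹ := by group
          _ = g * (-(pv * (g⁻¹ * e * g))) * g⁻¹ := by rw [h]
          _ = -(g * pv * g⁻¹ * e) := by rw [mul_neg, neg_mul]; group)
  set K := LinearMap.ker (r.dev he) with hK
  -- the centraliser is transitive on the fixed labels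
  have trans : ∀ y ∈ K, ∀ z ∈ K, y ≠ 0 → z ≠ 0 → ∃ k, ∃ hk : k ∈ r.Y ι, act k y = z ∧
      ∀ x, r.dev he (act k x) = act k (r.dev he x) := by
    intro y hy z hz hy0 hz0
    obtain ⟨py, hpy, hpy2, hsy⟩ := r.exists_rep y
    obtain ⟨pz, hpz, hpz2, hsz⟩ := r.exists_rep z
    obtain ⟨c₁, hc₁, h1, h1e⟩ := conj_sing r hH hC h3 hg hgY hv0 hy0 hpv hpy hpv2 hpy2 hsv hsy
    obtain ⟨c₂, hc₂, h2, h2e⟩ := conj_sing r hH hC h3 hg hgY hv0 hz0 hpv hpz hpv2 hpz2 hsv hsz
    have hey : PM (e * py) (py * e) := (r.act_fix_iff he hpy hsy).1 ((r.dev_zero_iff he y).1 (LinearMap.mem_ker.1 hy))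
    have hez : PM (e * pz) (pz * e) := (r.act_fix_iff he hpz hsz).1 ((r.dev_zero_iff he z).1 (LinearMap.mem_ker.1 hz))
    set k := c₂⁻¹ * c₁
    have hkH : k ∈ H := mul_mem (inv_mem hc₂) hc₁
    have hke : PM (e * k) (k * e) := (h2e e hez hev).comm_inv.comm_mul (h1e e hey hev)
    have hconj : PM (k * py * k⁻¹) pz := by
      have := (h1.trans h2.symm).conj c₂⁻¹
      simp only [k]; convert this using 1 <;> group
    have hsk : Sim (k * py * k⁻¹) z := by
      rcases hconj with h | h <;> rw [h]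
      exacts [hsz, hsz.neg]
    have hkY : k ∈ r.Y ι := conj_rep_mem r hH hC h3 hkH hsy hy0 (r.sim_mem_Y hsk)
    refine ⟨k, hkY, r.act_eq hkY hsy hsk, fun x => ?_⟩
    have hcomm : ∀ x, act e (act k x) = act k (act e x) := fun x => by
      rw [← r.act_mul he hkY, ← r.act_mul hkY he]
      rcases hke with h | h
      · rw [h]
      · rw [h, ← neg_one_mul (k * e), r.act_mul (r.scal_mem_Y ⟨-1, by simp⟩) (mul_mem hkY he),
          r.act_scal ⟨-1, by simp⟩]
    rw [r.dev_apply, r.dev_apply, hcomm, r.act_add hkY]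
  have hKle : K ≤ LinearMap.range (r.dev he) := by
    intro z hz
    rcases eq_or_ne z 0 with rfl | hz0
    · exact zero_mem _
    obtain ⟨k, hk, hkz, hkc⟩ := trans _ (hn.range_le_ker ⟨x0, rfl⟩) z hz hx0 hz0
    exact ⟨act k x0, by rw [hkc, hkz]⟩
  have hKd : finrank (ZMod 2) K = 3 := by
    have h1 := Submodule.finrank_mono hKle
    have h2 := (r.dev he).finrank_range_add_finrank_ker
    have h4 := hn.dim_ker
    rw [finrank_lab, h3] at h2
    rw [h3] at h4
    rw [← hK] at h2 h4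
    omega
  obtain ⟨D, x, hx, hD, hone⟩ := hn.exists_diag h3 hKd
  have hD0 : D ≠ 0 := fun h => zero_ne_one (α := ZMod 2) (by rw [← hone, hx, h, sB_zero_right])
  have hDK : D ∈ K := hn.range_le_ker ⟨x, hx⟩
  have honly : ∀ z ∈ K, z = 0 ∨ z = D := by
    intro z hz
    rcases eq_or_ne z 0 with h | hz0
    · exact Or.inl h
    right
    obtain ⟨k, hk, hkz, hkc⟩ := trans D hDK z hz hD0 hz0
    rw [← hkz]
    refine sB_ext fun w => ?_
    obtain ⟨w', rfl⟩ := r.act_surj hk w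
    rw [r.act_sB hk, hD, hD, hkc, r.act_sB hk]
  have : K ≤ Submodule.span (ZMod 2) {D} := fun z hz => by
    rcases honly z hz with rfl | rfl
    · exact zero_mem _
    · exact Submodule.mem_span_singleton_self _
  have := Submodule.finrank_mono this
  rw [hKd, finrank_span_singleton (K := ZMod 2) hD0] at this
  omega

/-- The overgroup is the normaliser. -/
theorem le_Y {f : GL ι F} (hf : f ∈ r.gam ι) (hff : f * f = 1) (hns : ∀ w, ¬ Sim f w) : H ≤ r.Y ι := by
  intro g hg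
  by_contra hgY
  have hfY := r.gam_le_Y hf
  have hfns : ¬ IsScal f := fun h => hns 0 (sim_scal h)
  obtain ⟨x, hx⟩ : ∃ x : ι × ι, x ≠ 0 := by
    obtain ⟨a, ha⟩ : ∃ a : ι, a ≠ 0 := by
      by_contra! h
      have : Subsingleton ι := ⟨fun a b => (h a).trans (h b).symm⟩
      rw [finrank_zero_of_subsingleton] at h3
      omega
    exact ⟨(a, 0), fun e => ha (congrArg Prod.fst e)⟩
  obtain ⟨pv, hpv, hpv2, hsv⟩ := r.exists_rep x
  have hV : g * pv * g⁻¹ ∈ H := mul_mem (mul_mem hg (hH (r.R_le_gam hpv))) (inv_mem hg)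
  have hV2 : g * pv * g⁻¹ * (g * pv * g⁻¹) = 1 := by
    rw [show g * pv * g⁻¹ * (g * pv * g⁻¹) = g * (pv * pv) * g⁻¹ by group, hpv2, mul_one, mul_inv_cancel]
  have hcent : ∀ k ∈ H, PM (k * f) (f * k) → k ∈ r.Y ι := by
    intro k hk hc
    by_contra hkY
    refine hfns (both_scal r hH hC h3 hk hkY hfY ?_ (by rw [hff]; exact IsScal.one))
    rcases hc with h | h
    · rwa [mul_assoc, ← h, inv_mul_cancel_left]
    · rw [mul_assoc, show f * k = -(k * f) by rw [h, neg_neg], mul_neg, inv_mul_cancel_left, ← neg_one_mul]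
      exact mul_mem (r.scal_mem_Y ⟨-1, by simp⟩) hfY
  rcases H57.CSix.dihedral (hH hf) hV hff hV2 with ⟨c, hc, hcV, -⟩ | ⟨w, hw, hw1, hww, hwf, hwv, -, hcases⟩
  · have h1 : PM ((c⁻¹ * g) * pv * (c⁻¹ * g)⁻¹) f := by
      have := (hcV.conj c⁻¹).symm
      convert this using 1 <;> group
    have hY : c⁻¹ * g ∈ r.Y ι := conj_rep_mem r hH hC h3 (mul_mem (inv_mem hc) hg) hsv hx (by
      rcases h1 with h | h <;> rw [h]
      · exact hfY
      · rw [← neg_one_mul]; exact mul_mem (r.scal_mem_Y ⟨-1, by simp⟩) hfY)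
    have hs := r.act_sim hY hsv
    rcases h1 with h | h <;> rw [h] at hs
    · exact hns _ hs
    · exact hns _ (by simpa using hs.neg)
  · have hwY : w ∈ r.Y ι := hcent w hw hwf.symm
    have hw' : g⁻¹ * w * g ∈ r.Y ι := by
      refine hC pv hpv (rep_not_scal r.two hsv hx) _ (mul_mem (mul_mem (inv_mem hg) hw) hg)
        (pm_cases r hH hC h3 ?_)
      have := ((hwv.symm.mul_left g⁻¹).mul_right g)
      convert this using 1 <;> group
    have hwscal : IsScal (w * w) := by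
      rcases hww with h | h <;> rw [h]
      exacts [IsScal.one, ⟨-1, by simp⟩]
    have hws := both_scal r hH hC h3 hg hgY hwY hw' hwscal
    have hsq : f * w * (f * w) = 1 := by
      have sq : ∀ k p : GL ι F, p * p = 1 → k * p * k⁻¹ * (k * p * k⁻¹) = 1 := fun k p hp => by
        rw [show k * p * k⁻¹ * (k * p * k⁻¹) = k * (p * p) * k⁻¹ by group, hp, mul_one, mul_inv_cancel]
      rcases hcases with ⟨⟨k, -, e⟩, -⟩ | ⟨⟨k, -, e⟩, -⟩ <;> rw [e]
      exacts [sq k f hff, sq k _ hV2]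
    rw [show f * w * (f * w) = f * (w * f) * w by group, hws.comm f,
      show f * (f * w) * w = f * f * (w * w) by group, hff, one_mul] at hsq
    obtain ⟨c, hc⟩ := hws
    have e' := congrArg (fun M : Matrix ι ι F => M 0 0) (congrArg Units.val hsq)
    rw [Units.val_mul, hc] at e'
    simp at e'
    rcases mul_self_eq_one_iff.1 e' with h | h <;> rw [h] at hc <;> apply hw1
    · exact .inl (Units.ext (by rw [hc, one_smul, Units.val_one]))
    · exact .inr (Units.ext (by rw [hc, neg_smul, one_smul, Units.val_neg, Units.val_one]))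

end Cfsg.Agent.H97.CSix
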