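import Cfsg.Agent.H97.CSix.Frame

/-!
The model of a group of order 256: three commuting pairs and the basis they define.
-/

set_option autoImplicit false
set_option linter.unusedSectionVars false

namespace Cfsg.Agent.H97.CSix

open Matrix

variable {F : Type*} [Field F] {n : Type} [Fintype n] [DecidableEq n]

/-- Three commuting pairs of anticommuting involutions. -/
structure Pairs (n : Type) [Fintype n] [DecidableEq n] (F : Type*) [Field F] where
  z : Fin 3 → GL n F
  x : Fin 3 → GL n F
  zz : ∀ j, z j * z j = 1
  xx : ∀ j, x j * x j = 1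
  anti : ∀ j, z j * x j = -(x j * z j)
  cz : ∀ j k, z j * z k = z k * z j
  cx : ∀ j k, x j * x k = x k * x j
  czx : ∀ j k, j ≠ k → z j * x k = x k * z j

variable {R : Subgroup (GL n F)} {r : Root F} (hd : SympData R r)
include hd

theorem SympData.scalar_cases [Nonempty n] {g : GL n F} (hg : g ∈ R) (hs : IsScal g) :
    ∃ k : Fin 4, g = iS n r ^ (k : ℕ) := by
  obtain ⟨c, hc⟩ := hs
  have h4 := hd.scalar_pow g hg c hc
  have hpow : ∀ k : ℕ, ((iS n r ^ k : GL n F) : Matrix n n F) = r.i ^ k • 1 := fun k => by
    rw [Units.val_pow_eq_pow_val, iS_val, smul_pow, one_pow]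
  obtain ⟨k, hk⟩ : ∃ k : Fin 4, c = r.i ^ (k : ℕ) := by
    have e : (c - 1) * (c + 1) * (c - r.i) * (c + r.i) = 0 := by
      have hi := r.sq
      linear_combination h4 + (1 - c * c) * hi
    rcases mul_eq_zero.1 e with e | e
    · rcases mul_eq_zero.1 e with e | e
      · rcases mul_eq_zero.1 e with e | e
        · exact ⟨0, by simpa using sub_eq_zero.1 e⟩
        · exact ⟨2, by rw [show ((2 : Fin 4) : ℕ) = 2 from rfl, pow_two, r.sq]; linear_combination e⟩
      · exact ⟨1, by simpa using sub_eq_zero.1 e⟩
    · exact ⟨3, by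
        rw [show ((3 : Fin 4) : ℕ) = 2 + 1 from rfl, pow_succ, pow_two, r.sq]; linear_combination e⟩
  exact ⟨k, Units.ext (by rw [hc, hpow, hk])⟩

/-- Three pairs exist. -/
theorem SympData.exists_pairs [Nonempty n] (hcard : 256 ≤ Nat.card R) :
    ∃ P : Pairs n F, ∀ j, P.z j ∈ R ∧ P.x j ∈ R := by
  classical
  have count : ∀ (ι : Type) [Fintype ι] (S : ι → GL n F), Fintype.card ι < 256 →
      ∃ g ∈ R, ∀ i, g ≠ S i := by
    intro ι _ S hι
    by_contra! hno
    have hle : Nat.card R ≤ Fintype.card ι := by
      rw [← Nat.card_eq_fintype_card]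
      refine Nat.card_le_card_of_injective (fun g => (hno g g.2).choose) fun a b h => Subtype.ext ?_
      rw [(hno a a.2).choose_spec, (hno b b.2).choose_spec]
      exact congrArg S h
    omega
  -- the first pair
  obtain ⟨a, ha, b, hb, haa, hbb, hab, -⟩ := hd.exists_pair [] _root_.id (fun g h => h) (by simp)
    (fun g _ _ d _ h => h) (by
      obtain ⟨g, hg, hne⟩ := count (Fin 4) (fun k => iS n r ^ (k : ℕ)) (by simp)
      exact ⟨g, hg, fun hs => by obtain ⟨k, hk⟩ := hd.scalar_cases hg hs; exact hne k hk⟩)
  have adj : ∀ g, ∃ c, g ∈ R → c ∈ R ∧ c * a = a * c ∧ c * b = b * c ∧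
      ∃ e d : Bool, g = c * (if e then a else 1) * (if d then b else 1) := by
    intro g
    by_cases hg : g ∈ R
    · obtain ⟨e, d, c, hc, he, h1, h2⟩ := hd.adjust ha hb hab hg
      exact ⟨c, fun _ => ⟨hc, h1, h2, e, d, he⟩⟩
    · exact ⟨1, fun h => absurd h hg⟩
  choose f hf using adj
  -- the second pair
  obtain ⟨a', ha', b', hb', haa', hbb', hab', hT'⟩ := hd.exists_pair [a, b] f (fun g h => (hf g h).1)
    (fun g hg t ht => by
      simp only [List.mem_cons, List.not_mem_nil, or_false] at ht
      rcases ht with rfl | rfl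
      exacts [(hf g hg).2.1, (hf g hg).2.2.1])
    (fun g _ hgT d hdR hanti => by
      obtain ⟨-, -, -, e, δ, he⟩ := hf d hdR
      have h1 := hgT a (by simp)
      have h2 := hgT b (by simp)
      have hE : g * ((if e then a else 1) * (if δ then b else 1)) =
          (if e then a else 1) * (if δ then b else 1) * g := by
        cases e <;> cases δ <;> simp [h1, h2, ← mul_assoc, mul_assoc a g b]
      rw [he, mul_assoc (f d), ← mul_assoc g, mul_assoc (f d) _ g, ← hE, ← mul_assoc (f d), ← neg_mul] at hanti
      exact mul_right_cancel hanti) (by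
      obtain ⟨g, hg, hne⟩ := count (Fin 4 × Bool × Bool)
        (fun t => iS n r ^ (t.1 : ℕ) * (if t.2.1 then a else 1) * (if t.2.2 then b else 1))
        (by simp [Fintype.card_prod])
      obtain ⟨hfR, -, -, e, δ, he⟩ := hf g hg
      refine ⟨g, hg, fun hs => ?_⟩
      obtain ⟨k, hk⟩ := hd.scalar_cases hfR hs
      exact hne (k, e, δ) (by rw [he, hk]))
  have ha'T := fun t ht => (hT' t ht).1
  have hb'T := fun t ht => (hT' t ht).2
  have adj' : ∀ g, ∃ c, g ∈ R → c ∈ R ∧ (∀ t ∈ [a, b, a', b'], c * t = t * c) ∧
      ∃ e d e' d' : Bool, g = c * (if e' then a' else 1) * (if d' then b' else 1) *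
        (if e then a else 1) * (if d then b else 1) := by
    intro g
    by_cases hg : g ∈ R
    · obtain ⟨h0, h1, h2, e, d, he⟩ := hf g hg
      obtain ⟨e', d', c, hc, he', h1', h2'⟩ := hd.adjust ha' hb' hab' h0
      have hcomm : ∀ t, f g * t = t * f g → a' * t = t * a' → b' * t = t * b' → c * t = t * c := by
        intro t ht hta htb
        have hE : (if e' then a' else 1) * (if d' then b' else 1) * t =
            t * ((if e' then a' else 1) * (if d' then b' else 1)) := by
          cases e' <;> cases d' <;> simp [hta, htb, ← mul_assoc, mul_assoc a' t b']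
          rw [mul_assoc, htb, ← mul_assoc, hta, mul_assoc]
        rw [he', mul_assoc c, mul_assoc c, hE, ← mul_assoc c, ← mul_assoc t] at ht
        exact mul_right_cancel ht
      refine ⟨c, fun _ => ⟨hc, ?_, e, d, e', d', by rw [← he', ← he]⟩⟩
      intro t ht
      simp only [List.mem_cons, List.not_mem_nil, or_false] at ht
      rcases ht with rfl | rfl | rfl | rfl
      · exact hcomm _ h1 (ha'T _ (by simp)) (hb'T _ (by simp))
      · exact hcomm _ h2 (ha'T _ (by simp)) (hb'T _ (by simp))
      · exact h1'
      · exact h2'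
    · exact ⟨1, fun h => absurd h hg⟩
  choose f' hf' using adj'
  -- the third pair
  obtain ⟨a'', ha'', b'', hb'', haa'', hbb'', hab'', hT''⟩ := hd.exists_pair [a, b, a', b'] f'
    (fun g h => (hf' g h).1) (fun g hg t ht => (hf' g hg).2.1 t ht)
    (fun g _ hgT d hdR hanti => by
      obtain ⟨-, -, e, δ, e', δ', he⟩ := hf' d hdR
      have h1 := hgT a (by simp)
      have h2 := hgT b (by simp)
      have h3 := hgT a' (by simp)
      have h4 := hgT b' (by simp)
      have hc : ∀ (q : Bool) (t : GL n F), g * t = t * g → Commute g (if q then t else 1) := fun q t h => by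
        cases q
        · simp
        · exact h
      have hE := ((hc e' a' h3).mul_right (hc δ' b' h4)).mul_right ((hc e a h1).mul_right (hc δ b h2))
      rw [show f' d * (if e' then a' else 1) * (if δ' then b' else 1) * (if e then a else 1) *
        (if δ then b else 1) = f' d * ((if e' then a' else 1) * (if δ' then b' else 1) *
        ((if e then a else 1) * (if δ then b else 1))) by group] at he
      rw [he, ← mul_assoc g, mul_assoc (f' d) _ g, ← hE.eq, ← mul_assoc (f' d), ← neg_mul] at hanti
      exact mul_right_cancel hanti) (by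
      obtain ⟨g, hg, hne⟩ := count (Fin 4 × Bool × Bool × Bool × Bool)
        (fun t => iS n r ^ (t.1 : ℕ) * (if t.2.2.2.1 then a' else 1) * (if t.2.2.2.2 then b' else 1) *
          (if t.2.1 then a else 1) * (if t.2.2.1 then b else 1))
        (by simp [Fintype.card_prod])
      obtain ⟨hfR, -, e, δ, e', δ', he⟩ := hf' g hg
      refine ⟨g, hg, fun hs => ?_⟩
      obtain ⟨k, hk⟩ := hd.scalar_cases hfR hs
      exact hne (k, e, δ, e', δ') (by rw [he, hk]))
  have hA := fun t ht => (hT'' t ht).1
  have hB := fun t ht => (hT'' t ht).2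
  refine ⟨⟨![a, a', a''], ![b, b', b''], fun j => ?_, fun j => ?_, fun j => ?_, fun j k => ?_, fun j k => ?_,
    fun j k hjk => ?_⟩, fun j => ?_⟩
  · fin_cases j <;> assumption
  · fin_cases j <;> assumption
  · fin_cases j <;> assumption
  · have k1 : a' * a = a * a' := ha'T a (by simp)
    have k2 : a'' * a = a * a'' := hA a (by simp)
    have k3 : a'' * a' = a' * a'' := hA a' (by simp)
    fin_cases j <;> fin_cases k <;>
      first
        | rfl
        | exact k1
        | exact k1.symm
        | exact k2
        | exact k2.symm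
        | exact k3
        | exact k3.symm
  · have k1 : b' * b = b * b' := hb'T b (by simp)
    have k2 : b'' * b = b * b'' := hB b (by simp)
    have k3 : b'' * b' = b' * b'' := hB b' (by simp)
    fin_cases j <;> fin_cases k <;>
      first
        | rfl
        | exact k1
        | exact k1.symm
        | exact k2
        | exact k2.symm
        | exact k3
        | exact k3.symm
  · have k1 : a' * b = b * a' := ha'T b (by simp)
    have k2 : b' * a = a * b' := hb'T a (by simp)
    have k3 : a'' * b = b * a'' := hA b (by simp)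
    have k4 : a'' * b' = b' * a'' := hA b' (by simp)
    have k5 : b'' * a = a * b'' := hB a (by simp)
    have k6 : b'' * a' = a' * b'' := hB a' (by simp)
    fin_cases j <;> fin_cases k <;>
      first
        | exact absurd rfl hjk
        | exact k1
        | exact k3
        | exact k4
        | exact k2.symm
        | exact k5.symm
        | exact k6.symm
  · fin_cases j
    exacts [⟨ha, hb⟩, ⟨ha', hb'⟩, ⟨ha'', hb''⟩]

end Cfsg.Agent.H97.CSix
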