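import Mathlib

/-!
Monomial matrices and the lifts of transvections attached to involutive matrices.
-/

set_option autoImplicit false

namespace Cfsg.Agent.H97.CSix

open Matrix

variable {F : Type*} [Field F] {ι : Type*} [Fintype ι] [DecidableEq ι]

/-- The monomial matrix sending the basis vector at `x` to `d x` times the one at `π x`. -/
def mon (π : Equiv.Perm ι) (d : ι → F) : Matrix ι ι F :=
  Matrix.of fun y x => if y = π x then d x else 0

omit [Fintype ι] in
theorem mon_apply (π : Equiv.Perm ι) (d : ι → F) (y x : ι) : mon π d y x = if y = π x then d x else 0 := rfl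

omit [Fintype ι] in
theorem mon_apply_self (π : Equiv.Perm ι) (d : ι → F) (x : ι) : mon π d (π x) x = d x := by simp [mon_apply]

theorem mon_mul (π ρ : Equiv.Perm ι) (d e : ι → F) :
    mon π d * mon ρ e = mon (π * ρ) (fun x => d (ρ x) * e x) := by
  ext y x
  rw [Matrix.mul_apply, Finset.sum_eq_single (ρ x)]
  · simp only [mon_apply, Equiv.Perm.mul_apply, if_true]
    split_ifs <;> simp_all
  · intro z _ hz
    simp [mon_apply, hz]
  · simp

omit [Fintype ι] in
theorem mon_one : mon (1 : Equiv.Perm ι) (fun _ => (1 : F)) = 1 := by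
  ext y x
  by_cases h : y = x <;> simp [mon_apply, Matrix.one_apply, h]

omit [Fintype ι] in
theorem mon_smul (c : F) (π : Equiv.Perm ι) (d : ι → F) : c • mon π d = mon π (fun x => c * d x) := by
  ext y x
  simp [mon_apply, mul_ite]

omit [Fintype ι] in
theorem mon_neg (π : Equiv.Perm ι) (d : ι → F) : -mon π d = mon π (fun x => -d x) := by
  ext y x
  simp [mon_apply, neg_ite]

theorem mon_mulVec (π : Equiv.Perm ι) (d : ι → F) (v : ι → F) (x : ι) :
    (mon π d *ᵥ v) (π x) = d x * v x := by
  rw [Matrix.mulVec, dotProduct, Finset.sum_eq_single x]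
  · simp [mon_apply]
  · intro z _ hz
    simp [mon_apply, π.injective.eq_iff, Ne.symm hz]
  · simp

omit [Fintype ι] in
theorem mon_col (π : Equiv.Perm ι) (d : ι → F) (x : ι) :
    (fun y => mon π d y x) = d x • (Pi.single (π x) (1 : F) : ι → F) := by
  funext y
  by_cases h : y = π x <;> simp [mon_apply, h]

omit [Fintype ι] in
/-- A monomial matrix with no zero entry in its frame determines its permutation and its entries. -/
theorem mon_inj {π ρ : Equiv.Perm ι} {d e : ι → F} (hd : ∀ x, d x ≠ 0) (h : mon π d = mon ρ e) :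
    π = ρ ∧ d = e := by
  have hp : π = ρ := Equiv.ext fun x => by
    by_contra hne
    have := congrFun (congrFun h (π x)) x
    rw [mon_apply_self, mon_apply, if_neg hne] at this
    exact hd x this
  subst hp
  exact ⟨rfl, funext fun x => by
    have := congrFun (congrFun h (π x)) x
    rwa [mon_apply_self, mon_apply_self] at this⟩

theorem mon_trace (π : Equiv.Perm ι) (d : ι → F) :
    (mon π d).trace = ∑ x, if π x = x then d x else 0 := by
  simp [Matrix.trace, mon_apply, eq_comm]

omit [Fintype ι] in
/-- A diagonal matrix as a monomial one. -/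
theorem mon_diag (d : ι → F) : mon (1 : Equiv.Perm ι) d = Matrix.diagonal d := by
  ext y x
  by_cases h : y = x
  · subst h; simp [mon_apply]
  · simp [mon_apply, h]

/-- The monomial unit. -/
def monU (π : Equiv.Perm ι) (d : ι → F) (hd : ∀ x, d x ≠ 0) : GL ι F where
  val := mon π d
  inv := mon π⁻¹ (fun x => (d (π⁻¹ x))⁻¹)
  val_inv := by
    rw [mon_mul, mul_inv_cancel, ← mon_one]
    congr 1
    funext x
    exact mul_inv_cancel₀ (hd _)
  inv_val := by
    rw [mon_mul, inv_mul_cancel, ← mon_one]
    congr 1
    funext x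
    simp [inv_mul_cancel₀ (hd x)]

@[simp] theorem monU_val (π : Equiv.Perm ι) (d : ι → F) (hd : ∀ x, d x ≠ 0) :
    (monU π d hd : Matrix ι ι F) = mon π d := rfl

theorem monU_mul_inv (π : Equiv.Perm ι) (d : ι → F) (hd : ∀ x, d x ≠ 0) :
    ((monU π d hd)⁻¹ : GL ι F) = monU π⁻¹ (fun x => (d (π⁻¹ x))⁻¹) (fun _ => inv_ne_zero (hd _)) :=
  Units.ext rfl

/-! ### Transvection lifts -/

variable {i : F}

/-- The square root of an involution fixing its positive space and multiplying the negative one by `i`. -/
def half (i : F) (p : Matrix ι ι F) : Matrix ι ι F := ((1 + i) / 2) • 1 + ((1 - i) / 2) • p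

theorem half_mul_half (h2 : (2 : F) ≠ 0) (hi : i * i = -1) {p : Matrix ι ι F} (hp : p * p = 1) :
    half i p * half (-i) p = 1 := by
  simp only [half, add_mul, mul_add, smul_mul_assoc, mul_smul_comm, hp, one_mul, mul_one, smul_smul, smul_add]
  match_scalars <;> field_simp <;> first
    | linear_combination (-2 : F) * hi
    | linear_combination (2 : F) * hi

/-- The transvection lift attached to an involution. -/
def halfU (h2 : (2 : F) ≠ 0) (hi : i * i = -1) (p : GL ι F) (hp : p * p = 1) : GL ι F where
  val := half i p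
  inv := half (-i) p
  val_inv := half_mul_half h2 hi (congrArg Units.val hp)
  inv_val := by
    have := half_mul_half (i := -i) h2 (by rw [neg_mul_neg, hi]) (p := (p : Matrix ι ι F)) (congrArg Units.val hp)
    rwa [neg_neg] at this

@[simp] theorem halfU_val (h2 : (2 : F) ≠ 0) (hi : i * i = -1) (p : GL ι F) (hp : p * p = 1) :
    (halfU h2 hi p hp : Matrix ι ι F) = half i p := rfl

theorem halfU_comm (h2 : (2 : F) ≠ 0) (hi : i * i = -1) {p q : GL ι F} (hp : p * p = 1) (h : p * q = q * p) :
    halfU h2 hi p hp * q = q * halfU h2 hi p hp := by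
  have h' : (p : Matrix ι ι F) * q = q * p := congrArg Units.val h
  refine Units.ext ?_
  simp only [Units.val_mul, halfU_val, half, add_mul, mul_add, smul_mul_assoc, mul_smul_comm, one_mul, mul_one, h']

theorem halfU_anti (h2 : (2 : F) ≠ 0) (hi : i * i = -1) {p q : GL ι F} (hp : p * p = 1) (h : p * q = -(q * p)) :
    ((halfU h2 hi p hp * q * (halfU h2 hi p hp)⁻¹ : GL ι F) : Matrix ι ι F) =
      (-i) • ((p : Matrix ι ι F) * q) := by
  have h' : (q : Matrix ι ι F) * p = -((p : Matrix ι ι F) * q) := by
    have := congrArg Units.val h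
    simp only [Units.val_mul, Units.val_neg] at this
    rw [this, neg_neg]
  have hp' : (p : Matrix ι ι F) * p = 1 := congrArg Units.val hp
  have hinv : ((halfU h2 hi p hp)⁻¹ : GL ι F).val = half (-i) (p : Matrix ι ι F) := rfl
  rw [Units.val_mul, Units.val_mul, hinv, halfU_val]
  simp only [half, add_mul, mul_add, smul_mul_assoc, mul_smul_comm, one_mul, mul_one, smul_smul, smul_add,
    mul_assoc (p : Matrix ι ι F) (q : Matrix ι ι F) (p : Matrix ι ι F), h', mul_neg, ← mul_assoc, hp', smul_neg]
  match_scalars <;> field_simp <;> first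
    | linear_combination (2 : F) * hi
    | linear_combination (-2 : F) * hi
    | ring

/-- The controlled product of two commuting involutions. -/
theorem halfU_ctrl (h2 : (2 : F) ≠ 0) (hi : i * i = -1) {p q : GL ι F} (hp : p * p = 1) (hq : q * q = 1)
    (hpq : p * q * (p * q) = 1) :
    ((halfU h2 hi p hp * halfU h2 hi q hq * (halfU h2 hi (p * q) hpq)⁻¹ : GL ι F) : Matrix ι ι F) =
      (2 : F)⁻¹ • (1 + (p : Matrix ι ι F) + (q : Matrix ι ι F) - (p : Matrix ι ι F) * (q : Matrix ι ι F)) := by
  have hp' : (p : Matrix ι ι F) * p = 1 := congrArg Units.val hp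
  have hq' : (q : Matrix ι ι F) * q = 1 := congrArg Units.val hq
  have hc : (q : Matrix ι ι F) * p = p * q := by
    have h := congrArg Units.val hpq
    simp only [Units.val_mul, Units.val_one] at h
    calc (q : Matrix ι ι F) * p = (p * p) * (q * p) * (q * q) := by rw [hp', hq', one_mul, mul_one]
      _ = p * (p * q * (p * q)) * q := by simp only [mul_assoc]
      _ = _ := by rw [h, mul_one]
  have e1 : (q : Matrix ι ι F) * ((p : Matrix ι ι F) * q) = p := by rw [← mul_assoc, hc, mul_assoc, hq', mul_one]
  have e2 : (p : Matrix ι ι F) * q * ((p : Matrix ι ι F) * q) = 1 := by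
    rw [mul_assoc, e1, hp']
  have e3 : (p : Matrix ι ι F) * ((p : Matrix ι ι F) * q) = q := by rw [← mul_assoc, hp', one_mul]
  have hinv : ((halfU h2 hi (p * q) hpq)⁻¹ : GL ι F).val = half (-i) ((p : Matrix ι ι F) * (q : Matrix ι ι F)) := rfl
  rw [Units.val_mul, Units.val_mul, hinv, halfU_val, halfU_val]
  simp only [half, add_mul, mul_add, smul_mul_assoc, mul_smul_comm, one_mul, mul_one, smul_smul, smul_add,
    mul_assoc, e1, e3, hp', hc]
  have i3 : i ^ 3 = -i := by linear_combination i * hi
  have i2 : i ^ 2 = -1 := by linear_combination hi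
  match_scalars <;> field_simp <;> ring_nf <;> simp only [i2, i3] <;> ring

end Cfsg.Agent.H97.CSix
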