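import Cfsg.Agent.H97.CSix.Sign
import Cfsg.Agent.H97.CSix.Group

/-!
When no controlled one-step gate outside the standard group occurs, the centraliser of the sign of the first bit
in an overgroup normalises the standard group.
-/

set_option autoImplicit false
set_option linter.unusedSectionVars false

namespace Cfsg.Agent.H97.CSix

open Matrix

section General

variable {F : Type*} [Field F] {ι : Type*} [AddCommGroup ι] [Qubits ι] [Fintype ι] [DecidableEq ι]
variable (r : Root F)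

/-- Two nonzero multiples of twisted translations are equal only with equal labels. -/
theorem pmat_inj (h2 : (2 : F) ≠ 0) {c d : F} (hc : c ≠ 0) {a b a' b' : ι}
    (h : c • pmat F a b = d • pmat F a' b') : a = a' ∧ b = b' ∧ c = d := by
  rw [pmat, pmat, mon_smul, mon_smul] at h
  obtain ⟨hp, he⟩ := mon_inj (fun x => mul_ne_zero hc (sg_ne_zero _)) h
  have ha : a = a' := by simpa using Equiv.ext_iff.1 hp 0
  have hcd : c = d := by simpa [Qubits.dot_zero] using congrFun he 0
  refine ⟨ha, ?_, hcd⟩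
  by_contra hb
  obtain ⟨x, hx⟩ := Qubits.nondeg (b + b') fun e => hb (by
    rw [add_eq_zero_iff_eq_neg.1 e, Qubits.neg_eq])
  have e := congrFun he x
  simp only [← hcd] at e
  have e' := mul_left_cancel₀ hc e
  rw [Qubits.add_dot] at hx
  rw [show dot b x = dot b' x + 1 by rw [← hx, add_comm (dot b x), ← add_assoc, CharTwo.add_self_eq_zero, zero_add],
    sg_add, sg_one, mul_neg_one] at e'
  exact mul_ne_zero h2 (sg_ne_zero (dot b' x)) (by linear_combination -e')

/-- A scalar in the standard group is a power of `i`. -/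
theorem Root.scal_std [Nonempty ι] {g : GL ι F} (hg : g ∈ r.R ι) {c : F} (hc : (g : Matrix ι ι F) = c • 1) :
    ∃ k : ℕ, c = r.i ^ k := by
  obtain ⟨k, a, b, hk⟩ := hg
  rw [hc, ← pmat_zero] at hk
  obtain ⟨-, -, h⟩ := pmat_inj r.two (pow_ne_zero k (i_ne_zero r.i r.sq)) hk.symm
  exact ⟨k, h.symm⟩

/-- An element fixing or negating every nonscalar involution of the standard group does so to all of it. -/
theorem Root.sign_of_invol {g : GL ι F}
    (h : ∀ p ∈ r.R ι, p * p = 1 → ¬ IsScal p → g * p * g⁻¹ = p ∨ g * p * g⁻¹ = -p) :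
    ∀ p ∈ r.R ι, g * p * g⁻¹ = p ∨ g * p * g⁻¹ = -p := by
  intro p hp
  by_cases hs : IsScal p
  · exact Or.inl (by rw [← hs.comm g, mul_inv_cancel_right])
  obtain ⟨u, hu, huu, hcase⟩ := exists_invol r.i r.sq hp
  have hi : IsScal (iu r.i r.sq : GL ι F) := ⟨r.i, iu_val _ _⟩
  rcases hcase with rfl | rfl
  · exact h _ hu huu hs
  have hus : ¬ IsScal (iu r.i r.sq * p) := by
    rintro ⟨c, hc⟩
    refine hs ⟨-r.i * c, ?_⟩
    rw [Units.val_mul, iu_val, smul_mul_assoc, one_mul] at hc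
    rw [mul_smul, ← hc, smul_smul]
    simp [r.sq]
  have e : g * (iu r.i r.sq * p) * g⁻¹ = iu r.i r.sq * (g * p * g⁻¹) := by
    rw [← mul_assoc g, ← hi.comm g]; group
  rcases h _ hu huu hus with h' | h' <;> rw [e] at h'
  · exact Or.inl (mul_left_cancel h')
  · exact Or.inr (mul_left_cancel (by rw [h', mul_neg]))

theorem IsScal.of_mul_invol {p q : GL ι F} (hq : q * q = 1) (hp : p * p = 1) (h : IsScal (q * p)) [Nonempty ι]
    (hc : q * p = p * q) : q = p ∨ q = -p := by
  obtain ⟨c, hcv⟩ := h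
  obtain ⟨x⟩ := ‹Nonempty ι›
  have e : q * p * (q * p) = 1 :=
    calc q * p * (q * p) = q * p * (p * q) := by rw [← hc]
      _ = q * (p * p) * q := by group
      _ = 1 := by rw [hp, mul_one, hq]
  have e' := congrArg Units.val e
  rw [Units.val_mul, hcv, smul_mul_assoc, one_mul, smul_smul, Units.val_one] at e'
  have e'' := congrFun (congrFun e' x) x
  simp at e''
  rcases mul_self_eq_one_iff.1 e'' with h1 | h1 <;> rw [h1] at hcv
  · left
    have : q * p = 1 := Units.ext (by rw [hcv, one_smul, Units.val_one])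
    rw [← mul_one q, ← hp, ← mul_assoc, this, one_mul]
  · right
    have : q * p = -1 := Units.ext (by rw [hcv, neg_smul, one_smul, Units.val_neg, Units.val_one])
    rw [← mul_one q, ← hp, ← mul_assoc, this, neg_one_mul]

end General

variable {F : Type*} [Field F] (r : Root F)
variable {β : Type*} [AddCommGroup β] [Qubits β] [Fintype β] [DecidableEq β]

/-- Diagonal extension of a member of the normaliser. -/
theorem Root.bd_Y {g : GL β F} (hg : g ∈ r.Y β) : bdU g g ∈ r.Y (ZMod 2 × β) := by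
  refine r.mem_Y fun p hp => ?_
  have key : ∀ x y : GL β F, x ∈ r.R β → (y = x ∨ y = -x) →
      bdU g g * bdU x y * (bdU g g)⁻¹ ∈ r.R (ZMod 2 × β) := by
    intro x y hx hy
    rw [bdU_inv, bdU_mul, bdU_mul]
    have hR := r.conj_mem hg hx
    rcases hy with rfl | rfl
    · exact r.bd_R hR
    · have : bdU (g * x * g⁻¹) (g * -x * g⁻¹) = z1 * bdU (g * x * g⁻¹) (g * x * g⁻¹) := Units.ext (by
        rw [Units.val_mul, z1_val, bdU_val, bdU_val, bd_mul, one_mul, mul_neg, neg_mul, Units.val_neg,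
          neg_one_mul])
      rw [this]
      exact mul_mem (pu_mem _ _ _ _) (r.bd_R hR)
  obtain ⟨x, hx, y, -, hxy, rfl | rfl⟩ := r.R_decomp hp
  · exact key x y hx hxy
  · have e : bdU g g * x1 = x1 * bdU g g := by
      rw [← mul_inv_eq_iff_eq_mul.1 (x1_conj g g)]
    rw [← mul_assoc, e]
    rw [show x1 * bdU g g * bdU x y * (bdU g g)⁻¹ = x1 * (bdU g g * bdU x y * (bdU g g)⁻¹) by group]
    exact mul_mem (pu_mem _ _ _ _) (key x y hx hxy)

variable (H : Subgroup (GL (ZMod 2 × β) F))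

/-- The right embedding. -/
def bdR : GL β F →* GL (ZMod 2 × β) F where
  toFun x := bdU 1 x
  map_one' := bdU_one
  map_mul' x y := by rw [bdU_mul, one_mul]

/-- The projection to the first block. -/
def projX : Subgroup (GL β F) where
  carrier := {x | ∃ y, bdU x y ∈ H}
  one_mem' := ⟨1, by rw [bdU_one]; exact one_mem _⟩
  mul_mem' := by
    rintro x x' ⟨y, hy⟩ ⟨y', hy'⟩
    exact ⟨y * y', by rw [← bdU_mul]; exact mul_mem hy hy'⟩
  inv_mem' := by
    rintro x ⟨y, hy⟩
    exact ⟨y⁻¹, by rw [← bdU_inv]; exact inv_mem hy⟩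

/-- The kernel of the projection. -/
def kerQ : Subgroup (GL β F) := H.comap (bdR (β := β))

theorem mem_kerQ {x : GL β F} : x ∈ kerQ H ↔ bdU 1 x ∈ H := Iff.rfl

theorem mem_projX {x : GL β F} : x ∈ projX H ↔ ∃ y, bdU x y ∈ H := Iff.rfl

variable {H} (hH : r.gam (ZMod 2 × β) ≤ H)
include hH

theorem flip_mem {x y : GL β F} (h : bdU x y ∈ H) : bdU y x ∈ H := by
  have hx1 : (x1 : GL (ZMod 2 × β) F) ∈ H := hH (r.R_le_gam (pu_mem _ _ _ _))
  rw [← x1_conj x y]
  exact mul_mem (mul_mem hx1 h) (inv_mem hx1)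

theorem gam_le_projX {n : GL β F} (hn : n ∈ r.gam β) : n ∈ projX H := ⟨n, hH (r.bd_gam hn)⟩

theorem R_le_kerQ {p : GL β F} (hp : p ∈ r.R β) : p ∈ kerQ H := hH (r.ctrl_mem hp)

theorem kerQ_conj {x q : GL β F} (hx : x ∈ projX H) (hq : q ∈ kerQ H) : x * q * x⁻¹ ∈ kerQ H := by
  obtain ⟨y, hy⟩ := hx
  have h := flip_mem r hH hy
  have := mul_mem (mul_mem h ((mem_kerQ H).1 hq)) (inv_mem h)
  rw [bdU_inv, bdU_mul, bdU_mul, mul_one, mul_inv_cancel] at this
  exact this

theorem kerQ_comm {x n : GL β F} (hx : x ∈ kerQ H) (hn : n ∈ r.gam β) : x * n * x⁻¹ * n⁻¹ ∈ kerQ H := by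
  rw [show x * n * x⁻¹ * n⁻¹ = x * (n * x⁻¹ * n⁻¹) by group]
  exact mul_mem hx (kerQ_conj r hH (gam_le_projX r hH hn) (inv_mem hx))

end Cfsg.Agent.H97.CSix
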