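import Cfsg.Agent.H97.CSix.Mono

/-!
The standard group of symplectic type on an elementary abelian index set and the transvection lifts in its
normaliser.
-/

set_option autoImplicit false

namespace Cfsg.Agent.H97.CSix

open Matrix

/-- A nondegenerate symmetric pairing with values in `ZMod 2` on an elementary abelian group. -/
class Qubits (ι : Type*) [AddCommGroup ι] where
  dot : ι → ι → ZMod 2
  dot_comm : ∀ b x, dot b x = dot x b
  dot_add : ∀ b x y, dot b (x + y) = dot b x + dot b y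
  two : ∀ x : ι, x + x = 0
  nondeg : ∀ b : ι, b ≠ 0 → ∃ x, dot b x = 1
  repr : ∀ f : ι → ZMod 2, (∀ x y, f (x + y) = f x + f y) → ∃ b, ∀ x, f x = dot b x

export Qubits (dot)

instance : Qubits (ZMod 2) where
  dot b x := b * x
  dot_comm := by decide
  dot_add := by decide
  two := by decide
  nondeg := by decide
  repr f hf := ⟨f 1, fun x => by
    have h0 : f 0 = 0 := by
      have h := hf 0 0
      rw [add_zero] at h
      exact left_eq_add.mp h
    rcases (by decide : ∀ w : ZMod 2, w = 0 ∨ w = 1) x with rfl | rfl <;> simp [h0]⟩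

theorem Qubits.dot_zero {ι : Type*} [AddCommGroup ι] [Qubits ι] (b : ι) : dot b (0 : ι) = 0 := by
  have := Qubits.dot_add b 0 0
  rw [add_zero] at this
  exact left_eq_add.mp this

instance {α β : Type*} [AddCommGroup α] [AddCommGroup β] [Qubits α] [Qubits β] : Qubits (α × β) where
  dot b x := dot b.1 x.1 + dot b.2 x.2
  dot_comm b x := by rw [Qubits.dot_comm b.1, Qubits.dot_comm b.2]
  dot_add b x y := by simp only [Prod.fst_add, Prod.snd_add, Qubits.dot_add]; ring
  two x := Prod.ext (Qubits.two _) (Qubits.two _)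
  nondeg := by
    rintro ⟨b, c⟩ h
    by_cases hb : b = 0
    · obtain ⟨x, hx⟩ := Qubits.nondeg c fun hc => h (by rw [hb, hc]; rfl)
      refine ⟨(0, x), ?_⟩
      show dot b (0 : α) + dot c x = 1
      rw [Qubits.dot_zero, hx, zero_add]
    · obtain ⟨x, hx⟩ := Qubits.nondeg b hb
      refine ⟨(x, 0), ?_⟩
      show dot b x + dot c (0 : β) = 1
      rw [Qubits.dot_zero, hx, add_zero]
  repr f hf := by
    obtain ⟨b, hb⟩ := Qubits.repr (fun x : α => f (x, 0)) fun x y => by rw [← hf, Prod.mk_add_mk, add_zero]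
    obtain ⟨c, hc⟩ := Qubits.repr (fun x : β => f (0, x)) fun x y => by rw [← hf, Prod.mk_add_mk, add_zero]
    refine ⟨(b, c), fun x => ?_⟩
    show f x = dot b x.1 + dot c x.2
    rw [← hb, ← hc, ← hf, Prod.mk_add_mk, add_zero, zero_add]

variable {F : Type*} [Field F] {ι : Type*} [AddCommGroup ι] [Qubits ι]

theorem Qubits.zero_dot (x : ι) : dot (0 : ι) x = 0 := by rw [Qubits.dot_comm, Qubits.dot_zero]

theorem Qubits.add_dot (b c x : ι) : dot (b + c) x = dot b x + dot c x := by
  rw [Qubits.dot_comm, Qubits.dot_add, Qubits.dot_comm x, Qubits.dot_comm x]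

theorem Qubits.neg_eq (x : ι) : -x = x := neg_eq_of_add_eq_zero_right (Qubits.two x)

/-- The sign attached to an element of `ZMod 2`. -/
def sg (F : Type*) [Field F] (v : ZMod 2) : F := if v = 0 then 1 else -1

theorem sg_add (u v : ZMod 2) : sg F (u + v) = sg F u * sg F v := by
  rcases (by decide : ∀ w : ZMod 2, w = 0 ∨ w = 1) u with rfl | rfl <;>
    rcases (by decide : ∀ w : ZMod 2, w = 0 ∨ w = 1) v with rfl | rfl <;> simp [sg, (by decide : (1 : ZMod 2) + 1 = 0)]

@[simp] theorem sg_zero : sg F (0 : ZMod 2) = 1 := if_pos rfl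

@[simp] theorem sg_one : sg F (1 : ZMod 2) = -1 := if_neg (by decide)

theorem sg_ne_zero (v : ZMod 2) : sg F v ≠ 0 := by unfold sg; split_ifs <;> simp

theorem sg_mul_self (v : ZMod 2) : sg F v * sg F v = 1 := by unfold sg; split_ifs <;> simp

theorem sg_cases (v : ZMod 2) : (v = 0 ∧ sg F v = 1) ∨ (v = 1 ∧ sg F v = -1) := by
  rcases (by decide : ∀ w : ZMod 2, w = 0 ∨ w = 1) v with rfl | rfl
  · exact Or.inl ⟨rfl, sg_zero⟩
  · exact Or.inr ⟨rfl, sg_one⟩

variable [Fintype ι] [DecidableEq ι]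

/-- The matrix of the translation by `a` twisted by the character of `b`. -/
def pmat (F : Type*) [Field F] (a b : ι) : Matrix ι ι F := mon (Equiv.addRight a) fun x => sg F (dot b x)

theorem pmat_mul (a b a' b' : ι) :
    pmat F a b * pmat F a' b' = sg F (dot b a') • pmat F (a + a') (b + b') := by
  rw [pmat, pmat, mon_mul, pmat, mon_smul]
  congr 1
  · ext x; simp [add_comm a a', add_assoc]
  · funext x
    show sg F (dot b (x + a')) * sg F (dot b' x) = _
    rw [Qubits.dot_add, Qubits.add_dot, sg_add, sg_add]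
    ring

omit [Fintype ι] in
theorem pmat_zero : pmat F (0 : ι) 0 = 1 := by
  rw [pmat, ← mon_one]
  congr 1
  · ext x; simp
  · funext x; simp [Qubits.zero_dot]

theorem pmat_sq (a b : ι) : pmat F a b * pmat F a b = sg F (dot b a) • 1 := by
  rw [pmat_mul, Qubits.two, Qubits.two, pmat_zero]

theorem pmat_comm (a b a' b' : ι) :
    pmat F a b * pmat F a' b' = sg F (dot b a' + dot b' a) • (pmat F a' b' * pmat F a b) := by
  rw [pmat_mul, pmat_mul, smul_smul, add_comm a a', add_comm b b', sg_add, mul_assoc, sg_mul_self, mul_one]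

/-- An element of the standard group. -/
def IsPauli (i : F) (g : GL ι F) : Prop :=
  ∃ (k : ℕ) (a b : ι), (g : Matrix ι ι F) = i ^ k • pmat F a b

/-- A scalar matrix. -/
def IsScal (g : GL ι F) : Prop := ∃ c : F, (g : Matrix ι ι F) = c • 1

omit [AddCommGroup ι] [Qubits ι] in
theorem IsScal.comm {g : GL ι F} (hg : IsScal g) (h : GL ι F) : g * h = h * g := by
  obtain ⟨c, hc⟩ := hg
  exact Units.ext (by rw [Units.val_mul, Units.val_mul, hc, smul_mul_assoc, mul_smul_comm, one_mul, mul_one])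

variable (i : F) (hi : i * i = -1)
include hi

theorem i_ne_zero : i ≠ 0 := by
  rintro rfl
  simp at hi

theorem neg_one_eq_pow : (-1 : F) = i ^ 2 := by rw [pow_two, hi]

theorem sg_eq_pow (v : ZMod 2) : ∃ k : ℕ, sg F v = i ^ k := by
  rcases sg_cases (F := F) v with ⟨-, h⟩ | ⟨-, h⟩
  · exact ⟨0, by rw [h, pow_zero]⟩
  · exact ⟨2, by rw [h, neg_one_eq_pow i hi]⟩

theorem i_pow_four : i ^ 4 = 1 := by linear_combination (i * i - 1) * hi

variable (ι) in
/-- The standard group of symplectic type. -/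
def std : Subgroup (GL ι F) where
  carrier := {g | IsPauli i g}
  one_mem' := ⟨0, 0, 0, by simp [pmat_zero]⟩
  mul_mem' := by
    rintro g h ⟨k, a, b, hg⟩ ⟨l, a', b', hh⟩
    obtain ⟨m, hm⟩ := sg_eq_pow i hi (dot b a')
    refine ⟨k + l + m, a + a', b + b', ?_⟩
    rw [Units.val_mul, hg, hh, smul_mul_assoc, mul_smul_comm, pmat_mul, hm, smul_smul, smul_smul]
    congr 1
    ring
  inv_mem' := by
    rintro g ⟨k, a, b, hg⟩
    obtain ⟨m, hm⟩ := sg_eq_pow i hi (dot b a)
    refine ⟨3 * (k + m), a, b, ?_⟩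
    refine (Units.inv_eq_of_mul_eq_one_right (u := g) ?_)
    rw [hg, smul_mul_assoc, mul_smul_comm, pmat_sq, smul_smul, smul_smul, hm, ← pow_add, ← pow_add,
      show k + 3 * (k + m) + m = 4 * (k + m) by ring, pow_mul, i_pow_four i hi, one_pow, one_smul]

theorem mem_std {g : GL ι F} : g ∈ std ι i hi ↔ IsPauli i g := Iff.rfl

theorem std_finite : Finite (std ι i hi) := by
  let f : Fin 4 × ι × ι → Matrix ι ι F := fun t => i ^ (t.1 : ℕ) • pmat F t.2.1 t.2.2
  refine Finite.of_injective (β := Set.range f) (fun g => ⟨(g : GL ι F), ?_⟩) fun g h e => ?_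
  · obtain ⟨k, a, b, hg⟩ := g.2
    exact ⟨(⟨k % 4, Nat.mod_lt _ (by norm_num)⟩, a, b), by
      show i ^ (k % 4) • _ = _
      rw [← pow_eq_pow_mod k (i_pow_four i hi), hg]⟩
  · exact Subtype.ext (Units.ext (congrArg Subtype.val e))

/-- The unit of a twisted translation. -/
def pu (a b : ι) : GL ι F := monU (Equiv.addRight a) (fun x => sg F (dot b x)) fun _ => sg_ne_zero _

omit hi in
theorem pu_val (a b : ι) : ((pu a b : GL ι F) : Matrix ι ι F) = pmat F a b := rfl

theorem pu_mem (a b : ι) : (pu a b : GL ι F) ∈ std ι i hi := ⟨0, a, b, by rw [pu_val, pow_zero, one_smul]⟩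

/-- The scalar `i`. -/
def iu : GL ι F where
  val := i • 1
  inv := (-i) • 1
  val_inv := by rw [smul_mul_assoc, one_mul, smul_smul]; simp [hi]
  inv_val := by rw [smul_mul_assoc, one_mul, smul_smul]; simp [hi]

theorem iu_val : ((iu i hi : GL ι F) : Matrix ι ι F) = i • 1 := rfl

theorem iu_mem : (iu i hi : GL ι F) ∈ std ι i hi := ⟨1, 0, 0, by rw [iu_val, pmat_zero, pow_one]⟩

theorem neg_mem_std {g : GL ι F} (hg : g ∈ std ι i hi) : -g ∈ std ι i hi := by
  obtain ⟨k, a, b, hg⟩ := hg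
  exact ⟨k + 2, a, b, by rw [Units.val_neg, hg, pow_add, ← neg_one_eq_pow i hi, mul_neg_one, neg_smul]⟩

theorem comm_or_anti {g h : GL ι F} (hg : g ∈ std ι i hi) (hh : h ∈ std ι i hi) :
    g * h = h * g ∨ g * h = -(h * g) := by
  obtain ⟨k, a, b, hg⟩ := hg
  obtain ⟨l, a', b', hh⟩ := hh
  have e : (g : Matrix ι ι F) * h = sg F (dot b a' + dot b' a) • ((h : Matrix ι ι F) * g) := by
    rw [hg, hh, smul_mul_assoc, mul_smul_comm, smul_mul_assoc, mul_smul_comm, pmat_comm, smul_smul, smul_smul,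
      smul_smul, smul_smul]
    congr 1
    ring
  rcases sg_cases (F := F) (dot b a' + dot b' a) with ⟨-, hs⟩ | ⟨-, hs⟩ <;> rw [hs] at e
  · exact Or.inl (Units.ext (by rw [Units.val_mul, Units.val_mul, e, one_smul]))
  · exact Or.inr (Units.ext (by rw [Units.val_mul, Units.val_neg, Units.val_mul, e, neg_smul, one_smul]))

theorem sq_cases {g : GL ι F} (hg : g ∈ std ι i hi) : g * g = 1 ∨ g * g = -1 := by
  obtain ⟨k, a, b, hg⟩ := hg
  obtain ⟨m, hm⟩ := sg_eq_pow i hi (dot b a)
  have e : (g : Matrix ι ι F) * g = (sg F (dot b a) * (-1) ^ k) • 1 := by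
    rw [hg, smul_mul_assoc, mul_smul_comm, pmat_sq, smul_smul, smul_smul]
    congr 1
    rw [← hi, mul_pow]
    ring
  rcases sg_cases (F := F) (dot b a) with ⟨-, hs⟩ | ⟨-, hs⟩ <;> rcases neg_one_pow_eq_or F k with hk | hk <;>
    rw [hs, hk] at e <;> norm_num at e
  exacts [Or.inl (Units.ext (by simpa using e)), Or.inr (Units.ext (by simpa using e)),
    Or.inr (Units.ext (by simpa using e)), Or.inl (Units.ext (by simpa using e))]

/-- An element of the standard group, made involutive. -/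
theorem exists_invol {g : GL ι F} (hg : g ∈ std ι i hi) :
    ∃ h ∈ std ι i hi, h * h = 1 ∧ (h = g ∨ h = iu i hi * g) := by
  rcases sq_cases i hi hg with h | h
  · exact ⟨g, hg, h, Or.inl rfl⟩
  · refine ⟨iu i hi * g, mul_mem (iu_mem i hi) hg, ?_, Or.inr rfl⟩
    have hc : IsScal (iu i hi : GL ι F) := ⟨i, iu_val i hi⟩
    rw [mul_assoc, ← mul_assoc g, ← hc.comm g, mul_assoc, ← mul_assoc, h]
    refine Units.ext ?_
    simp [iu_val, smul_smul, hi]

theorem not_scal {g : GL ι F} (h2 : (2 : F) ≠ 0) (hg : g ∈ std ι i hi) (hs : ¬ IsScal g) :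
    ∃ u ∈ std ι i hi, g * u = -(u * g) := by
  obtain ⟨k, a, b, hg⟩ := hg
  have key : ∀ a' b' : ι, dot b a' + dot b' a = 1 → g * pu a' b' = -(pu a' b' * g) := fun a' b' h =>
    Units.ext (by
      rw [Units.val_mul, Units.val_neg, Units.val_mul, hg, pu_val, smul_mul_assoc, mul_smul_comm, pmat_comm, h,
        sg_one, neg_smul, one_smul, smul_neg])
  by_cases hb : b = 0
  · by_cases ha : a = 0
    · exact absurd ⟨i ^ k, by rw [hg, ha, hb, pmat_zero]⟩ hs
    · obtain ⟨y, hy⟩ := Qubits.nondeg a ha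
      exact ⟨pu 0 y, pu_mem i hi _ _, key 0 y (by rw [Qubits.dot_zero, Qubits.dot_comm, hy, zero_add])⟩
  · obtain ⟨x, hx⟩ := Qubits.nondeg b hb
    exact ⟨pu x 0, pu_mem i hi _ _, key x 0 (by rw [Qubits.zero_dot, hx, add_zero])⟩

theorem trace_eq_zero {g : GL ι F} (h2 : (2 : F) ≠ 0) (hg : g ∈ std ι i hi) (hs : ¬ IsScal g) :
    (g : Matrix ι ι F).trace = 0 := by
  obtain ⟨u, -, hu⟩ := not_scal i hi h2 hg hs
  have h1 : u * g * u⁻¹ = -g := by
    rw [mul_inv_eq_iff_eq_mul, neg_mul, hu, neg_neg]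
  have h3 := congrArg (fun a : GL ι F => (a : Matrix ι ι F).trace) h1
  simp only [Units.val_mul, Units.val_neg, Matrix.trace_neg, Matrix.trace_units_conj] at h3
  exact (mul_eq_zero.1 (show (2 : F) * _ = 0 by linear_combination h3)).resolve_left h2

/-- A matrix commuting with the standard group is scalar. -/
theorem schur {M : Matrix ι ι F} (h2 : (2 : F) ≠ 0)
    (h : ∀ g ∈ std ι i hi, M * (g : Matrix ι ι F) = (g : Matrix ι ι F) * M) : ∃ c : F, M = c • 1 := by
  have hd : ∀ y x, y ≠ x → M y x = 0 := by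
    intro y x hyx
    obtain ⟨b, hb⟩ := Qubits.nondeg (y + x) fun h0 => hyx (by
      rw [← Qubits.neg_eq x]; exact eq_neg_of_add_eq_zero_left h0)
    rw [Qubits.dot_comm] at hb
    have e := congrFun (congrFun (h _ (pu_mem i hi 0 b)) y) x
    rw [pu_val, pmat, show Equiv.addRight (0 : ι) = 1 from Equiv.ext fun z => by simp, mon_diag,
      Matrix.mul_diagonal, Matrix.diagonal_mul] at e
    rw [Qubits.dot_add] at hb
    have hne : sg F (dot b y) = -sg F (dot b x) := by
      rw [show dot b y = dot b x + 1 by rw [← hb]; linear_combination -(ZMod.natCast_self 2) * dot b x, sg_add,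
        sg_one, mul_neg_one]
    rw [hne] at e
    have : (2 * sg F (dot b x)) * M y x = 0 := by linear_combination e
    exact (mul_eq_zero.1 this).resolve_left (mul_ne_zero h2 (sg_ne_zero _))
  refine ⟨M 0 0, Matrix.ext fun y x => ?_⟩
  by_cases hyx : y = x
  · subst hyx
    have e := congrFun (congrFun (h _ (pu_mem i hi y 0)) y) 0
    rw [pu_val, pmat, Matrix.mul_apply, Matrix.mul_apply,
      Finset.sum_eq_single y (fun z _ hz => by simp [mon_apply, hz]) (by simp),
      Finset.sum_eq_single (0 : ι) (fun z _ hz => by rw [hd _ _ hz, mul_zero]) (by simp)] at e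
    simpa [mon_apply, Qubits.zero_dot] using e
  · simp [hd _ _ hyx, hyx]

/-- An involution of the standard group anticommuting with two given nonscalar elements. -/
theorem exists_anti_both (h2 : (2 : F) ≠ 0) {v w : GL ι F} (hv : v ∈ std ι i hi) (hw : w ∈ std ι i hi)
    (hvs : ¬ IsScal v) (hws : ¬ IsScal w) :
    ∃ u ∈ std ι i hi, u * u = 1 ∧ v * u = -(u * v) ∧ w * u = -(u * w) := by
  suffices h : ∃ u ∈ std ι i hi, v * u = -(u * v) ∧ w * u = -(u * w) by
    obtain ⟨u, hu, h1, h3⟩ := h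
    obtain ⟨u', hu', hu'2, h⟩ := exists_invol i hi hu
    refine ⟨u', hu', hu'2, ?_⟩
    rcases h with rfl | rfl
    · exact ⟨h1, h3⟩
    · have hc : IsScal (iu i hi : GL ι F) := ⟨i, iu_val i hi⟩
      constructor
      · rw [← mul_assoc, ← hc.comm v, mul_assoc, h1, mul_neg, mul_assoc]
      · rw [← mul_assoc, ← hc.comm w, mul_assoc, h3, mul_neg, mul_assoc]
  obtain ⟨x, hx, hvx⟩ := not_scal i hi h2 hv hvs
  obtain ⟨y, hy, hwy⟩ := not_scal i hi h2 hw hws
  rcases comm_or_anti i hi hw hx with hwx | hwx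
  swap
  · exact ⟨x, hx, hvx, hwx⟩
  rcases comm_or_anti i hi hv hy with hvy | hvy
  swap
  · exact ⟨y, hy, hvy, hwy⟩
  refine ⟨x * y, mul_mem hx hy, ?_, ?_⟩
  · rw [← mul_assoc, hvx, neg_mul, mul_assoc x v y, hvy, ← mul_assoc]
  · rw [← mul_assoc, hwx, mul_assoc x w y, hwy, mul_neg, ← mul_assoc]

end Cfsg.Agent.H97.CSix
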