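import Cfsg.Agent.H97.CSix.Gam

/-!
Monomial members of the generated group: shears of the index set, phases and controlled signs.
-/

set_option autoImplicit false

namespace Cfsg.Agent.H97.CSix

open Matrix

variable {F : Type*} [Field F] {ι : Type*} [AddCommGroup ι] [Qubits ι] [Fintype ι] [DecidableEq ι]

theorem pu_sq_of_dot {a b : ι} (h : dot b a = 0) : (pu a b : GL ι F) * pu a b = 1 :=
  Units.ext (by rw [Units.val_mul, pu_val, pmat_sq, h, sg_zero, one_smul, Units.val_one])

omit [Fintype ι] in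
theorem pmat_diag (b : ι) : pmat F (0 : ι) b = Matrix.diagonal fun x => sg F (dot b x) := by
  rw [pmat, ← mon_diag]
  congr 1
  exact Equiv.ext fun z => by simp

/-- The shear of the index set along `a` with respect to `b`. -/
def shear (a b : ι) (h : dot b a = 0) : Equiv.Perm ι where
  toFun x := if dot b x = 1 then x + a else x
  invFun x := if dot b x = 1 then x + a else x
  left_inv x := by
    by_cases hx : dot b x = 1
    · simp [hx, Qubits.dot_add, h, add_assoc, Qubits.two]
    · simp [hx]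
  right_inv x := by
    by_cases hx : dot b x = 1
    · simp [hx, Qubits.dot_add, h, add_assoc, Qubits.two]
    · simp [hx]

omit [Fintype ι] [DecidableEq ι] in
theorem shear_apply (a b : ι) (h : dot b a = 0) (x : ι) :
    shear a b h x = if dot b x = 1 then x + a else x := rfl

variable (r : Root F)

/-- The permutation matrix of a shear lies in the generated group. -/
theorem Root.shear_mem (a b : ι) (h : dot b a = 0) :
    monU (shear a b h) (fun _ => (1 : F)) (fun _ => one_ne_zero) ∈ r.gam ι := by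
  have hq : (pu a 0 : GL ι F) * pu a 0 = 1 := pu_sq_of_dot (Qubits.zero_dot a)
  have hp : (pu 0 b : GL ι F) * pu 0 b = 1 := pu_sq_of_dot (Qubits.dot_zero b)
  have hpq' : (pu 0 b : GL ι F) * pu a 0 = pu a b := Units.ext (by
    rw [Units.val_mul, pu_val, pu_val, pmat_mul, h, sg_zero, one_smul, zero_add, add_zero, pu_val])
  have hpq : (pu 0 b : GL ι F) * pu a 0 * (pu 0 b * pu a 0) = 1 := by rw [hpq']; exact pu_sq_of_dot h
  have hm : (r.T _ hp * r.T _ hq * (r.T _ hpq)⁻¹ : GL ι F) ∈ r.gam ι :=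
    mul_mem (mul_mem (r.T_mem_gam hp (pu_mem _ _ _ _)) (r.T_mem_gam hq (pu_mem _ _ _ _)))
      (inv_mem (r.T_mem_gam hpq (by rw [hpq']; exact pu_mem _ _ _ _)))
  convert hm using 1
  refine Units.ext ?_
  rw [Root.T, Root.T, Root.T, halfU_ctrl r.two r.sq hp hq hpq, pu_val, pu_val, pmat_mul, h, sg_zero, one_smul,
    zero_add, add_zero, monU_val, pmat_diag]
  ext y x
  simp only [Matrix.smul_apply, Matrix.sub_apply, Matrix.add_apply, pmat, mon_apply, Equiv.coe_addRight,
    shear_apply, smul_eq_mul, Matrix.one_apply, Qubits.zero_dot, sg_zero, Matrix.diagonal_apply]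
  have h01 : ¬ ((0 : ZMod 2) = 1) := by decide
  have e : ∀ (P : Prop), P → P = True := fun P h => eq_true h
  rcases sg_cases (F := F) (dot b x) with ⟨hd, hs⟩ | ⟨hd, hs⟩ <;>
    rcases em (y = x) with hyx | hyx <;> rcases em (y = x + a) with hya | hya <;>
    first
    | (simp only [hd, hs, e _ hyx, e _ hya, h01, if_true, if_false, sg_zero, sg_one]; field_simp [r.two]; ring1)
    | (simp only [hd, hs, hyx, e _ hya, h01, if_true, if_false, sg_zero, sg_one]; field_simp [r.two]; ring1)
    | (simp only [hd, hs, e _ hyx, hya, h01, if_true, if_false, sg_zero, sg_one]; field_simp [r.two]; ring1)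
    | (simp only [hd, hs, hyx, hya, h01, if_true, if_false, sg_zero, sg_one]; field_simp [r.two]; ring1)
    | (simp [hd, hs, hyx]; split_ifs <;> field_simp [r.two] <;> ring1)

/-- A phase along a linear function. -/
theorem Root.phase_mem (b : ι) :
    monU (1 : Equiv.Perm ι) (fun x => if dot b x = 1 then r.i else 1)
      (fun x => by split_ifs <;> simp [i_ne_zero r.i r.sq]) ∈ r.gam ι := by
  have hp : (pu 0 b : GL ι F) * pu 0 b = 1 := pu_sq_of_dot (Qubits.dot_zero b)
  convert r.T_mem_gam hp (pu_mem _ _ _ _) using 1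
  refine Units.ext ?_
  rw [monU_val, mon_diag, Root.T, halfU_val, half, pu_val, pmat_diag, ← Matrix.diagonal_one, ← Matrix.diagonal_smul,
    ← Matrix.diagonal_smul, Matrix.diagonal_add]
  congr 1
  funext x
  simp only [Pi.smul_apply, smul_eq_mul]
  rcases sg_cases (F := F) (dot b x) with ⟨hd, hs⟩ | ⟨hd, hs⟩ <;> simp [hd] <;> field_simp [r.two] <;> ring

/-- The controlled sign of two linear functions. -/
theorem Root.cz_mem (a b : ι) :
    monU (1 : Equiv.Perm ι) (fun x => if dot a x = 1 ∧ dot b x = 1 then (-1 : F) else 1)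
      (fun x => by split_ifs <;> simp) ∈ r.gam ι := by
  have hp : (pu 0 a : GL ι F) * pu 0 a = 1 := pu_sq_of_dot (Qubits.dot_zero a)
  have hq : (pu 0 b : GL ι F) * pu 0 b = 1 := pu_sq_of_dot (Qubits.dot_zero b)
  have hpq' : (pu 0 a : GL ι F) * pu 0 b = pu 0 (a + b) := Units.ext (by
    rw [Units.val_mul, pu_val, pu_val, pmat_mul, Qubits.dot_zero, sg_zero, one_smul, zero_add, pu_val])
  have hpq : (pu 0 a : GL ι F) * pu 0 b * (pu 0 a * pu 0 b) = 1 := by
    rw [hpq']; exact pu_sq_of_dot (Qubits.dot_zero _)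
  have hm : (r.T _ hp * r.T _ hq * (r.T _ hpq)⁻¹ : GL ι F) ∈ r.gam ι :=
    mul_mem (mul_mem (r.T_mem_gam hp (pu_mem _ _ _ _)) (r.T_mem_gam hq (pu_mem _ _ _ _)))
      (inv_mem (r.T_mem_gam hpq (by rw [hpq']; exact pu_mem _ _ _ _)))
  convert hm using 1
  refine Units.ext ?_
  rw [Root.T, Root.T, Root.T, halfU_ctrl r.two r.sq hp hq hpq, pu_val, pu_val, pmat_mul, Qubits.dot_zero, sg_zero,
    one_smul, zero_add, monU_val, mon_diag, pmat_diag, pmat_diag, pmat_diag, ← Matrix.diagonal_one,
    Matrix.diagonal_add, Matrix.diagonal_add, Matrix.diagonal_sub, ← Matrix.diagonal_smul]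
  congr 1
  funext x
  simp only [Pi.smul_apply, smul_eq_mul, Qubits.add_dot, sg_add]
  rcases sg_cases (F := F) (dot a x) with ⟨hd, hs⟩ | ⟨hd, hs⟩ <;>
    rcases sg_cases (F := F) (dot b x) with ⟨hd', hs'⟩ | ⟨hd', hs'⟩ <;>
    simp [hd, hd'] <;> field_simp [r.two] <;> ring

end Cfsg.Agent.H97.CSix
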