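import Cfsg.Agent.H97.CSix.Block

/-!
Elements moving every element of the standard group only by a sign, conjugation by permutations, and the exchange
of the first two bits.
-/

set_option autoImplicit false

namespace Cfsg.Agent.H97.CSix

open Matrix

variable {F : Type*} [Field F] {ι : Type*} [AddCommGroup ι] [Qubits ι] [Fintype ι] [DecidableEq ι]

variable (r : Root F)

/-- An element negating or fixing every element of the standard group is a multiple of one of them. -/
theorem Root.exists_eq_smul {g : GL ι F} (hg : ∀ p ∈ r.R ι, g * p * g⁻¹ = p ∨ g * p * g⁻¹ = -p) :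
    ∃ (c : F) (a b : ι), (g : Matrix ι ι F) = c • pmat F a b := by
  classical
  set M := (g : Matrix ι ι F) with hM
  have hsigned : ∀ p : GL ι F, p ∈ r.R ι → ∃ s : ZMod 2, M * (p : Matrix ι ι F) = sg F s • ((p : Matrix ι ι F) * M) := by
    intro p hp
    rcases hg p hp with h | h <;> rw [mul_inv_eq_iff_eq_mul] at h <;> have h' := congrArg Units.val h
    · exact ⟨0, by rw [sg_zero, one_smul]; simpa using h'⟩
    · exact ⟨1, by rw [sg_one, neg_smul, one_smul]; simpa using h'⟩
  choose χ hχ using fun b : ι => hsigned (pu 0 b) (pu_mem _ _ _ _)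
  have hz : ∀ y x b, M y x ≠ 0 → dot b (x + y) = χ b := by
    intro y x b hne
    have e := congrFun (congrFun (hχ b) y) x
    rw [pu_val, pmat_diag, Matrix.smul_apply, Matrix.mul_diagonal, Matrix.diagonal_mul, smul_eq_mul] at e
    have e' : sg F (dot b x) = sg F (χ b + dot b y) := by
      rw [sg_add]
      exact mul_left_cancel₀ hne (by linear_combination e)
    have hinj : ∀ u v : ZMod 2, sg F u = sg F v → u = v := by
      intro u v h
      have h2 := r.two
      rcases sg_cases (F := F) u with ⟨hu, hu'⟩ | ⟨hu, hu'⟩ <;> rcases sg_cases (F := F) v with ⟨hv, hv'⟩ | ⟨hv, hv'⟩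
      · rw [hu, hv]
      · rw [hu', hv'] at h; exact absurd (show (2 : F) = 0 by linear_combination h) h2
      · rw [hu', hv'] at h; exact absurd (show (2 : F) = 0 by linear_combination -h) h2
      · rw [hu, hv]
    rw [Qubits.dot_add, hinj _ _ e', add_assoc, CharTwo.add_self_eq_zero, add_zero]
  obtain ⟨a, ha⟩ : ∃ a, M a 0 ≠ 0 := by
    by_contra! h
    have := congrFun (congrFun (Units.inv_mul g) 0) 0
    simp [Matrix.mul_apply, ← hM, h] at this
  have hsupp : ∀ y x, y ≠ x + a → M y x = 0 := by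
    intro y x hne
    by_contra h0
    obtain ⟨b, hb⟩ := Qubits.nondeg (x + y + a) fun h => hne (by
      have := eq_neg_of_add_eq_zero_left h
      rw [Qubits.neg_eq] at this
      rw [← this, ← add_assoc, Qubits.two, zero_add])
    rw [Qubits.dot_comm, Qubits.dot_add, hz y x b h0, ← hz a 0 b ha, zero_add, CharTwo.add_self_eq_zero] at hb
    exact zero_ne_one hb
  choose ε hε using fun c : ι => hsigned (pu c 0) (pu_mem _ _ _ _)
  have hd : ∀ x c, M (x + c + a) (x + c) = sg F (ε c) * M (x + a) x := by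
    intro x c
    have e := congrFun (congrFun (hε c) (x + c + a)) x
    rw [pu_val, Matrix.smul_apply, Matrix.mul_apply, Matrix.mul_apply,
      Finset.sum_eq_single (x + c) (fun z _ hz' => by
        simp [pmat, mon_apply, Ne.symm (show x + c ≠ z from Ne.symm hz')]) (by simp),
      Finset.sum_eq_single (x + a) (fun z _ hz' => by rw [hsupp z x hz', mul_zero]) (by simp)] at e
    simpa [pmat, mon_apply, Qubits.zero_dot, add_right_comm x c a] using e
  have hadd : ∀ c e, ε (c + e) = ε c + ε e := by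
    intro c e
    have h0 : M (0 + a) 0 ≠ 0 := by rwa [zero_add]
    have h1 := hd 0 (c + e)
    have h2 := hd (0 + c) e
    rw [hd 0 c] at h2
    rw [add_assoc (0 : ι) c e] at h2
    rw [h1, ← mul_assoc, ← sg_add, add_comm (ε e)] at h2
    have h3 := mul_right_cancel₀ h0 h2
    rcases sg_cases (F := F) (ε (c + e)) with ⟨hu, hu'⟩ | ⟨hu, hu'⟩ <;>
      rcases sg_cases (F := F) (ε c + ε e) with ⟨hv, hv'⟩ | ⟨hv, hv'⟩ <;> rw [hu', hv'] at h3 <;> rw [hu, hv]
    · exact absurd (show (2 : F) = 0 by linear_combination h3) r.two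
    · exact absurd (show (2 : F) = 0 by linear_combination -h3) r.two
  obtain ⟨b, hb⟩ := Qubits.repr ε hadd
  refine ⟨M a 0, a, b, Matrix.ext fun y x => ?_⟩
  by_cases hy : y = x + a
  · subst hy
    have := hd 0 x
    rw [zero_add, zero_add] at this
    show M (x + a) x = _
    rw [this]
    simp [pmat, mon_apply, hb, mul_comm]
  · simp [pmat, mon_apply, hy, ← hM, hsupp y x hy]

/-- A permutation matrix. -/
abbrev permU (σ : Equiv.Perm ι) : GL ι F := monU σ (fun _ => (1 : F)) (fun _ => one_ne_zero)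

omit [AddCommGroup ι] [Qubits ι] in
theorem permU_mul (σ τ : Equiv.Perm ι) : (permU σ : GL ι F) * permU τ = permU (σ * τ) :=
  Units.ext (by rw [Units.val_mul, monU_val, monU_val, mon_mul, monU_val, mul_one])

omit [AddCommGroup ι] [Qubits ι] in
theorem permU_conj (σ : Equiv.Perm ι) (g : GL ι F) (u v : ι) :
    ((permU σ * g * (permU σ)⁻¹ : GL ι F) : Matrix ι ι F) (σ u) (σ v) = (g : Matrix ι ι F) u v := by
  rw [Units.val_mul, Units.val_mul, monU_mul_inv, monU_val, monU_val, Matrix.mul_apply,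
    Finset.sum_eq_single v (fun z _ hz => by simp [mon_apply, hz]) (by simp), Matrix.mul_apply,
    Finset.sum_eq_single u (fun z _ hz => by simp [mon_apply, Ne.symm hz]) (by simp)]
  simp [mon_apply]

omit [AddCommGroup ι] [Qubits ι] in
theorem conj_T {n p : GL ι F} (hp : p * p = 1) (hq : n * p * n⁻¹ * (n * p * n⁻¹) = 1) :
    n * r.T p hp * n⁻¹ = r.T (n * p * n⁻¹) hq := by
  refine Units.ext ?_
  simp only [Units.val_mul, Root.T, halfU_val, half, mul_add, add_mul, mul_smul_comm, smul_mul_assoc, mul_one,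
    Units.mul_inv]

variable {γ : Type*} [AddCommGroup γ] [Qubits γ] [Fintype γ] [DecidableEq γ]

/-- The exchange of the first two bits. -/
def swapPerm (γ : Type*) : Equiv.Perm (ZMod 2 × (ZMod 2 × γ)) where
  toFun x := (x.2.1, (x.1, x.2.2))
  invFun x := (x.2.1, (x.1, x.2.2))
  left_inv _ := rfl
  right_inv _ := rfl

theorem Root.swap_mem : (permU (swapPerm γ) : GL (ZMod 2 × (ZMod 2 × γ)) F) ∈ r.gam (ZMod 2 × (ZMod 2 × γ)) := by
  set a : ZMod 2 × (ZMod 2 × γ) := (0, (1, 0)) with ha
  set b : ZMod 2 × (ZMod 2 × γ) := (1, (0, 0)) with hb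
  have hab : dot b a = 0 := by simp [ha, hb, dot_prod, Qubits.dot_zero]
  have hba : dot a b = 0 := by rw [Qubits.dot_comm, hab]
  have h := mul_mem (mul_mem (r.shear_mem a b hab) (r.shear_mem b a hba)) (r.shear_mem a b hab)
  rw [show monU (shear a b hab) (fun _ => (1 : F)) (fun _ => one_ne_zero) = permU (shear a b hab) from rfl,
    show monU (shear b a hba) (fun _ => (1 : F)) (fun _ => one_ne_zero) = permU (shear b a hba) from rfl,
    permU_mul, permU_mul] at h
  convert h using 2
  refine Equiv.ext fun x => ?_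
  obtain ⟨p, q, c⟩ := x
  rcases z2_cases p with rfl | rfl <;> rcases z2_cases q with rfl | rfl <;>
    simp [swapPerm, Equiv.Perm.mul_apply, shear_apply, ha, hb, dot_prod, Qubits.zero_dot, Qubits.dot_zero,
      (by decide : (1 : ZMod 2) + 1 = 0)]

theorem swap_bdU (x y : GL γ F) :
    (permU (swapPerm γ) : GL (ZMod 2 × (ZMod 2 × γ)) F) * bdU 1 (bdU x y) * (permU (swapPerm γ))⁻¹ =
      bdU (bdU 1 x) (bdU 1 y) := by
  refine Units.ext (Matrix.ext fun u v => ?_)
  obtain ⟨u, rfl⟩ := (swapPerm γ).surjective u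
  obtain ⟨v, rfl⟩ := (swapPerm γ).surjective v
  rw [permU_conj]
  obtain ⟨u1, u2, u3⟩ := u
  obtain ⟨v1, v2, v3⟩ := v
  simp only [swapPerm, Equiv.coe_fn_mk, bdU_val, bd_apply, Units.val_one, Matrix.one_apply]
  rcases z2_cases u1 with rfl | rfl <;> rcases z2_cases u2 with rfl | rfl <;> rcases z2_cases v1 with rfl | rfl <;>
    rcases z2_cases v2 with rfl | rfl <;> simp [z2_ne, z2_ne.symm, Matrix.one_apply]

theorem swap_x1 :
    (permU (swapPerm γ) : GL (ZMod 2 × (ZMod 2 × γ)) F) * x1 * (permU (swapPerm γ))⁻¹ = bdU x1 x1 := by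
  refine Units.ext (Matrix.ext fun u v => ?_)
  obtain ⟨u, rfl⟩ := (swapPerm γ).surjective u
  obtain ⟨v, rfl⟩ := (swapPerm γ).surjective v
  rw [permU_conj]
  obtain ⟨u1, u2, u3⟩ := u
  obtain ⟨v1, v2, v3⟩ := v
  simp only [swapPerm, Equiv.coe_fn_mk, bdU_val, bd_apply, pu_val, pmat, mon_apply, Equiv.coe_addRight]
  rcases z2_cases u1 with rfl | rfl <;> rcases z2_cases u2 with rfl | rfl <;> rcases z2_cases v1 with rfl | rfl <;>
    rcases z2_cases v2 with rfl | rfl <;>
    simp [z2_ne, z2_ne.symm, Qubits.zero_dot, Prod.ext_iff, (by decide : (1 : ZMod 2) + 1 = 0)]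

end Cfsg.Agent.H97.CSix
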