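import Cfsg.Agent.H97.CSix.Pauli

/-!
The symplectic space of the labels of twisted translations and its self-adjoint nilpotent maps.
-/

set_option autoImplicit false
set_option linter.unusedSectionVars false

namespace Cfsg.Agent.H97.CSix

open Module

variable {ι : Type*} [AddCommGroup ι] [Qubits ι] [Module (ZMod 2) ι]

/-- The commutation form on labels. -/
def sB (v w : ι × ι) : ZMod 2 := dot v.2 w.1 + dot w.2 v.1

theorem sB_comm (v w : ι × ι) : sB v w = sB w v := add_comm _ _

theorem sB_add_right (v w w' : ι × ι) : sB v (w + w') = sB v w + sB v w' := by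
  simp only [sB, Prod.fst_add, Prod.snd_add, Qubits.dot_add, Qubits.add_dot]
  abel

theorem sB_add_left (v v' w : ι × ι) : sB (v + v') w = sB v w + sB v' w := by
  rw [sB_comm, sB_add_right, sB_comm w, sB_comm w]

theorem sB_zero_right (v : ι × ι) : sB v 0 = 0 := by
  simp [sB, Qubits.dot_zero, Qubits.zero_dot]

theorem sB_zero_left (v : ι × ι) : sB 0 v = 0 := by rw [sB_comm, sB_zero_right]

theorem sB_self (v : ι × ι) : sB v v = 0 := CharTwo.add_self_eq_zero _

theorem lab_two (v : ι × ι) : v + v = 0 := Qubits.two v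

theorem sB_nondeg {v : ι × ι} (h : ∀ w, sB v w = 0) : v = 0 := by
  by_contra hv
  obtain ⟨x, hx⟩ := Qubits.nondeg (ι := ι × ι) v hv
  have e := h (x.2, x.1)
  simp only [sB] at e
  rw [Qubits.dot_comm v.2, Qubits.dot_comm x.1] at e
  change dot v.1 x.1 + dot v.2 x.2 = 1 at hx
  rw [Qubits.dot_comm v.2 x.2] at hx
  rw [add_comm, e] at hx
  exact zero_ne_one hx

theorem sB_smul_left (p : ZMod 2) (v w : ι × ι) : sB (p • v) w = p * sB v w := by
  rcases (by decide : ∀ p : ZMod 2, p = 0 ∨ p = 1) p with rfl | rfl <;> simp [sB_zero_left]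

theorem sB_ext {v v' : ι × ι} (h : ∀ w, sB v w = sB v' w) : v = v' := by
  have h0 : v + v' = 0 := sB_nondeg fun w => by rw [sB_add_left, h, CharTwo.add_self_eq_zero]
  rw [← add_zero v, ← lab_two v', ← add_assoc, h0, zero_add]

/-- The commutation form as a bilinear form. -/
def sForm : LinearMap.BilinForm (ZMod 2) (ι × ι) :=
  (AddMonoidHom.mk' (fun v => (AddMonoidHom.mk' (fun w => sB v w) (sB_add_right v)).toZModLinearMap 2)
    (fun v v' => LinearMap.ext fun w => by simp [sB_add_left])).toZModLinearMap 2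

theorem sForm_apply (v w : ι × ι) : sForm v w = sB v w := rfl

theorem sForm_nondegenerate : (sForm (ι := ι)).Nondegenerate := by
  constructor <;> intro v h <;> refine sB_nondeg fun w => ?_
  · exact h w
  · rw [sB_comm]; exact h w

theorem sForm_refl : (sForm (ι := ι)).IsRefl := fun v w h => by
  rw [sForm_apply] at h ⊢; rw [sB_comm, h]

/-- A self-adjoint map of square zero. -/
structure IsNil (φ : (ι × ι) →ₗ[ZMod 2] (ι × ι)) : Prop where
  sq : ∀ x, φ (φ x) = 0
  adj : ∀ x y, sB (φ x) y = sB x (φ y)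

set_option synthInstance.maxSize 2000 in
set_option synthInstance.maxHeartbeats 400000 in
theorem three_lemma : ∀ a b c d e f x y z : ZMod 2,
    (∀ p q r : ZMod 2, a * p + d * q + e * r = 0 → d * p + b * q + f * r = 0 → e * p + f * q + c * r = 0 →
      p = 0 ∧ q = 0 ∧ r = 0) →
    a * x + d * y + e * z = a → d * x + b * y + f * z = b → e * x + f * y + c * z = c →
    x * a + y * b + z * c = 1 := by decide +kernel

variable [Finite ι]

theorem finrank_lab : finrank (ZMod 2) (ι × ι) = 2 * finrank (ZMod 2) ι := by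
  rw [Module.finrank_prod, two_mul]

namespace IsNil

variable {φ : (ι × ι) →ₗ[ZMod 2] (ι × ι)} (h : IsNil φ)
include h

theorem range_le_ker : LinearMap.range φ ≤ LinearMap.ker φ := by
  rintro _ ⟨x, rfl⟩; exact h.sq x

theorem dim_ker : finrank (ZMod 2) ι ≤ finrank (ZMod 2) (LinearMap.ker φ) := by
  have h1 := φ.finrank_range_add_finrank_ker
  have h2 := Submodule.finrank_mono h.range_le_ker
  rw [finrank_lab] at h1
  omega

theorem range_eq : LinearMap.range φ = sForm.orthogonal (LinearMap.ker φ) := by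
  refine Submodule.eq_of_le_of_finrank_le ?_ ?_
  · rintro _ ⟨x, rfl⟩ y hy
    show sForm y (φ x) = 0
    rw [sForm_apply, ← h.adj, LinearMap.mem_ker.1 hy, sB_zero_left]
  · rw [LinearMap.BilinForm.finrank_orthogonal sForm_nondegenerate]
    have h1 := φ.finrank_range_add_finrank_ker
    omega

/-- The diagonal vector. -/
theorem exists_diag (h3 : finrank (ZMod 2) ι = 3) (hk : finrank (ZMod 2) (LinearMap.ker φ) = 3) :
    ∃ D x, φ x = D ∧ (∀ w, sB D w = sB w (φ w)) ∧ sB x (φ x) = 1 := by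
  obtain ⟨b, hb⟩ := Qubits.repr (ι := ι × ι) (fun w => sB w (φ w)) fun x y => by
    rw [map_add, sB_add_left, sB_add_right, sB_add_right, ← h.adj x y, sB_comm (φ x) y]
    linear_combination (CharTwo.add_self_eq_zero (sB y (φ x)))
  set D : ι × ι := (b.2, b.1) with hD
  have hDB : ∀ w, sB D w = sB w (φ w) := fun w => by
    rw [show sB w (φ w) = dot b w from hb w]
    show dot b.1 w.1 + dot w.2 b.2 = dot b.1 w.1 + dot b.2 w.2
    rw [Qubits.dot_comm w.2]
  have hDker : D ∈ LinearMap.range φ := by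
    rw [h.range_eq]
    intro y hy
    show sForm y D = 0
    rw [sForm_apply, sB_comm, hDB, LinearMap.mem_ker.1 hy, sB_zero_right]
  obtain ⟨x, hx⟩ := hDker
  refine ⟨D, x, hx, hDB, ?_⟩
  obtain ⟨C, hC⟩ := Submodule.exists_isCompl (LinearMap.ker φ)
  have hCd : finrank (ZMod 2) C = 3 := by
    have := Submodule.finrank_add_eq_of_isCompl hC
    rw [finrank_lab, h3, hk] at this
    omega
  let e := Module.finBasisOfFinrankEq (ZMod 2) C hCd
  have hdec : ∀ y : ι × ι, ∃ p q r : ZMod 2, φ y = φ (p • (e 0).1 + q • (e 1).1 + r • (e 2).1) := by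
    intro y
    obtain ⟨k, hk', z, hz, rfl⟩ := Submodule.mem_sup.1 (hC.sup_eq_top ▸ Submodule.mem_top (x := y))
    refine ⟨e.repr ⟨z, hz⟩ 0, e.repr ⟨z, hz⟩ 1, e.repr ⟨z, hz⟩ 2, ?_⟩
    rw [map_add, LinearMap.mem_ker.1 hk', zero_add]
    congr 1
    have := congrArg Subtype.val (e.sum_repr ⟨z, hz⟩)
    simp only [Submodule.coe_sum, Fin.sum_univ_three, Submodule.coe_smul] at this
    exact this.symm
  set G : Fin 3 → Fin 3 → ZMod 2 := fun i j => sB (e i).1 (φ (e j).1) with hG
  have hsym : ∀ i j, G i j = G j i := fun i j => by rw [hG]; simp only; rw [← h.adj, sB_comm]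
  have hexp : ∀ (i : Fin 3) (p q r : ZMod 2),
      sB (e i).1 (φ (p • (e 0).1 + q • (e 1).1 + r • (e 2).1)) = G i 0 * p + G i 1 * q + G i 2 * r := by
    intro i p q r
    rw [← sForm_apply]
    simp only [map_add, map_smul, smul_eq_mul, sForm_apply, hG]
    ring
  have hinv : ∀ p q r : ZMod 2, G 0 0 * p + G 0 1 * q + G 0 2 * r = 0 → G 0 1 * p + G 1 1 * q + G 1 2 * r = 0 →
      G 0 2 * p + G 1 2 * q + G 2 2 * r = 0 → p = 0 ∧ q = 0 ∧ r = 0 := by
    intro p q r e0 e1 e2
    rw [hsym 0 1] at e1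
    rw [hsym 0 2, hsym 1 2] at e2
    set y := p • (e 0).1 + q • (e 1).1 + r • (e 2).1 with hy
    have hy0 : φ y = 0 := by
      refine sB_nondeg fun w => ?_
      rw [h.adj]
      obtain ⟨p', q', r', hw⟩ := hdec w
      rw [hw, ← h.adj, sB_comm, sB_add_left, sB_add_left, sB_smul_left, sB_smul_left, sB_smul_left, hy, hexp, hexp,
        hexp, e0, e1, e2]
      simp
    have hyC : y ∈ C := C.add_mem (C.add_mem (C.smul_mem _ (e 0).2) (C.smul_mem _ (e 1).2)) (C.smul_mem _ (e 2).2)
    have h0 := Submodule.disjoint_def.1 hC.disjoint y (LinearMap.mem_ker.2 hy0) hyC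
    have hli := Fintype.linearIndependent_iff.1 e.linearIndependent ![p, q, r] (by
      refine Subtype.ext ?_
      simp only [Submodule.coe_sum, Fin.sum_univ_three, Submodule.coe_smul, Submodule.coe_zero]
      exact h0)
    exact ⟨hli 0, hli 1, hli 2⟩
  obtain ⟨p, q, r, hpqr⟩ := hdec x
  have hdiag : ∀ i, G i 0 * p + G i 1 * q + G i 2 * r = G i i := fun i => by
    rw [← hexp, ← hpqr, hx, sB_comm, hDB]
  have := three_lemma (G 0 0) (G 1 1) (G 2 2) (G 0 1) (G 0 2) (G 1 2) p q r hinv (hdiag 0)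
    (by rw [hsym 0 1]; exact hdiag 1) (by rw [hsym 0 2, hsym 1 2]; exact hdiag 2)
  rw [hx, sB_comm, ← this]
  conv_lhs => rw [← hx, h.adj, hpqr]
  rw [← h.adj, hx, ← sForm_apply]
  simp only [map_add, map_smul, sForm_apply, hDB, smul_eq_mul, hG]

end IsNil

end Cfsg.Agent.H97.CSix
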